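import Cfsg.Prelude.Def_CaseTheorems
import Cfsg.Prelude.Def_Involutions
import Cfsg.Prelude.Def_Exceptional
import Cfsg.Agent.Lib.Recog.EPPOTwo.Basic

/-!
Simple groups in which the centraliser of every involution is a 2-group: the definitions shared
by the pieces of the classification.
-/

set_option autoImplicit false
set_option linter.dupNamespace false

namespace CfsgLib.Recog.CIT

open EPPOTwo (O2)

universe u

/-- Every involution centraliser is a 2-group. -/
def CIT (G : Type*) [Group G] : Prop :=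
  ∀ t : G, orderOf t = 2 → IsPGroup 2 (Subgroup.centralizer ({t} : Set G))

/-- The structure forced by a strongly embedded subgroup: its Sylow 2-subgroup `S` is normal, with a
cyclic complement `D` of order `q - 1` regular on the `q - 1` involutions of `S`. -/
structure SEData (G : Type*) [Group G] (S D : Subgroup G) (q : ℕ) : Prop where
  isP : IsPGroup 2 S
  maxP : ∀ P : Subgroup G, IsPGroup 2 P → S ≤ P → P = S
  se : Cfsg.IsStronglyEmbedded (Subgroup.normalizer (S : Set G))
  four_le : 4 ≤ q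
  isPow : ∃ n, q = 2 ^ n
  le_norm : D ≤ Subgroup.normalizer (S : Set G)
  card_norm : Nat.card (Subgroup.normalizer (S : Set G)) = Nat.card S * (q - 1)
  card_D : Nat.card D = q - 1
  cyclic_D : IsCyclic D
  central : ∀ t ∈ S, t * t = 1 → ∀ s ∈ S, s * t = t * s
  card_invol : Nat.card {t : G // t ∈ S ∧ orderOf t = 2} = q - 1
  centralizer_eq : ∀ t ∈ S, orderOf t = 2 → Subgroup.centralizer ({t} : Set G) = S
  trans : ∀ t ∈ S, ∀ u ∈ S, orderOf t = 2 → orderOf u = 2 → ∃ d ∈ D, d * t * d⁻¹ = u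
  inverter : ∃ w : G, orderOf w = 2 ∧ w ∉ Subgroup.normalizer (S : Set G) ∧
    ∀ d ∈ D, w * d * w⁻¹ = d⁻¹
  card_G : Nat.card G = (Nat.card S + 1) * Nat.card S * (q - 1)

/-- The group has the structure `SEData`. -/
def HasSE (G : Type*) [Group G] : Prop := ∃ (S D : Subgroup G) (q : ℕ), SEData G S D q

/-- `PSL₂` over a field of order `2^n`, `n ≥ 2`. -/
def IsL2Two (G : Type*) [Group G] : Prop :=
  ∃ (F : Type) (_ : Field F) (_ : Fintype F), (∃ n : ℕ, 2 ≤ n ∧ Fintype.card F = 2 ^ n) ∧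
    Nonempty (G ≃* Matrix.ProjectiveSpecialLinearGroup (Fin 2) F)

/-- `PSL₃` over the field with four elements. -/
def IsL34 (G : Type*) [Group G] : Prop :=
  ∃ (F : Type) (_ : Field F) (_ : Fintype F), Fintype.card F = 4 ∧
    Nonempty (G ≃* Matrix.ProjectiveSpecialLinearGroup (Fin 3) F)

/-- `PSL₂(q)` for the odd `q` of the list, with two symmetric groups of degree four sharing a
dihedral group of order eight. -/
def IsOddType (G : Type*) [Group G] : Prop :=
  (∃ (F : Type) (_ : Field F) (_ : Fintype F),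
    (Fintype.card F = 9 ∨
      ((Fintype.card F).Prime ∧ ∃ k : ℕ, Fintype.card F = 2 ^ k + 1 ∨ Fintype.card F + 1 = 2 ^ k)) ∧
    Nonempty (G ≃* Matrix.ProjectiveSpecialLinearGroup (Fin 2) F)) ∧
  ∃ M₁ M₂ : Subgroup G, M₁ ≠ M₂ ∧ Nonempty (M₁ ≃* Equiv.Perm (Fin 4)) ∧
    Nonempty (M₂ ≃* Equiv.Perm (Fin 4)) ∧ Nat.card ↥(M₁ ⊓ M₂) = 8

/-- The simple groups of the classification, with the data the induction uses. -/
def Known (G : Type*) [Group G] : Prop :=
  (HasSE G ∧ (IsL2Two G ∨ Cfsg.IsSuzuki G)) ∨ IsOddType G ∨ IsL34 G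

/-- A group in the situation of the induction step. -/
structure Ctx (G : Type u) [Group G] : Prop where
  simple : IsSimpleGroup G
  noncomm : ∃ a b : G, a * b ≠ b * a
  cit : CIT G
  ih : ∀ (X : Type u) [Group X] [Finite X], IsSimpleGroup X → (∃ a b : X, a * b ≠ b * a) →
    CIT X → Nat.card X < Nat.card G → Known X

/-- A maximal subgroup with a nontrivial normal 2-subgroup. -/
structure Loc {G : Type*} [Group G] (M : Subgroup G) : Prop where
  nt : O2 M ≠ ⊥
  max : ∀ K : Subgroup G, M ≤ K → O2 K ≠ ⊥ → K = M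

/-- The quotient of a nonsolvable maximal 2-local subgroup by its 2-radical. -/
structure Top {G : Type u} [Group G] (M : Subgroup G) (X : Type u) [Group X] (π : M →* X)
    (S D : Subgroup X) (q : ℕ) : Prop where
  loc : Loc M
  cent : Subgroup.centralizer (O2 M : Set G) ≤ O2 M
  surj : Function.Surjective π
  ker : π.ker = (O2 M).subgroupOf M
  simple : IsSimpleGroup X
  cit : CIT X
  data : SEData X S D q
  kind : IsL2Two X ∨ Cfsg.IsSuzuki X

/-- The two maximal 2-local subgroups of type `2⁴:A₅` sharing a Sylow 2-subgroup. -/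
structure Pair {G : Type*} [Group G] (M N Q A T : Subgroup G) : Prop where
  locM : Loc M
  locN : Loc N
  eqQ : Q = O2 M
  eqA : A = O2 N
  elemQ : ∀ x ∈ Q, x * x = 1
  elemA : ∀ x ∈ A, x * x = 1
  cardQ : Nat.card Q = 16
  cardA : Nat.card A = 16
  card_inf : Nat.card ↥(Q ⊓ A) = 4
  eqT : T = Q ⊔ A
  leM : T ≤ M
  leN : T ≤ N
  cardT : Nat.card T = 64
  maxT : ∀ P : Subgroup G, IsPGroup 2 P → T ≤ P → P = T
  invol : ∀ t ∈ T, t * t = 1 → t ∈ Q ∨ t ∈ A
  topM : ∃ π : M →* alternatingGroup (Fin 5), Function.Surjective π ∧ π.ker = Q.subgroupOf M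
  topN : ∃ π : N →* alternatingGroup (Fin 5), Function.Surjective π ∧ π.ker = A.subgroupOf N
  transQ : ∀ u ∈ Q, ∀ v ∈ Q, u ≠ 1 → v ≠ 1 → ∃ g ∈ M, g * u * g⁻¹ = v
  transA : ∀ u ∈ A, ∀ v ∈ A, u ≠ 1 → v ≠ 1 → ∃ g ∈ N, g * u * g⁻¹ = v
  not_conj : ∀ g : G, Q.map (MulAut.conj g).toMonoidHom ≠ A

end CfsgLib.Recog.CIT
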