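import Cfsg.Agent.Lib.Recog.CIT.LocalL2Swap
import Cfsg.Agent.Lib.Classical.PSLSimple
import Cfsg.Agent.Lib.Small.Order60

/-!
A maximal 2-local subgroup with quotient `SL₂(2ⁿ)` gives a pair of subgroups of type `2⁴:A₅`
sharing a Sylow 2-subgroup.
-/

set_option autoImplicit false
set_option linter.style.haveILetI false
set_option linter.unusedSectionVars false

namespace CfsgLib.Recog.CIT.L2

open Matrix Matrix.SpecialLinearGroup CfsgLib.Classical CfsgLib.LocalEven
open EPPOTwo (O2 IsTwo TSyl)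

universe u

variable {G : Type u} [Group G] [Finite G]

theorem exists_top_alt {M T : Subgroup G} {F : Type} [Field F] [Finite F] [CharP F 2] {k : ℕ}
    (d : Nat2 M T F k) (hq : Nat.card F = 4) :
    ∃ π : M →* alternatingGroup (Fin 5), Function.Surjective π ∧ π.ker = (O2 M).subgroupOf M := by
  haveI := Fintype.ofFinite F
  haveI : IsSimpleGroup (Matrix.SpecialLinearGroup (Fin 2) F) := by
    haveI := isSimpleGroup_PSL_fin (F := F) 2 le_rfl fun _ => hq.ge
    haveI : Nontrivial (Matrix.SpecialLinearGroup (Fin 2) F) :=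
      pslEquivSL.toEquiv.nontrivial
    exact IsSimpleGroup.isSimpleGroup_of_surjective pslEquivSL.symm.toMonoidHom
      pslEquivSL.symm.surjective
  obtain ⟨e⟩ := Small.equiv_alternating_five (G := Matrix.SpecialLinearGroup (Fin 2) F)
    (by rw [card_SL_two, hq]; norm_num)
  let φ : M →* Matrix.SpecialLinearGroup (Fin 2) F :=
    MonoidHom.mk' (fun x => d.r x.1) fun a b => d.r_mul a.2 b.2
  refine ⟨e.toMonoidHom.comp φ, e.surjective.comp fun g => ?_, ?_⟩
  · obtain ⟨m, hm, hr⟩ := d.r_surj g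
    exact ⟨⟨m, hm⟩, hr⟩
  · refine (MonoidHom.ker_mulEquiv_comp φ e).trans ?_
    ext x
    rw [MonoidHom.mem_ker, Subgroup.mem_subgroupOf, ← d.r_eq_one x.2]
    rfl

/-- The order of a Suzuki group is not that of `SL₂(q)`. -/
theorem not_suzuki_order {a m : ℕ} (ha : 1 ≤ a)
    (h : (2 ^ a + 1) * 2 ^ a * (2 ^ a - 1) =
      (2 ^ (2 * m + 1)) ^ 2 * ((2 ^ (2 * m + 1)) ^ 2 + 1) * (2 ^ (2 * m + 1) - 1)) : False := by
  obtain ⟨b, hb⟩ : ∃ b, 2 * m + 1 = b + 1 := ⟨2 * m, rfl⟩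
  obtain ⟨c, hc⟩ : ∃ c, a = c + 1 := ⟨a - 1, by omega⟩
  rw [hb, hc, ← pow_mul] at h
  have ho : ∀ n : ℕ, Odd (2 ^ (n + 1) + 1) := fun n =>
    ⟨2 ^ n, by rw [pow_succ]; ring⟩
  have ho' : ∀ n : ℕ, Odd (2 ^ (n + 1) - 1) := fun n => by
    have := Nat.one_le_two_pow (n := n)
    exact ⟨2 ^ n - 1, by rw [pow_succ]; omega⟩
  have h1 : (2 : ℕ) ^ (c + 1) ∣ 2 ^ ((b + 1) * 2) := by
    refine ((Nat.Coprime.pow_left _ ?_).dvd_of_dvd_mul_right
      (k := 2 ^ (c + 1)) (m := 2 ^ ((b + 1) * 2))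
      (n := (2 ^ ((b + 1) * 2) + 1) * (2 ^ (b + 1) - 1)) ?_)
    · refine Nat.coprime_two_left.2 (Nat.odd_mul.2 ⟨?_, ho' b⟩)
      rw [show (b + 1) * 2 = (b * 2 + 1) + 1 by ring]
      exact ho _
    · rw [← mul_assoc, ← h]
      exact ⟨(2 ^ (c + 1) + 1) * (2 ^ (c + 1) - 1), by ring⟩
  have h2 : (2 : ℕ) ^ ((b + 1) * 2) ∣ 2 ^ (c + 1) := by
    refine ((Nat.Coprime.pow_left _ ?_).dvd_of_dvd_mul_right
      (k := 2 ^ ((b + 1) * 2)) (m := 2 ^ (c + 1))
      (n := (2 ^ (c + 1) + 1) * (2 ^ (c + 1) - 1)) ?_)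
    · exact Nat.coprime_two_left.2 (Nat.odd_mul.2 ⟨ho c, ho' c⟩)
    · rw [show 2 ^ (c + 1) * ((2 ^ (c + 1) + 1) * (2 ^ (c + 1) - 1)) =
        (2 ^ (c + 1) + 1) * 2 ^ (c + 1) * (2 ^ (c + 1) - 1) by ring, h, mul_assoc]
      exact Dvd.intro _ rfl
  have h3 := Nat.dvd_antisymm h1 h2
  rw [h3] at h
  have hpos : 0 < (2 ^ ((b + 1) * 2) + 1) * 2 ^ ((b + 1) * 2) := by positivity
  rw [show 2 ^ ((b + 1) * 2) * (2 ^ ((b + 1) * 2) + 1) * (2 ^ (b + 1) - 1) =
    (2 ^ ((b + 1) * 2) + 1) * 2 ^ ((b + 1) * 2) * (2 ^ (b + 1) - 1) by ring] at h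
  have h4 := Nat.eq_of_mul_eq_mul_left hpos h
  have h5 : (2 : ℕ) ^ (b + 1) < 2 ^ ((b + 1) * 2) :=
    Nat.pow_lt_pow_right (by norm_num) (by omega)
  have h6 := Nat.one_le_two_pow (n := b + 1)
  omega

/-- A solvable group without normal 2-subgroup in which involution centralisers are 2-groups has
no four-group. -/
theorem false_of_four {X : Type*} [Group X] [Finite X] (hX : CIT X) (hs : Group.IsSolvable X)
    (hO : Cfsg.pCore 2 X = ⊥) {a b : X} (ha : a * a = 1) (hb : b * b = 1) (ha1 : a ≠ 1)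
    (hb1 : b ≠ 1) (hab : a ≠ b) (hc : a * b = b * a) : False := by
  classical
  have hex := hs.solvable
  obtain ⟨n, hn⟩ : ∃ n, derivedSeries X n ≠ ⊥ ∧ derivedSeries X (n + 1) = ⊥ := by
    have hpos : Nat.find hex ≠ 0 := fun e => by
      have h := Nat.find_spec hex
      rw [e, derivedSeries_zero] at h
      exact ha1 (Subgroup.mem_bot.1 (h ▸ Subgroup.mem_top a))
    refine ⟨Nat.find hex - 1, Nat.find_min hex (by omega), ?_⟩
    rw [Nat.sub_add_cancel (by omega)]
    exact Nat.find_spec hex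
  set V := derivedSeries X n with hV
  have hVn : V.Normal := derivedSeries_normal X n
  have hcomm : ∀ v ∈ V, ∀ w ∈ V, v * w = w * v := fun v hv w hw => by
    refine commutatorElement_eq_one_iff_mul_comm.1 (Subgroup.mem_bot.1 ?_)
    rw [← hn.2, derivedSeries_succ]
    exact Subgroup.commutator_mem_commutator hv hw
  have hodd : ∀ v ∈ V, v * v = 1 → v = 1 := fun v hv hv2 => by
    let W : Subgroup X :=
      { carrier := {w | w ∈ V ∧ w * w = 1}
        one_mem' := ⟨one_mem _, one_mul 1⟩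
        mul_mem' := fun {x y} hx hy => ⟨mul_mem hx.1 hy.1, by
          rw [show x * y * (x * y) = x * (y * x) * y by group, hcomm y hy.1 x hx.1,
            show x * (x * y) * y = x * x * (y * y) by group, hx.2, hy.2, one_mul]⟩
        inv_mem' := fun {x} hx => ⟨inv_mem hx.1, by rw [← _root_.mul_inv_rev, hx.2, inv_one]⟩ }
    have hWn : W.Normal := ⟨fun w hw g => ⟨hVn.conj_mem w hw.1 g, by
      rw [show g * w * g⁻¹ * (g * w * g⁻¹) = g * (w * w) * g⁻¹ by group, hw.2, mul_one,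
        mul_inv_cancel]⟩⟩
    have hW : W ≤ Cfsg.pCore 2 X :=
      Base.le_pCore (EPPOTwo.isPGroup_of_isTwo fun w hw => EPPOTwo.isTwo_of_sq hw.2)
    exact Subgroup.mem_bot.1 (hO ▸ hW ⟨hv, hv2⟩)
  have hinv : ∀ t : X, t * t = 1 → t ≠ 1 → ∀ v ∈ V, t * v * t⁻¹ = v⁻¹ := by
    intro t ht ht1 v hv
    have htv : t * v * t⁻¹ ∈ V := hVn.conj_mem v hv t
    refine (inv_eq_of_mul_eq_one_right ?_).symm
    by_contra hw
    refine ht1 (hX.eq_one_of_commute (x := v * (t * v * t⁻¹)) ?_ hw (EPPOTwo.isTwo_of_sq ht) ?_)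
    · rw [← Nat.not_even_iff_odd]
      intro hev
      obtain ⟨j, hj⟩ := hev
      have hmem := pow_mem (mul_mem hv htv) j
      have h1 := hodd _ hmem (by rw [← pow_add, ← hj, pow_orderOf_eq_one])
      have hpos := orderOf_pos (v * (t * v * t⁻¹))
      have h2 := Nat.le_of_dvd (show 0 < j by omega) (orderOf_dvd_of_pow_eq_one h1)
      omega
    · show v * (t * v * t⁻¹) * t = t * (v * (t * v * t⁻¹))
      rw [show t * (v * (t * v * t⁻¹)) = t * v * t⁻¹ * ((t * t) * v * t⁻¹) by group, ht, one_mul,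
        ← mul_assoc (t * v * t⁻¹) v, ← hcomm v hv _ htv, inv_eq_of_mul_eq_one_right ht]
  obtain ⟨v, hv, hv1⟩ := (Subgroup.ne_bot_iff_exists_ne_one).1 hn.1 |>.elim
    fun x hx => (⟨x.1, x.2, fun e => hx (Subtype.ext e)⟩ : ∃ v, v ∈ V ∧ v ≠ 1)
  have h3 := hinv (a * b) (by rw [show a * b * (a * b) = a * (b * a) * b by group, ← hc,
    show a * (a * b) * b = a * a * (b * b) by group, ha, hb, one_mul]) (fun e => hab (by
      rw [← inv_eq_of_mul_eq_one_right ha, inv_eq_of_mul_eq_one_right e])) v hv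
  have h4 : a * b * v * (a * b)⁻¹ = v := by
    calc a * b * v * (a * b)⁻¹ = a * (b * v * b⁻¹) * a⁻¹ := by group
      _ = a * v⁻¹ * a⁻¹ := by rw [hinv b hb hb1 v hv]
      _ = (a * v * a⁻¹)⁻¹ := by group
      _ = v := by rw [hinv a ha ha1 v hv, inv_inv]
  exact hv1 (hodd v hv (eq_inv_iff_mul_eq_one.1 (h4.symm.trans h3)))

variable {M T : Subgroup G} {F : Type} [Field F] [Finite F] [CharP F 2] {d : Nat2 M T F 1}
  {A : Subgroup G}

namespace Two

variable (h : Two d A)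
include h

theorem sq_mem_A {t : G} (ht : t ∈ T) : t * t ∈ A := by
  obtain ⟨e, he, v, hv, rfl⟩ := h.exists_mul ht
  have h1 : e⁻¹ = e := inv_eq_of_mul_eq_one_right (h.sq e he)
  have h2 : v⁻¹ = v := inv_eq_of_mul_eq_one_right (d.sq_of_mem hv)
  rw [show e * v * (e * v) = e * (v * e * v) by group]
  refine mul_mem he ?_
  have := h.conj_mem_A (d.Q_le hv) he
  rwa [h2] at this

theorem T_le_normalizer : T ≤ Subgroup.normalizer (A : Set G) := fun t ht =>
  Subgroup.mem_normalizer_fintype fun a ha => h.conj_mem_A ht ha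

variable (hc : Ctx G) (hF : 4 ≤ Nat.card F)
include hc hF

theorem fix : ∀ g : G, (∀ v ∈ O2 M, g * v * g⁻¹ ∈ T) → g ∈ M := fun g hg => by
  rcases h.map_eq (Or.inl rfl) hg with h1 | h1
  · exact mem_of_normalizes d.loc fun v hv => h1 ▸ ⟨v, hv, rfl⟩
  · exact absurd h1 (h.not_conj hc hF g)

theorem normalizer_A_not_le (hSE : SolvableSE G) :
    ¬ Subgroup.normalizer (A : Set G) ≤ M := by
  intro hle
  refine d.false_of_controlled (h.fix hc hF) hc hSE hF fun y hyT hyQ hy => ?_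
  have hyA := (h.invol y hyT (EPPOTwo.sq_eq_one_of_orderOf hy)).resolve_left hyQ
  obtain ⟨g, hg⟩ := d.exists_into (h.fix hc hF) (hc.cit y hy)
  have hgA : ∀ a ∈ A, g * a * g⁻¹ ∈ T := fun a ha =>
    hg a (Subgroup.mem_centralizer_singleton_iff.2 (commute_of_sq h.sq ha hyA))
  have hgM : g ∈ M := by
    rcases h.map_eq (Or.inr rfl) hgA with h1 | h1
    · refine absurd ?_ (h.not_conj hc hF g⁻¹)
      rw [← h1]
      ext x
      simp [mul_assoc]
    · exact hle (Subgroup.mem_normalizer_fintype fun a ha => h1 ▸ ⟨a, ha, rfl⟩)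
  intro x hx
  simpa [mul_assoc] using mul_mem (mul_mem (inv_mem hgM) (d.T_le (hg x hx))) hgM

theorem O2_normalizer_A (hSE : SolvableSE G) : O2 (Subgroup.normalizer (A : Set G)) = A := by
  haveI : Fact (Nat.Prime 2) := ⟨Nat.prime_two⟩
  set K := Subgroup.normalizer (A : Set G) with hK
  set R := O2 K with hR
  have hA2 : IsPGroup 2 A := EPPOTwo.isPGroup_of_isTwo fun a ha => EPPOTwo.isTwo_of_sq (h.sq a ha)
  have hAR : A ≤ R := Base.le_map_pCore Subgroup.le_normalizer le_rfl hA2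
  have hRT : R ≤ T := by
    have h1 := d.maxT (h.fix hc hF) (d.isPGroup_T.to_sup_of_normal_right'
      (Base.isPGroup_map_pCore 2 K) (h.T_le_normalizer.trans (Base.le_normalizer_map_pCore K)))
      le_sup_left
    exact h1 ▸ le_sup_right
  refine le_antisymm ?_ hAR
  by_contra hne
  obtain ⟨r, hr, hrA⟩ := SetLike.not_le_iff_exists.1 hne
  obtain ⟨e, he, v, hv, rfl⟩ := h.exists_mul (hRT hr)
  have hvZ : v ∉ d.Z := fun hz => hrA (mul_mem he (h.Z_le hz))
  refine h.normalizer_A_not_le hc hF hSE fun g hgK => ?_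
  have hgZ : ∀ z ∈ d.Z, g * z * g⁻¹ ∈ d.Z := fun z hz => by
    have hxA : g * z * g⁻¹ ∈ A := (Subgroup.mem_normalizer_iff.1 hgK z).1 (h.Z_le hz)
    refine h.inf _ hxA ?_
    by_contra hxQ
    refine hvZ (d.mem_Z_of_commute (h.le hxA) hxQ hv ?_)
    have h1 : g⁻¹ * (e * v) * g ∈ R := by
      have := conj_mem_O2 (inv_mem hgK) hr
      rwa [inv_inv] at this
    have h2 : g * z * g⁻¹ * (e * v) = (e * v) * (g * z * g⁻¹) := by
      calc g * z * g⁻¹ * (e * v) = g * (z * (g⁻¹ * (e * v) * g)) * g⁻¹ := by group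
        _ = g * ((g⁻¹ * (e * v) * g) * z) * g⁻¹ := by rw [d.commute_of_mem_Z (hRT h1) hz]
        _ = _ := by group
    apply mul_left_cancel (a := e)
    rw [← mul_assoc e, commute_of_sq h.sq he hxA, mul_assoc, h2]
    group
  obtain ⟨z, hz, hz2⟩ := d.exists_mem_Z
  have hz' := hgZ z hz
  have ho : orderOf (g * z * g⁻¹) = 2 := (SemiconjBy.conj_mk g z).orderOf_eq.symm.trans hz2
  have hCT : Subgroup.centralizer ({g * z * g⁻¹} : Set G) = T :=
    d.maxT (h.fix hc hF) (hc.cit _ ho) fun t ht =>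
      Subgroup.mem_centralizer_singleton_iff.2 (d.commute_of_mem_Z ht hz')
  refine h.fix hc hF g fun w hw => hCT ▸ Subgroup.mem_centralizer_singleton_iff.2 ?_
  calc g * w * g⁻¹ * (g * z * g⁻¹) = g * (w * z) * g⁻¹ := by group
    _ = g * (z * w) * g⁻¹ := by rw [d.Q_comm hw hz.1]
    _ = _ := by group

theorem loc_normalizer_A (hSE : SolvableSE G) : Loc (Subgroup.normalizer (A : Set G)) := by
  haveI : Fact (Nat.Prime 2) := ⟨Nat.prime_two⟩
  set K := Subgroup.normalizer (A : Set G) with hK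
  have hO := h.O2_normalizer_A hc hF hSE
  refine ⟨by rw [hO]; exact fun e => h.not_le (e ▸ bot_le), fun L hL hLnt => ?_⟩
  have hTL : T ≤ L := h.T_le_normalizer.trans hL
  have hRT : O2 L ≤ T := by
    have h1 := d.maxT (h.fix hc hF) (d.isPGroup_T.to_sup_of_normal_right'
      (Base.isPGroup_map_pCore 2 L) (hTL.trans (Base.le_normalizer_map_pCore L))) le_sup_left
    exact h1 ▸ le_sup_right
  have hRA : O2 L ≤ A := hO ▸ Base.le_map_pCore (hRT.trans h.T_le_normalizer)
    (hL.trans (Base.le_normalizer_map_pCore L)) (Base.isPGroup_map_pCore 2 L)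
  have hAR : A ≤ O2 L := fun a ha => hc.cit.centralizer_O2_le hLnt
    ⟨Subgroup.mem_centralizer_iff.2 fun x hx => commute_of_sq h.sq (hRA hx) ha,
      hTL (h.le ha)⟩
  refine le_antisymm (fun g hg => ?_) hL
  have := Base.le_normalizer_map_pCore (p := 2) L hg
  change g ∈ Subgroup.normalizer ((O2 L : Subgroup G) : Set G) at this
  rwa [le_antisymm hRA hAR] at this

theorem not_isSolvable_normalizer_A (hSE : SolvableSE G) :
    ¬ Group.IsSolvable (Subgroup.normalizer (A : Set G)) := by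
  intro hs
  haveI : Fact (Nat.Prime 2) := ⟨Nat.prime_two⟩
  set K := Subgroup.normalizer (A : Set G) with hK
  have hO := h.O2_normalizer_A hc hF hSE
  set A' := A.subgroupOf K with hA'
  haveI : A'.Normal := Subgroup.normal_subgroupOf_of_le_normalizer le_rfl
  have hA'p : IsPGroup 2 A' := EPPOTwo.isPGroup_of_isTwo fun a ha =>
    EPPOTwo.isTwo_of_sq (Subtype.ext (h.sq _ (Subgroup.mem_subgroupOf.1 ha)))
  have hAK : A ≤ K := h.le.trans h.T_le_normalizer
  set π := QuotientGroup.mk' A' with hπ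
  have hcore : Cfsg.pCore 2 (K ⧸ A') = ⊥ := by
    have h1 : IsPGroup 2 ((Cfsg.pCore 2 (K ⧸ A')).comap π) :=
      IsPGroup.comap_of_ker_isPGroup (Base.isPGroup_pCore 2 _) π (by
        rw [hπ, QuotientGroup.ker_mk']; exact hA'p)
    have h2 : (Cfsg.pCore 2 (K ⧸ A')).comap π ≤ A' := by
      intro x hx
      rw [hA', Subgroup.mem_subgroupOf, ← hO]
      exact ⟨x, Base.le_pCore h1 hx, rfl⟩
    refine (Subgroup.eq_bot_iff_forall _).2 fun y hy => ?_
    obtain ⟨x, rfl⟩ := QuotientGroup.mk'_surjective A' y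
    exact (QuotientGroup.eq_one_iff x).2 (h2 hy)
  obtain ⟨l, hl0, hl1⟩ : ∃ l : F, l ≠ 0 ∧ l ≠ 1 := by
    classical
    haveI := Fintype.ofFinite F
    obtain ⟨l, -, hl⟩ := Finset.exists_mem_notMem_of_card_lt_card (s := ({0, 1} : Finset F))
      (t := Finset.univ) (by
        have := Finset.card_le_two (a := (0 : F)) (b := 1)
        rw [Finset.card_univ, ← Nat.card_eq_fintype_card]; omega)
    exact ⟨l, by simpa using hl⟩
  obtain ⟨v, hv, hvf⟩ := d.f_surj fun _ => ![0, 1]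
  obtain ⟨w, hw, hwf⟩ := d.f_surj fun _ => ![0, l]
  have hnA : ∀ x ∈ O2 M, d.f x 0 1 ≠ 0 → x ∉ A := fun x hx h1 hxA => h1 ((h.inf x hxA hx).2 0)
  have hmem : ∀ {x}, x ∈ O2 M → x ∈ K := fun {x} hx => h.T_le_normalizer (d.Q_le hx)
  have h1 : ∀ {x} (hx : x ∈ O2 M), x ∉ A → π ⟨x, hmem hx⟩ ≠ 1 := fun {x} hx hxA e =>
    hxA (Subgroup.mem_subgroupOf.1 ((QuotientGroup.eq_one_iff _).1 e))
  have h2 : ∀ {x} (hx : x ∈ O2 M), π ⟨x, hmem hx⟩ * π ⟨x, hmem hx⟩ = 1 := fun {x} hx => by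
    rw [← map_mul, show (⟨x, hmem hx⟩ : K) * ⟨x, hmem hx⟩ = 1 from Subtype.ext (d.sq_of_mem hx),
      map_one]
  refine false_of_four ((hc.cit.subgroup K).of_surjective π (QuotientGroup.mk'_surjective A') (by
      rw [hπ, QuotientGroup.ker_mk']; exact hA'p))
    (Group.isSolvable_of_surjective (QuotientGroup.mk'_surjective A')) hcore (h2 hv) (h2 hw)
    (h1 hv (hnA v hv (by rw [hvf]; exact one_ne_zero)))
    (h1 hw (hnA w hw (by rw [hwf]; exact hl0))) (fun e => ?_) ?_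
  · refine hnA (v⁻¹ * w) (mul_mem (inv_mem hv) hw) ?_ (Subgroup.mem_subgroupOf.1
      (QuotientGroup.eq.1 e))
    rw [d.f_mul (inv_mem hv) hw, inv_eq_of_mul_eq_one_right (d.sq_of_mem hv), hvf, hwf]
    intro e'
    exact hl1 (CharTwo.add_eq_zero.1 (by simpa [add_comm] using e' : (1 : F) + l = 0)).symm
  · rw [← map_mul, ← map_mul]
    exact congrArg π (Subtype.ext (d.Q_comm hv hw))

end Two

end CfsgLib.Recog.CIT.L2

namespace CfsgLib.Recog.CIT

universe v

open EPPOTwo (O2 TSyl)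

open L2 in
/-- **Piece C, the linear case**: a nonsolvable maximal 2-local subgroup with quotient `SL₂(2ⁿ)`
gives a pair of type `2⁴:A₅`. -/
theorem exists_pair {G : Type v} [Group G] [Finite G] (hc : Ctx G)
    (hSE : ∀ H : Subgroup G, Cfsg.IsStronglyEmbedded H → Group.IsSolvable H)
    (htop : ∀ K : Subgroup G, Loc K → ¬ Group.IsSolvable K →
      ∃ (X : Type v) (_ : Group X) (_ : Finite X) (π : K →* X) (S D : Subgroup X) (q : ℕ),
        Top K X π S D q)
    {M : Subgroup G} {X : Type v} [Group X] [Finite X] {π : M →* X} {S D : Subgroup X} {q : ℕ}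
    (ht : Top M X π S D q) (hl : IsL2Two X) :
    ∃ M' N' Q A T, Pair (G := G) M' N' Q A T := by
  classical
  haveI : Fact (Nat.Prime 2) := ⟨Nat.prime_two⟩
  obtain ⟨T, -, hT⟩ := EPPOTwo.exists_tsyl (M := M) (P := ⊥) bot_le IsPGroup.of_bot
  obtain ⟨F, _, _, _, k, hF', ⟨d₀⟩⟩ := exists_nat2 hc.cit ht hl hT
  rw [← Nat.card_eq_fintype_card] at hF'
  obtain ⟨d, A, h⟩ := exists_two d₀ hc hSE hF'
  set N := Subgroup.normalizer (A : Set G) with hN
  have hO := h.O2_normalizer_A hc hF' hSE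
  have hloc := h.loc_normalizer_A hc hF' hSE
  have hfix := h.fix hc hF'
  obtain ⟨Y, _, _, π', S', D', q', ht'⟩ := htop N hloc (h.not_isSolvable_normalizer_A hc hF' hSE)
  have hTN : TSyl N T := ⟨h.T_le_normalizer, d.isPGroup_T,
    fun R hR hle _ => d.maxT hfix hR hle⟩
  have hl' : IsL2Two Y := by
    refine ht'.kind.resolve_right fun hsz => ?_
    -- the Sylow 2-subgroup of the quotient is elementary
    let SS : Sylow 2 Y := ⟨S', ht'.data.isP, fun hR hle => ht'.data.maxP _ hR hle⟩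
    let T' : Sylow 2 N :=
      { toSubgroup := T.subgroupOf N
        isPGroup' := d.isPGroup_T.comap_of_injective N.subtype N.subtype_injective
        is_maximal' := fun {R} hR hle => by
          have h1 := d.maxT hfix (hR.map N.subtype)
            fun t ht => ⟨⟨t, h.T_le_normalizer ht⟩, hle ht, rfl⟩
          refine le_antisymm (fun p hp => ?_) hle
          rw [Subgroup.mem_subgroupOf, ← h1]
          exact ⟨p, hp, rfl⟩ }
    obtain ⟨g, hg⟩ := MulAction.exists_smul_eq Y (T'.mapSurjective (f := π') ht'.surj) SS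
    have hsq : ∀ s ∈ S', s * s = 1 := fun s hs => by
      have h1 : s ∈ ((g • T'.mapSurjective (f := π') ht'.surj : Sylow 2 Y) : Subgroup Y) := by
        rw [hg]; exact hs
      rw [Sylow.coe_subgroup_smul] at h1
      obtain ⟨_, ⟨x, hx, rfl⟩, rfl⟩ := h1
      have h2 : π' x * π' x = 1 := by
        rw [← map_mul, ← MonoidHom.mem_ker, ht'.ker, Subgroup.mem_subgroupOf, hO]
        exact h.sq_mem_A (Subgroup.mem_subgroupOf.1 hx)
      show g * π' x * g⁻¹ * (g * π' x * g⁻¹) = 1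
      rw [show g * π' x * g⁻¹ * (g * π' x * g⁻¹) = g * (π' x * π' x) * g⁻¹ by group, h2, mul_one,
        mul_inv_cancel]
    have hcard : Nat.card S' = q' := by
      have h1 : Nat.card {t : Y // t ∈ S' ∧ orderOf t = 2} + 1 = Nat.card S' := by
        haveI := Fintype.ofFinite S'
        have e1 : Nat.card {t : Y // t ∈ S' ∧ orderOf t = 2} = Nat.card {x : S' // x ≠ 1} :=
          Nat.card_congr
            { toFun := fun t => ⟨⟨t.1, t.2.1⟩, fun e => by
                have := t.2.2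
                rw [show t.1 = 1 from congrArg Subtype.val e, orderOf_one] at this
                exact absurd this (by norm_num)⟩
              invFun := fun x => ⟨x.1.1, x.1.2, EPPOTwo.orderOf_eq_two (hsq _ x.1.2)
                fun e => x.2 (Subtype.ext e)⟩
              left_inv := fun t => rfl
              right_inv := fun x => rfl }
        rw [e1, Nat.card_eq_fintype_card, Nat.card_eq_fintype_card, Fintype.card_subtype_compl,
          Fintype.card_subtype_eq]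
        exact Nat.sub_add_cancel Fintype.card_pos
      rw [ht'.data.card_invol] at h1
      have := ht'.data.four_le
      omega
    obtain ⟨m, -, hm⟩ := hsz.2
    obtain ⟨a, ha⟩ := ht'.data.isPow
    have h4 := ht'.data.four_le
    rw [ht'.data.card_G, hcard, ha] at hm
    refine not_suzuki_order (a := a) (m := m) ?_ hm
    by_contra h0
    obtain rfl : a = 0 := by omega
    rw [ha, pow_zero] at h4
    omega
  obtain ⟨F', _, _, _, k', hF'', ⟨d₁⟩⟩ := exists_nat2 hc.cit ht' hl' hTN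
  rw [← Nat.card_eq_fintype_card] at hF''
  obtain ⟨d', A', h'⟩ := exists_two d₁ hc hSE hF''
  have hq : Nat.card F = 4 := le_antisymm (h.card_le_four d' hO) hF'
  have hq' : Nat.card F' = 4 := by
    have h1 := d'.card_Q
    rw [hO, h.card, hq, mul_one] at h1
    exact Nat.pow_left_injective two_ne_zero h1.symm
  have hinf : O2 M ⊓ A = d.Z := le_antisymm (fun x hx => h.inf x hx.2 hx.1)
    (le_inf d.Z_le h.Z_le)
  refine ⟨M, N, O2 M, A, T, ⟨d.loc, hloc, rfl, hO.symm, fun x hx => d.sq_of_mem hx, h.sq, ?_, ?_,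
    ?_, ?_, d.T_le, h.T_le_normalizer, ?_, fun R hR hle => d.maxT hfix hR hle, h.invol, ?_, ?_, ?_,
    ?_, fun g => h.not_conj hc hF' g⟩⟩
  · rw [d.card_Q, hq]; rfl
  · rw [h.card, hq]; rfl
  · rw [hinf, d.card_Z, hq]; rfl
  · refine le_antisymm (fun t htT => ?_) (sup_le d.Q_le h.le)
    obtain ⟨e, he, v, hv, rfl⟩ := h.exists_mul htT
    exact mul_mem ((le_sup_right : A ≤ O2 M ⊔ A) he) ((le_sup_left : O2 M ≤ O2 M ⊔ A) hv)
  · rw [h.card_T_le, hq]; rfl
  · exact exists_top_alt d hq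
  · have := exists_top_alt d' hq'
    rwa [hO] at this
  · exact fun u hu v hv hu1 hv1 => d.transQ hu hv hu1 hv1
  · intro u hu v hv hu1 hv1
    exact d'.transQ (hO.symm ▸ hu) (hO.symm ▸ hv) hu1 hv1

end CfsgLib.Recog.CIT
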