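import Cfsg.Agent.Lib.Recog.CIT.Defs
import Cfsg.Agent.Lib.Recog.EPPOTwo.Maximal
import Cfsg.Agent.Lib.Coprime.Action
import Cfsg.Agent.Lib.Involutions.StrongEmb

/-!
Elementary consequences of every involution centraliser being a 2-group.
-/

set_option autoImplicit false
set_option linter.dupNamespace false
set_option linter.unusedSectionVars false

namespace CfsgLib.Recog.CIT

open EPPOTwo (IsTwo O2 isTwo_of_mem exists_involution isPGroup_of_isTwo sq_eq_one_of_orderOf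
  orderOf_eq_two isTwo_of_sq)

universe u

variable {G : Type u} [Group G]

theorem CIT.two_element (h : CIT G) {t y : G} (ht : orderOf t = 2) (hc : Commute t y) :
    IsTwo y := by
  obtain ⟨k, hk⟩ := h t ht ⟨y, Subgroup.mem_centralizer_singleton_iff.2 hc.eq.symm⟩
  exact ⟨k, congrArg Subtype.val hk⟩

theorem CIT.subgroup (h : CIT G) (K : Subgroup G) : CIT K := fun t ht y => by
  obtain ⟨k, hk⟩ := h.two_element (t := (t : G)) (y := ((y : K) : G))
    (by rw [Subgroup.orderOf_coe, ht])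
    (congrArg Subtype.val (Subgroup.mem_centralizer_singleton_iff.1 y.2)).symm
  exact ⟨k, Subtype.ext (Subtype.ext (by simpa using hk))⟩

theorem eq_one_of_odd_isTwo {x : G} (hx : Odd (orderOf x)) (h2 : IsTwo x) : x = 1 := by
  obtain ⟨k, hk⟩ := h2
  obtain ⟨j, -, hj⟩ := (Nat.dvd_prime_pow Nat.prime_two).1 (orderOf_dvd_of_pow_eq_one hk)
  rcases j with _ | j
  · rwa [pow_zero, orderOf_eq_one_iff] at hj
  · rw [hj, pow_succ] at hx
    exact absurd (Nat.even_mul.2 (Or.inr even_two)) (Nat.not_even_iff_odd.2 hx)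

/-- Elements of odd order and 2-elements commute only trivially. -/
theorem CIT.eq_one_of_commute (h : CIT G) {x a : G} (hx : Odd (orderOf x)) (hx1 : x ≠ 1)
    (ha : IsTwo a) (hc : Commute x a) : a = 1 := by
  by_contra ha1
  obtain ⟨k, hk⟩ := ha
  obtain ⟨j, -, hj⟩ := (Nat.dvd_prime_pow Nat.prime_two).1 (orderOf_dvd_of_pow_eq_one hk)
  rcases j with _ | j
  · rw [pow_zero, orderOf_eq_one_iff] at hj; exact ha1 hj
  refine hx1 (eq_one_of_odd_isTwo hx (h.two_element (t := a ^ 2 ^ j) ?_ ((hc.pow_right _).symm)))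
  rw [orderOf_pow' a (pow_ne_zero _ two_ne_zero), hj,
    Nat.gcd_eq_right (pow_dvd_pow 2 (Nat.le_succ j)), Nat.pow_div (Nat.le_succ j) two_pos,
    show j + 1 - j = 1 by omega, pow_one]

theorem CIT.isPGroup_centralizer (h : CIT G) {s : Set G} {t : G} (ht : orderOf t = 2) (hts : t ∈ s) :
    IsPGroup 2 (Subgroup.centralizer s) :=
  isPGroup_of_isTwo fun _ hy => h.two_element ht (Subgroup.mem_centralizer_iff.1 hy t hts)

section Finite

variable [Finite G]

theorem odd_orderOf_of_mem {A : Subgroup G} (hA : Odd (Nat.card A)) {a : G} (ha : a ∈ A) :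
    Odd (orderOf a) :=
  hA.of_dvd_nat (Subgroup.orderOf_dvd_natCard A ha)

/-- Subgroups of odd order act fixed-point-freely on normalised 2-subgroups. -/
theorem CIT.isFPF (h : CIT G) {A V : Subgroup G} (hA : Odd (Nat.card A)) (hV : IsPGroup 2 V)
    (hn : A ≤ Subgroup.normalizer (V : Set G)) : Base.IsFPF A V :=
  ⟨hn, fun a ha ha1 => (Subgroup.eq_bot_iff_forall _).2 fun _ hv =>
    h.eq_one_of_commute (odd_orderOf_of_mem hA ha) ha1 (isTwo_of_mem hV hv.1)
      (Subgroup.mem_centralizer_iff.1 hv.2 a rfl)⟩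

/-- An element of odd order acts fixed-point-freely on a normalised 2-subgroup. -/
theorem CIT.eq_one_of_mem (h : CIT G) {x a : G} {V : Subgroup G} (hx : Odd (orderOf x))
    (hx1 : x ≠ 1) (hV : IsPGroup 2 V) (ha : a ∈ V) (hc : Commute x a) : a = 1 :=
  h.eq_one_of_commute hx hx1 (isTwo_of_mem hV ha) hc

theorem CIT.centralizer_O2_le (h : CIT G) {M : Subgroup G} (hM : O2 M ≠ ⊥) :
    Subgroup.centralizer (O2 M : Set G) ⊓ M ≤ O2 M := by
  obtain ⟨t, htD, ht⟩ := exists_involution (Base.isPGroup_map_pCore 2 M) hM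
  refine Base.le_map_pCore inf_le_right (fun m hm => ?_)
    ((h.isPGroup_centralizer (s := (O2 M : Set G)) ht htD).to_le inf_le_left)
  have h1 : m ∈ Subgroup.normalizer ((Subgroup.centralizer (O2 M : Set G)) : Set G) := by
    refine Subgroup.mem_normalizer_iff.2 fun c => ⟨fun hcc => ?_, fun hcc => ?_⟩ <;>
      refine Subgroup.mem_centralizer_iff.2 fun e he => ?_
    · have h1 := Subgroup.mem_centralizer_iff.1 hcc _ (EPPOTwo.conj_mem_O2' hm he)
      calc e * (m * c * m⁻¹) = m * ((m⁻¹ * e * m) * c) * m⁻¹ := by group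
        _ = m * (c * (m⁻¹ * e * m)) * m⁻¹ := by rw [h1]
        _ = _ := by group
    · have h1 := Subgroup.mem_centralizer_iff.1 hcc _ (EPPOTwo.conj_mem_O2 hm he)
      calc e * c = m⁻¹ * ((m * e * m⁻¹) * (m * c * m⁻¹)) * m := by group
        _ = m⁻¹ * ((m * c * m⁻¹) * (m * e * m⁻¹)) * m := by rw [h1]
        _ = _ := by group
  refine Subgroup.mem_normalizer_iff.2 fun c => ?_
  rw [Subgroup.mem_inf, Subgroup.mem_inf, ← Subgroup.mem_normalizer_iff.1 h1 c,
    ← Subgroup.mem_normalizer_iff.1 (Subgroup.le_normalizer hm) c]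

theorem Loc.normalizer_eq {M P : Subgroup G} (hM : Loc M) (hP : IsPGroup 2 P) (hne : P ≠ ⊥)
    (hn : M ≤ Subgroup.normalizer (P : Set G)) : Subgroup.normalizer (P : Set G) = M :=
  hM.max _ hn fun h => hne (le_bot_iff.1 (h ▸ Base.le_map_pCore Subgroup.le_normalizer le_rfl hP))

theorem Loc.normalizer_O2 {M : Subgroup G} (hM : Loc M) :
    Subgroup.normalizer (O2 M : Set G) = M :=
  hM.normalizer_eq (Base.isPGroup_map_pCore 2 M) hM.nt (Base.le_normalizer_map_pCore M)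

theorem Loc.centralizer_le (h : CIT G) {M : Subgroup G} (hM : Loc M) :
    Subgroup.centralizer (O2 M : Set G) ≤ O2 M := fun c hc => by
  refine h.centralizer_O2_le hM.nt ⟨hc, hM.normalizer_O2.le ?_⟩
  exact Subgroup.centralizer_le_normalizer _ hc

theorem exists_loc {K : Subgroup G} (hK : O2 K ≠ ⊥) : ∃ M, K ≤ M ∧ Loc M := by
  obtain ⟨M, hle, hmax⟩ :=
    Finite.exists_le_maximal (p := fun L : Subgroup G => O2 L ≠ ⊥) hK
  exact ⟨M, hle, hmax.prop, fun L hL hLnt => le_antisymm (hmax.2 hLnt hL) hL⟩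

theorem O2_normalizer_ne_bot {P : Subgroup G} (hP : IsPGroup 2 P) (hne : P ≠ ⊥) :
    O2 (Subgroup.normalizer (P : Set G)) ≠ ⊥ :=
  fun h => hne (le_bot_iff.1 (h ▸ Base.le_map_pCore Subgroup.le_normalizer le_rfl hP))

/-- The quotient of a group by a normal 2-subgroup inherits the hypothesis. -/
theorem CIT.of_surjective (h : CIT G) {X : Type*} [Group X] (π : G →* X)
    (hπ : Function.Surjective π) (hker : IsPGroup 2 π.ker) : CIT X := by
  classical
  haveI : Fact (Nat.Prime 2) := ⟨Nat.prime_two⟩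
  haveI : Finite X := Finite.of_surjective π hπ
  intro t ht
  refine isPGroup_of_isTwo fun y hy => ?_
  have hty : Commute y t := Subgroup.mem_centralizer_singleton_iff.1 hy
  -- split off the part of odd order
  obtain ⟨k, m, hm, hk⟩ := Nat.exists_eq_two_pow_mul_odd (orderOf_pos y).ne'
  refine ⟨k, ?_⟩
  set z := y ^ 2 ^ k with hz
  have hzm : z ^ m = 1 := by rw [hz, ← pow_mul, ← hk, pow_orderOf_eq_one]
  obtain ⟨a, ha⟩ := hπ z
  set x := a ^ 2 ^ (orderOf a).factorization 2 with hx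
  have hxodd : Odd (orderOf x) := by
    have hd := Nat.ordProj_dvd (orderOf a) 2
    rw [hx, orderOf_pow_of_dvd (pow_ne_zero _ two_ne_zero) hd, ← Nat.not_even_iff_odd,
      even_iff_two_dvd]
    exact Nat.not_dvd_ordCompl Nat.prime_two (orderOf_pos a).ne'
  have hπx : π x = z ^ 2 ^ (orderOf a).factorization 2 := by rw [hx, map_pow, ha]
  have hzt : Commute z t := hty.pow_left _
  -- the preimage of `⟨t⟩`
  set T := (Subgroup.zpowers t).comap π with hT
  have hT2 : IsPGroup 2 T :=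
    IsPGroup.comap_of_ker_isPGroup
      (IsPGroup.of_card (n := 1) (by rw [Nat.card_zpowers, ht, pow_one])) π hker
  have hxT : Subgroup.zpowers x ≤ Subgroup.normalizer (T : Set G) := by
    refine Subgroup.zpowers_le.2 (Subgroup.mem_normalizer_iff.2 fun w => ?_)
    simp only [hT, Subgroup.mem_comap, map_mul, map_inv, hπx]
    set e := z ^ 2 ^ (orderOf a).factorization 2 with he
    have hcomm : ∀ u ∈ Subgroup.zpowers t, e * u * e⁻¹ = u := fun u hu => by
      obtain ⟨i, rfl⟩ := Subgroup.mem_zpowers_iff.1 hu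
      rw [((hzt.pow_left _).zpow_right i).eq, mul_inv_cancel_right]
    refine ⟨fun hw => by rwa [hcomm _ hw], fun hw => ?_⟩
    have h1 := hcomm _ hw
    have h2 : e * π w * e⁻¹ = π w := by
      have h3 := congrArg (fun v => e⁻¹ * v * e) h1
      simpa [mul_assoc] using h3
    rwa [h2] at hw
  have hker' : Subgroup.zpowers x ≤ Subgroup.normalizer (π.ker : Set G) := by
    rw [Subgroup.normalizer_eq_top]; exact le_top
  have hxodd' : Odd (Nat.card (Subgroup.zpowers x)) := by rwa [Nat.card_zpowers]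
  -- `x` is fixed-point-free on `T` and on its subgroup of index two
  have hx1 : x = 1 := by
    by_contra hx1
    have hd1 := (h.isFPF hxodd' hT2 hxT).card_dvd
    have hd2 := (h.isFPF hxodd' hker hker').card_dvd
    have hcard : Nat.card T = 2 * Nat.card π.ker := by
      have h1 : Nat.card π.ker * π.ker.relIndex T = Nat.card T := by
        rw [← Subgroup.relIndex_bot_left, ← Subgroup.relIndex_bot_left,
          Subgroup.relIndex_mul_relIndex _ _ _ bot_le (fun g hg => by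
            rw [hT, Subgroup.mem_comap, MonoidHom.mem_ker.1 hg]; exact one_mem _)]
      rw [← h1, mul_comm 2]
      congr 1
      rw [hT, ← MonoidHom.comap_bot, Subgroup.relIndex_comap,
        Subgroup.map_comap_eq_self_of_surjective hπ, Subgroup.relIndex_bot_left,
        Nat.card_zpowers, ht]
    rw [hcard] at hd1
    have hd3 := Nat.dvd_sub hd1 hd2
    have hk1 : 0 < Nat.card π.ker := Nat.card_pos
    rw [show (2 * Nat.card π.ker - 1) - (Nat.card π.ker - 1) = Nat.card π.ker by omega] at hd3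
    obtain ⟨n, hn⟩ := hker.exists_card_eq
    rw [Nat.card_zpowers, hn] at hd3
    obtain ⟨j, -, hj⟩ := (Nat.dvd_prime_pow Nat.prime_two).1 hd3
    exact hx1 (eq_one_of_odd_isTwo hxodd ⟨j, by rw [← hj, pow_orderOf_eq_one]⟩)
  rw [hx1, map_one] at hπx
  have h1 : z ^ Nat.gcd m (2 ^ (orderOf a).factorization 2) = 1 :=
    pow_gcd_eq_one.2 ⟨hzm, hπx.symm⟩
  rwa [(Nat.Coprime.pow_right _ (Nat.coprime_two_right.2 hm)).gcd_eq_one, pow_one] at h1

/-- An involution inverting an element of odd order fixes exactly half of an abelian 2-group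
normalised by both. -/
theorem CIT.card_fixed_sq (h : CIT G) {W : Subgroup G} [IsMulCommutative W] (hW : IsPGroup 2 W)
    {t x : G} (ht : orderOf t = 2) (hx : Odd (orderOf x)) (hx1 : x ≠ 1)
    (hinv : t * x * t⁻¹ = x⁻¹) (htW : t ∈ Subgroup.normalizer (W : Set G))
    (hxW : x ∈ Subgroup.normalizer (W : Set G)) :
    Nat.card ↥(W ⊓ Subgroup.centralizer {t}) ^ 2 = Nat.card W := by
  have htt := sq_eq_one_of_orderOf ht
  have hti : t⁻¹ = t := inv_eq_of_mul_eq_one_right htt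
  set C := W ⊓ Subgroup.centralizer ({t} : Set G) with hC
  have comm : ∀ {a b : G}, a ∈ W → b ∈ W → a * b = b * a := fun {a b} ha hb =>
    congrArg Subtype.val ((inferInstance : IsMulCommutative W).is_comm.comm ⟨a, ha⟩ ⟨b, hb⟩)
  have hcx : ∀ {a : G}, a ∈ W → x * a * x⁻¹ ∈ W := fun {a} ha =>
    (Subgroup.mem_normalizer_iff.1 hxW a).1 ha
  have hcx' : ∀ {a : G}, a ∈ W → x⁻¹ * a * x ∈ W := fun {a} ha => by
    simpa using (Subgroup.mem_normalizer_iff.1 (inv_mem hxW) a).1 ha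
  have hct : ∀ {a : G}, a ∈ W → t * a * t⁻¹ ∈ W := fun {a} ha =>
    (Subgroup.mem_normalizer_iff.1 htW a).1 ha
  have hxi : t * x⁻¹ * t⁻¹ = x := by
    rw [show t * x⁻¹ * t⁻¹ = (t * x * t⁻¹)⁻¹ by group, hinv, inv_inv]
  -- the powers of `x` used
  have hx2 : Odd (orderOf (x * x)) ∧ x * x ≠ 1 := by
    refine ⟨?_, fun e => hx1 (eq_one_of_odd_isTwo hx (isTwo_of_sq e))⟩
    exact hx.of_dvd_nat (by rw [← pow_two]; exact orderOf_pow_dvd 2)
  have hCt : ∀ {a : G}, a ∈ C → t * a * t⁻¹ = a := fun {a} ha => by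
    rw [← Subgroup.mem_centralizer_singleton_iff.1 ha.2]; group
  -- elements inverted by `t`
  let I := {w : G // w ∈ W ∧ t * w * t⁻¹ = w⁻¹}
  have key : ∀ {a : G}, a ∈ W → x⁻¹ * a * x = x * a * x⁻¹ → a = 1 := fun {a} ha he =>
    h.eq_one_of_mem hx2.1 hx2.2 hW ha (by
      calc x * x * a = x * (x * a * x⁻¹) * x := by group
        _ = x * (x⁻¹ * a * x) * x := by rw [he]
        _ = a * (x * x) := by group)
  -- the map `a ↦ (x⁻¹ a x)(x a x⁻¹)⁻¹`
  let φ : G → G := fun a => (x⁻¹ * a * x) * (x * a * x⁻¹)⁻¹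
  have hφW : ∀ {a : G}, a ∈ W → φ a ∈ W := fun {a} ha => mul_mem (hcx' ha) (inv_mem (hcx ha))
  have htφ : ∀ {a : G}, a ∈ W → t * φ a * t⁻¹ = (φ (t * a * t⁻¹))⁻¹ := fun {a} ha => by
    calc t * φ a * t⁻¹
        = (t * x⁻¹ * t⁻¹) * (t * a * t⁻¹) * (t * x * t⁻¹) *
          ((t * x * t⁻¹) * (t * a * t⁻¹) * (t * x⁻¹ * t⁻¹))⁻¹ := by simp only [φ]; group
      _ = (x * (t * a * t⁻¹) * x⁻¹) * (x⁻¹ * (t * a * t⁻¹) * x)⁻¹ := by rw [hxi, hinv]
      _ = _ := by
        simp only [φ]; rw [mul_inv_rev (x⁻¹ * (t * a * t⁻¹) * x), inv_inv]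
  have hφ1 : ∀ {a : G}, a ∈ W → φ a = 1 → a = 1 := fun {a} ha he =>
    key ha (mul_inv_eq_one.1 he)
  have hφinj : ∀ {a b : G}, a ∈ W → b ∈ W → φ a = φ b → a = b := fun {a b} ha hb he => by
    refine inv_mul_eq_one.1 (hφ1 (mul_mem (inv_mem ha) hb) ?_)
    calc φ (a⁻¹ * b) = (x⁻¹ * a⁻¹ * x) * ((x⁻¹ * b * x) * (x * b * x⁻¹)⁻¹) * (x * a * x⁻¹) := by
          simp only [φ]; group
      _ = (x⁻¹ * a⁻¹ * x) * φ a * (x * a * x⁻¹) := by rw [he]
      _ = 1 := by simp only [φ]; group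
  have e1 : Nat.card C = Nat.card I := by
    refine le_antisymm
      (Nat.card_le_card_of_injective (fun a : C => (⟨φ a, hφW a.2.1, by
        rw [htφ a.2.1, hCt a.2]⟩ : I)) fun a b he =>
          Subtype.ext (hφinj a.2.1 b.2.1 (congrArg Subtype.val he)))
      (Nat.card_le_card_of_injective (fun w : I => (⟨φ w, hφW w.2.1, ?_⟩ : C)) fun a b he =>
          Subtype.ext (hφinj a.2.1 b.2.1 (congrArg Subtype.val he)))
    refine Subgroup.mem_centralizer_singleton_iff.2 ?_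
    have h1 := htφ w.2.1
    rw [w.2.2] at h1
    have h2 : φ (w : G)⁻¹ = (φ (w : G))⁻¹ := by
      show (x⁻¹ * (w : G)⁻¹ * x) * (x * (w : G)⁻¹ * x⁻¹)⁻¹ =
        ((x⁻¹ * w * x) * (x * w * x⁻¹)⁻¹)⁻¹
      rw [show x⁻¹ * (w : G)⁻¹ * x = (x⁻¹ * w * x)⁻¹ by group,
        show (x * (w : G)⁻¹ * x⁻¹)⁻¹ = x * w * x⁻¹ by group,
        mul_inv_rev (x⁻¹ * (w : G) * x), inv_inv]
      exact comm (inv_mem (hcx' w.2.1)) (hcx w.2.1)
    rw [h2, inv_inv] at h1
    exact (mul_inv_eq_iff_eq_mul.1 h1).symm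
  rw [pow_two]
  refine le_antisymm ?_ ?_
  · rw [← Nat.card_prod]
    refine Nat.card_le_card_of_injective
      (fun q : C × C => (⟨(q.1 : G) * (x * q.2 * x⁻¹), mul_mem q.1.2.1 (hcx q.2.2.1)⟩ : W)) ?_
    rintro ⟨a, b⟩ ⟨a', b'⟩ he
    have h1 : (a : G) * (x * b * x⁻¹) = (a' : G) * (x * b' * x⁻¹) := congrArg Subtype.val he
    have h2 : (a' : G)⁻¹ * a = x * ((b' : G) * (b : G)⁻¹) * x⁻¹ := by
      calc (a' : G)⁻¹ * a = (a' : G)⁻¹ * (a * (x * b * x⁻¹)) * (x * (b : G)⁻¹ * x⁻¹) := by group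
        _ = _ := by rw [h1]; group
    have hbb : (b' : G) * (b : G)⁻¹ ∈ C := mul_mem b'.2 (inv_mem b.2)
    have haa : x * ((b' : G) * (b : G)⁻¹) * x⁻¹ ∈ C := h2 ▸ mul_mem (inv_mem a'.2) a.2
    have h3 := key hbb.1 (by
      have h4 := hCt haa
      calc x⁻¹ * ((b' : G) * (b : G)⁻¹) * x
          = (t * x * t⁻¹) * (t * ((b' : G) * (b : G)⁻¹) * t⁻¹) * (t * x⁻¹ * t⁻¹) := by
            rw [hinv, hxi, hCt hbb]
        _ = t * (x * ((b' : G) * (b : G)⁻¹) * x⁻¹) * t⁻¹ := by group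
        _ = _ := h4)
    rw [h3, mul_one, mul_inv_cancel] at h2
    exact Prod.ext (Subtype.ext (inv_mul_eq_one.1 h2).symm)
      (Subtype.ext (mul_inv_eq_one.1 h3).symm)
  · conv_rhs => arg 2; rw [e1]
    let f : W →* W := MonoidHom.mk'
      (fun w => ⟨(w : G) * (t * w * t⁻¹)⁻¹, mul_mem w.2 (inv_mem (hct w.2))⟩)
      fun v w => Subtype.ext (by
        have hvt := inv_mem (hct v.2)
        calc (v : G) * w * (t * (v * w) * t⁻¹)⁻¹
            = v * ((w : G) * (t * w * t⁻¹)⁻¹) * (t * v * t⁻¹)⁻¹ := by group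
          _ = v * ((t * v * t⁻¹)⁻¹ * ((w : G) * (t * w * t⁻¹)⁻¹)) := by
            rw [mul_assoc, comm (mul_mem w.2 (inv_mem (hct w.2))) hvt]
          _ = _ := by rw [← mul_assoc]; rfl)
    have hker : Nat.card f.ker = Nat.card C := by
      refine Nat.card_congr
        ⟨fun w => ⟨(w : W), (w : W).2, Subgroup.mem_centralizer_singleton_iff.2 ?_⟩,
          fun c => ⟨⟨c, c.2.1⟩, MonoidHom.mem_ker.2 (Subtype.ext ?_)⟩, fun _ => rfl, fun _ => rfl⟩
      · exact (mul_inv_eq_iff_eq_mul.1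
          (mul_inv_eq_one.1 (congrArg Subtype.val (MonoidHom.mem_ker.1 w.2))).symm).symm
      · show (c : G) * (t * c * t⁻¹)⁻¹ = 1
        rw [hCt c.2, mul_inv_cancel]
    rw [← f.ker.card_mul_index, hker, Subgroup.index_ker]
    refine Nat.mul_le_mul_left _ (Nat.card_le_card_of_injective
      (fun w : f.range => (⟨((w : W) : G), (w : W).2, ?_⟩ : I))
      fun a b he => Subtype.ext (Subtype.ext (Subtype.ext_iff.1 he :)))
    obtain ⟨v, hv⟩ := w.2
    rw [← hv]
    show t * ((v : G) * (t * v * t⁻¹)⁻¹) * t⁻¹ = ((v : G) * (t * v * t⁻¹)⁻¹)⁻¹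
    rw [hti]
    calc t * ((v : G) * (t * v * t)⁻¹) * t = (t * v * t) * (t * t)⁻¹ * (v : G)⁻¹ * (t⁻¹ * t) := by group
      _ = _ := by rw [htt]; group

end Finite

end CfsgLib.Recog.CIT
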