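import Cfsg.Agent.Lib.Recog.CIT.LocalSuzukiBase
import Cfsg.Agent.Lib.Recog.CIT.Basic
import Cfsg.Agent.Lib.Base.MinimalNormal

/-!
A solvable maximal 2-local subgroup, when every Sylow 2-subgroup of the group has at least four
central elements of order at most two: the elementary abelian subgroups of largest order lie in its
radical.
-/

set_option autoImplicit false
set_option linter.style.haveILetI false
set_option linter.unusedSectionVars false

namespace CfsgLib.Recog.CIT.SzLocal

open EPPOTwo (O2 OZ ZC IsTwo TSyl JE MaxEl Elem IsFullTwo CaseA mem_OZ mem_ZC)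

universe u

/-- In a solvable group with trivial 2-radical every involution inverts one fixed nontrivial
element of odd order. -/
theorem exists_inverted {X : Type*} [Group X] [Finite X] [Nontrivial X] [Group.IsSolvable X]
    (hX : CIT X) (h2 : Cfsg.pCore 2 X = ⊥) :
    ∃ x : X, Odd (orderOf x) ∧ x ≠ 1 ∧ ∀ a : X, orderOf a = 2 → a * x * a⁻¹ = x⁻¹ := by
  obtain ⟨N, hN⟩ := Base.exists_isMinimalNormal (G := X)
  obtain ⟨p, hp, hcomm, -, hNp⟩ := hN.exists_prime inferInstance
  haveI := hN.normal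
  haveI : Fact p.Prime := ⟨hp⟩
  have hp2 : p ≠ 2 := fun e => hN.ne_bot (le_bot_iff.1 (h2 ▸ Base.le_pCore (e ▸ hNp)))
  have hodd : ∀ y ∈ N, Odd (orderOf y) := fun y hy => by
    obtain ⟨i, hi⟩ := IsPGroup.iff_orderOf.1 hNp ⟨y, hy⟩
    rw [← Subgroup.orderOf_coe] at hi
    rw [hi]
    exact (hp.odd_of_ne_two hp2).pow
  obtain ⟨x, hxN, hx1⟩ := (Subgroup.ne_bot_iff_exists_ne_one.1 hN.ne_bot :
    ∃ a : N, a ≠ 1) |>.elim fun a ha =>
      (⟨a, a.2, fun e => ha (Subtype.ext e)⟩ : ∃ x, x ∈ N ∧ x ≠ 1)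
  refine ⟨x, hodd x hxN, hx1, fun a ha => ?_⟩
  have haN : a * x * a⁻¹ ∈ N := (inferInstance : N.Normal).conj_mem x hxN a
  have hc : Commute x (a * x * a⁻¹) :=
    congrArg Subtype.val (hcomm.is_comm.comm ⟨x, hxN⟩ ⟨_, haN⟩)
  have ha2 := EPPOTwo.sq_eq_one_of_orderOf ha
  have hfix : Commute a (x * (a * x * a⁻¹)) := by
    show a * (x * (a * x * a⁻¹)) = x * (a * x * a⁻¹) * a
    calc a * (x * (a * x * a⁻¹)) = a * x * a⁻¹ * ((a * a) * x * (a * a)⁻¹) * a := by group
      _ = a * x * a⁻¹ * x * a := by rw [ha2, one_mul, inv_one, mul_one]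
      _ = _ := by rw [hc.eq]
  exact (eq_inv_of_mul_eq_one_right
    (eq_one_of_odd_isTwo (hodd _ (mul_mem hxN haN)) (hX.two_element ha hfix)))

variable {G : Type u} [Group G] [Finite G]

theorem exists_tsyl_solvable (hG : CIT G) {L : Subgroup G} (hL : Loc L) [Group.IsSolvable L]
    (h4 : ∀ S : Subgroup G, IsFullTwo S → 4 ≤ Nat.card (OZ S)) :
    ∃ T, TSyl L T ∧ IsFullTwo T ∧ Subgroup.normalizer (JE T : Set G) = L := by
  classical
  haveI : Fact (Nat.Prime 2) := ⟨Nat.prime_two⟩
  set O := O2 L with hO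
  have hOp : IsPGroup 2 O := Base.isPGroup_map_pCore 2 L
  obtain ⟨T, hOT', hT⟩ := EPPOTwo.exists_tsyl (EPPOTwo.O2_le L) hOp
  have hOT : O ≤ T := hOT'
  obtain ⟨S, hTS, hS⟩ := EPPOTwo.exists_isFullTwo_ge hT.isP
  set V := OZ O with hVdef
  have hVO : V ≤ O := fun v hv => (mem_ZC.1 (mem_OZ.1 hv).1).1
  have hV : ∀ v ∈ V, v * v = 1 := fun v hv => (mem_OZ.1 hv).2
  have hVc : ∀ v ∈ V, ∀ e ∈ O, Commute e v := fun v hv => (mem_ZC.1 (mem_OZ.1 hv).1).2
  have hWV : ∀ a ∈ T, OZ S ≤ V ⊓ Subgroup.centralizer {a} := fun a ha w hw => by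
    have hwc : ∀ e ∈ S, Commute e w := (mem_ZC.1 (mem_OZ.1 hw).1).2
    refine ⟨mem_OZ.2 ⟨mem_ZC.2 ⟨?_, fun e he => hwc e (hTS (hOT he))⟩, (mem_OZ.1 hw).2⟩,
      Subgroup.mem_centralizer_singleton_iff.2 (hwc a (hTS ha)).symm.eq⟩
    exact SzLocal.centralizer_le hG hL
      (Subgroup.mem_centralizer_iff.2 fun e he => (hwc e (hTS (hOT he))).eq)
  have hA : CaseA L T := by
    intro A hA
    by_contra hle
    obtain ⟨a₀, ha₀A, ha₀O⟩ := SetLike.not_le_iff_exists.1 hle
    have hAL : A ≤ L := hA.1.1.trans hT.le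
    let f : L →* L ⧸ Cfsg.pCore 2 L := QuotientGroup.mk' _
    have hker : ∀ b : L, f b = 1 ↔ (b : G) ∈ O := fun b => by
      rw [show f b = 1 ↔ b ∈ Cfsg.pCore 2 L from QuotientGroup.eq_one_iff b]
      exact ⟨fun h => ⟨b, h, rfl⟩, fun ⟨b', h, he⟩ => Subtype.ext he ▸ h⟩
    have hX : CIT (L ⧸ Cfsg.pCore 2 L) := (hG.subgroup L).of_surjective f
      (QuotientGroup.mk'_surjective _)
      (by rw [QuotientGroup.ker_mk']; exact Base.isPGroup_pCore 2 L)
    have hinv : ∀ a : A, (a : G) ∉ O → orderOf (f (Subgroup.inclusion hAL a)) = 2 := fun a ha =>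
      EPPOTwo.orderOf_eq_two
        (by rw [← map_mul, ← map_mul, show a * a = 1 from Subtype.ext (hA.1.2 a a.2), map_one,
          map_one])
        fun e => ha ((hker _).1 e)
    haveI : Nontrivial (L ⧸ Cfsg.pCore 2 L) := by
      refine ⟨f (Subgroup.inclusion hAL ⟨a₀, ha₀A⟩), 1, fun e => ?_⟩
      exact ha₀O ((hker _).1 e)
    haveI : Group.IsSolvable (L ⧸ Cfsg.pCore 2 L) :=
      Group.isSolvable_of_surjective (QuotientGroup.mk'_surjective (Cfsg.pCore 2 L))
    obtain ⟨x, hxo, hx1, hxinv⟩ := exists_inverted hX (Base.pCore_quotient_pCore 2 L)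
    -- at most two cosets of the radical meet `A`
    have hr : Nat.card (f.comp (Subgroup.inclusion hAL)).range ≤ 2 := by
      set a₁ : A := ⟨a₀, ha₀A⟩
      let z := f (Subgroup.inclusion hAL a₁)
      have hz : orderOf z = 2 := hinv a₁ ha₀O
      have hall : ∀ y : (f.comp (Subgroup.inclusion hAL)).range,
          (y : L ⧸ Cfsg.pCore 2 L) = 1 ∨ (y : L ⧸ Cfsg.pCore 2 L) = z := by
        intro y
        obtain ⟨b, hb⟩ := y.2
        rw [← hb]
        by_contra hor
        push Not at hor
        obtain ⟨hy1, hyz⟩ := hor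
        have hbO : (b : G) ∉ O := fun h => hy1 ((hker _).2 h)
        set z' := f (Subgroup.inclusion hAL b) with hz'
        have hz'2 : orderOf z' = 2 := hinv b hbO
        have hcm : Commute z z' := by
          show f (Subgroup.inclusion hAL a₁) * f (Subgroup.inclusion hAL b) = _
          rw [← map_mul, ← map_mul, show a₁ * b = b * a₁ from
            Subtype.ext (hA.1.comm a₁.2 b.2).eq, map_mul, map_mul]
        have h2 : orderOf (z * z') = 2 := by
          refine EPPOTwo.orderOf_eq_two ?_ fun e => hyz ?_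
          · calc z * z' * (z * z') = z * (z' * z) * z' := by group
              _ = z * (z * z') * z' := by rw [hcm.eq]
              _ = (z * z) * (z' * z') := by group
              _ = 1 := by rw [EPPOTwo.sq_eq_one_of_orderOf hz,
                EPPOTwo.sq_eq_one_of_orderOf hz'2, one_mul]
          · show z' = z
            rw [eq_inv_of_mul_eq_one_right e,
              inv_eq_of_mul_eq_one_right (EPPOTwo.sq_eq_one_of_orderOf hz)]
        have h3 : Commute (z * z') x := by
          show z * z' * x = x * (z * z')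
          calc z * z' * x = z * (z' * x * z'⁻¹) * z' := by group
            _ = (z * x⁻¹ * z⁻¹) * (z * z') := by rw [hxinv z' hz'2]; group
            _ = x * (z * z') := by
              rw [show z * x⁻¹ * z⁻¹ = (z * x * z⁻¹)⁻¹ by group, hxinv z hz, inv_inv]
        exact hx1 (eq_one_of_odd_isTwo hxo (hX.two_element h2 h3))
      let g : (f.comp (Subgroup.inclusion hAL)).range → Bool := fun y =>
        decide ((y : L ⧸ Cfsg.pCore 2 L) = 1)
      have hg : Function.Injective g := by
        intro y y' h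
        simp only [g, decide_eq_decide] at h
        rcases hall y with hy | hy <;> rcases hall y' with hy' | hy'
        · exact Subtype.ext (hy.trans hy'.symm)
        · exact Subtype.ext (hy.trans (h.1 hy).symm)
        · exact Subtype.ext ((h.2 hy').trans hy'.symm)
        · exact Subtype.ext (hy.trans hy'.symm)
      simpa using Nat.card_le_card_of_injective g hg
    refine hle (maxEl_le (T := T) (O := O) (V := V) hA hVO hOT hV hVc
      (card_le_mul_inf (f.comp (Subgroup.inclusion hAL)) (fun a ha => (hker _).1 ha) hr)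
      fun a ha haO => ⟨?_, ?_⟩)
    · set a' : L := ⟨a, hAL ha⟩ with ha'
      obtain ⟨y, hy⟩ := QuotientGroup.mk'_surjective (Cfsg.pCore 2 L) x
      have hya : f y = x := hy
      have hz : orderOf (f a') = 2 := hinv ⟨a, ha⟩ haO
      have him : f (a' * (y * a' * y⁻¹)) = (x * x)⁻¹ := by
        rw [map_mul, map_mul, map_mul, map_inv, hya]
        have hzi : (f a')⁻¹ = f a' :=
          inv_eq_of_mul_eq_one_right (EPPOTwo.sq_eq_one_of_orderOf hz)
        calc f a' * (x * f a' * x⁻¹) = (f a' * x * (f a')⁻¹) * x⁻¹ := by rw [hzi]; group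
          _ = (x * x)⁻¹ := by rw [hxinv _ hz, mul_inv_rev]
      obtain ⟨i, hio, hi1⟩ := exists_odd_pow f (a' * (y * a' * y⁻¹))
        (by rw [him, orderOf_inv]
            exact hxo.of_dvd_nat (by rw [← pow_two]; exact orderOf_pow_dvd 2))
        (by rw [him, Ne, inv_eq_one]
            exact fun e => hx1 (eq_one_of_odd_isTwo hxo (EPPOTwo.isTwo_of_sq e)))
      simp only [Subgroup.coe_mul, Subgroup.coe_inv] at hio hi1
      have h1 := card_fix_mul_le hG hV hio hi1
      have heq : Nat.card ↥(V ⊓ Subgroup.centralizer {(y : G) * a * (y : G)⁻¹}) =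
          Nat.card ↥(V ⊓ Subgroup.centralizer {a}) := by
        have h : (V ⊓ Subgroup.centralizer {a}).map (MulAut.conj (y : G)).toMonoidHom =
            V ⊓ Subgroup.centralizer {(y : G) * a * (y : G)⁻¹} := by
          ext w
          rw [EPPOTwo.mem_map_conj]
          simp only [Subgroup.mem_inf, Subgroup.mem_centralizer_singleton_iff]
          refine and_congr ⟨fun h => ?_, fun h => ?_⟩ ⟨fun h => ?_, fun h => ?_⟩
          · have := EPPOTwo.conj_mem_OZ y.2 h
            simpa [mul_assoc] using this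
          · simpa [mul_assoc] using EPPOTwo.conj_mem_OZ (inv_mem y.2) h
          · calc w * ((y : G) * a * (y : G)⁻¹)
                = (y : G) * (((y : G)⁻¹ * w * y) * a) * (y : G)⁻¹ := by group
              _ = (y : G) * (a * ((y : G)⁻¹ * w * y)) * (y : G)⁻¹ := by rw [h]
              _ = _ := by group
          · calc (y : G)⁻¹ * w * y * a
                = (y : G)⁻¹ * (w * ((y : G) * a * (y : G)⁻¹)) * y := by group
              _ = (y : G)⁻¹ * ((y : G) * a * (y : G)⁻¹ * w) * y := by rw [h]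
              _ = _ := by group
        rw [← h, Subgroup.card_map_of_injective (MulEquiv.injective _)]
      exact (Nat.mul_le_mul_left _ heq.ge).trans h1
    · have h := (h4 S hS).trans (Subgroup.card_le_of_le (hWV a (hA.1.1 ha)))
      omega
  have hN := SzLocal.normalizer_JE hL hT hA
  exact ⟨T, hT, isFullTwo_of_normalizer_JE hT hN, hN⟩

end CfsgLib.Recog.CIT.SzLocal
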