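import Cfsg.Agent.Lib.Recog.CIT.LocalSuzukiTop
import Cfsg.Agent.Lib.Recog.CIT.LocalSuzukiSolv

/-!
The Suzuki case of the local analysis: if every nonsolvable maximal 2-local subgroup has a top
with Sylow 2-subgroups not of exponent two, one of them would be strongly embedded.
-/

set_option autoImplicit false
set_option linter.style.haveILetI false
set_option linter.unusedSectionVars false

namespace CfsgLib.Recog.CIT

open EPPOTwo (O2 OZ IsTwo TSyl JE IsFullTwo)

universe u

namespace SzLocal

variable {G : Type u} [Group G] [Finite G]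

theorem ne_top_of_O2 (hc : Ctx G) {M : Subgroup G} (hM : O2 M ≠ ⊥) : M ≠ ⊤ := by
  rintro rfl
  haveI : Fact (Nat.Prime 2) := ⟨Nat.prime_two⟩
  haveI := hc.simple
  have hn : (O2 (⊤ : Subgroup G)).Normal :=
    ⟨fun a ha g => EPPOTwo.conj_mem_O2 (Subgroup.mem_top g) ha⟩
  rcases hn.eq_bot_or_eq_top with h | h
  · exact hM h
  · have hp : IsPGroup 2 G := (Base.isPGroup_map_pCore 2 (⊤ : Subgroup G)).of_equiv
      ((MulEquiv.subgroupCongr h).trans Subgroup.topEquiv)
    haveI : Nontrivial G := hc.simple.toNontrivial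
    obtain ⟨a, b, hab⟩ := hc.noncomm
    rcases (inferInstance : (Subgroup.center G).Normal).eq_bot_or_eq_top with hz | hz
    · exact (Subgroup.nontrivial_iff_ne_bot _).1 hp.center_nontrivial hz
    · exact hab (Subgroup.mem_center_iff.1 (hz.ge (Subgroup.mem_top b)) a)

theorem not_solvable_map {M : Subgroup G} (hM : ¬ Group.IsSolvable M) (g : G) :
    ¬ Group.IsSolvable ↥(M.map (MulAut.conj g).toMonoidHom) := fun h => hM (by
  haveI := h
  exact Group.isSolvable_of_surjective
    (f := (M.equivMapOfInjective (MulAut.conj g).toMonoidHom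
      (MulEquiv.injective (MulAut.conj g))).symm.toMonoidHom)
    (MulEquiv.surjective _))

end SzLocal

open SzLocal in
/-- There is no configuration in which all nonsolvable maximal 2-local subgroups have tops whose
Sylow 2-subgroups are not of exponent two. -/
theorem false_of_suzuki_locals {G : Type u} [Group G] [Finite G] (hc : Ctx G)
    (hSE : ∀ H : Subgroup G, Cfsg.IsStronglyEmbedded H → Group.IsSolvable H)
    (htop : ∀ K : Subgroup G, Loc K → ¬ Group.IsSolvable K →
      ∃ (X : Type u) (_ : Group X) (_ : Finite X) (π : K →* X) (S D : Subgroup X) (q : ℕ),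
        Top K X π S D q ∧ ¬ (∀ s ∈ S, s * s = 1))
    (hex : ∃ K : Subgroup G, Loc K ∧ ¬ Group.IsSolvable K) : False := by
  have hG := hc.cit
  have hown : ∀ {K : Subgroup G}, Loc K → ¬ Group.IsSolvable K → ∃ T, Owner K T := by
    intro K hK hns
    obtain ⟨X, iX, iF, π, S, D, q, ht, hS⟩ := htop K hK hns
    exact exists_owner hG ht hS
  obtain ⟨M, hM, hMns⟩ := hex
  obtain ⟨T, hT⟩ := hown hM hMns
  -- every Sylow 2-subgroup is conjugate to `T`
  have h4 : ∀ S : Subgroup G, IsFullTwo S → 4 ≤ Nat.card (OZ S) := fun S hS => by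
    obtain ⟨g, rfl⟩ := exists_conj_of_isFullTwo hS hT.full
    refine hT.big.trans (le_of_eq_of_le ?_ (Subgroup.card_le_of_le ?_ :
      Nat.card ↥((OZ T).map (MulAut.conj g).toMonoidHom) ≤ _))
    · rw [Subgroup.card_map_of_injective (MulEquiv.injective _)]
    · rintro _ ⟨w, hw, rfl⟩
      obtain ⟨hz, hsq⟩ := EPPOTwo.mem_OZ.1 hw
      obtain ⟨hwT, hwc⟩ := EPPOTwo.mem_ZC.1 hz
      refine EPPOTwo.mem_OZ.2 ⟨EPPOTwo.mem_ZC.2 ⟨Subgroup.mem_map_of_mem _ hwT, ?_⟩, ?_⟩
      · rintro _ ⟨e, he, rfl⟩
        exact (hwc e he).map _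
      · rw [← map_mul, hsq, map_one]
  -- every maximal 2-local subgroup is the owner of each of its Sylow 2-subgroups
  have howner : ∀ {K U : Subgroup G}, Loc K → TSyl K U →
      IsFullTwo U ∧ Subgroup.normalizer (JE U : Set G) = K := by
    intro K U hK hU
    by_cases hs : Group.IsSolvable K
    · exfalso
      haveI := hs
      obtain ⟨T', -, hT', hN⟩ := exists_tsyl_solvable hG hK h4
      obtain ⟨g, rfl⟩ := exists_conj_of_isFullTwo hT' hT.full
      rw [normalizer_JE_map, hT.eq] at hN
      exact not_solvable_map hMns g (hN ▸ hs)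
    · obtain ⟨T', hT'⟩ := hown hK hs
      exact hT'.of_tsyl hU
  -- intersecting Sylow 2-subgroups have the same owner
  have hkey : ∀ n : ℕ, ∀ S S' : Subgroup G, IsFullTwo S → IsFullTwo S' → S ⊓ S' ≠ ⊥ →
      Nat.card G - Nat.card ↥(S ⊓ S') = n →
      Subgroup.normalizer (JE S : Set G) = Subgroup.normalizer (JE S' : Set G) := by
    intro n
    induction n using Nat.strong_induction_on with
    | _ n ih =>
      intro S S' hS hS' hne hn
      rcases eq_or_ne (S ⊓ S') S with hPS | hPS
      · rw [hS.2 S' hS'.1 (inf_eq_left.1 hPS)]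
      rcases eq_or_ne (S ⊓ S') S' with hPS' | hPS'
      · rw [hS'.2 S hS.1 (inf_eq_right.1 hPS')]
      obtain ⟨K, hNK, hK⟩ := SzLocal.exists_loc_ge
        (K := Subgroup.normalizer ((S ⊓ S' : Subgroup G) : Set G))
        fun e => hne (le_bot_iff.1 (e ▸ Base.le_map_pCore Subgroup.le_normalizer le_rfl
          (hS.1.to_le inf_le_left)))
      have key : ∀ A : Subgroup G, IsFullTwo A →
          S ⊓ S' < A ⊓ Subgroup.normalizer ((S ⊓ S' : Subgroup G) : Set G) →
          Subgroup.normalizer (JE A : Set G) = K := by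
        intro A hA hlt
        obtain ⟨U, hAU, hU⟩ := EPPOTwo.exists_tsyl
          (inf_le_right.trans hNK :
            A ⊓ Subgroup.normalizer ((S ⊓ S' : Subgroup G) : Set G) ≤ K) (hA.1.to_le inf_le_left)
        obtain ⟨hUf, hUK⟩ := howner hK hU
        have hlt' : S ⊓ S' < A ⊓ U := hlt.trans_le (le_inf inf_le_left hAU)
        have h1 : Nat.card ↥(S ⊓ S') < Nat.card ↥(A ⊓ U) := by
          refine lt_of_le_of_ne (Subgroup.card_le_of_le hlt'.le) fun e => hlt'.ne ?_
          exact Subgroup.eq_of_le_of_card_ge hlt'.le e.ge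
        have h2 : Nat.card ↥(A ⊓ U) ≤ Nat.card G := Subgroup.card_le_card_group _
        refine (ih _ (by omega) A U hA hUf (fun e => hne ?_) rfl).trans hUK
        exact le_bot_iff.1 (e ▸ hlt'.le)
      rw [key S hS (EPPOTwo.exists_normalizer_gt hS.1 inf_le_left hPS),
        key S' hS' (EPPOTwo.exists_normalizer_gt hS'.1 inf_le_right hPS')]
  -- strong embedding
  have hse : Cfsg.IsStronglyEmbedded M := by
    refine ⟨ne_top_of_O2 hc hM.nt, ?_, fun g hg => ?_⟩
    · rw [Involutions.even_card_iff]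
      obtain ⟨t, ht, hto⟩ := EPPOTwo.exists_involution (Base.isPGroup_map_pCore 2 M) hM.nt
      exact ⟨t, EPPOTwo.O2_le M ht, hto⟩
    · rw [Involutions.odd_card_iff]
      rintro t ⟨htM, htg⟩ hto
      haveI : Fact (Nat.Prime 2) := ⟨Nat.prime_two⟩
      have mk : ∀ {a : G}, a ∈ M → orderOf a = 2 → ∃ U, a ∈ U ∧ IsFullTwo U ∧
          Subgroup.normalizer (JE U : Set G) = M := by
        intro a ha hao
        obtain ⟨U, haU, hU⟩ := EPPOTwo.exists_tsyl (Subgroup.zpowers_le.2 ha)
          (IsPGroup.of_card (n := 1) (by rw [Nat.card_zpowers, hao, pow_one]))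
        exact ⟨U, haU (Subgroup.mem_zpowers a), howner hM hU⟩
      obtain ⟨U, htU, hUf, hUM⟩ := mk htM hto
      have htg' : g⁻¹ * t * g ∈ M := EPPOTwo.mem_map_conj.1 htg
      obtain ⟨U', htU', hU'f, hU'M⟩ := mk htg' (by
        rw [← hto]
        exact MulEquiv.orderOf_eq (MulAut.conj g⁻¹) t ▸ by simp)
      have hne : U ⊓ U'.map (MulAut.conj g).toMonoidHom ≠ ⊥ := fun e => by
        have h : t ∈ (⊥ : Subgroup G) := e ▸ ⟨htU, EPPOTwo.mem_map_conj.2 htU'⟩
        rw [Subgroup.mem_bot] at h
        rw [h, orderOf_one] at hto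
        omega
      have h := hkey _ U _ hUf (hU'f.map g) hne rfl
      rw [hUM, normalizer_JE_map, hU'M] at h
      have h1 : g ∈ Subgroup.normalizer (O2 M : Set G) := by
        refine Subgroup.mem_normalizer_iff.2 fun e => ?_
        have h2 : (O2 M).map (MulAut.conj g).toMonoidHom = O2 M := by
          refine Subgroup.eq_of_le_of_card_ge ((EPPOTwo.O2_map_conj g M).trans ?_) ?_
          · rw [← h]
          · rw [Subgroup.card_map_of_injective (K := O2 M) (f := (MulAut.conj g).toMonoidHom)
              (MulEquiv.injective _)]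
        conv_rhs => rw [← h2]
        rw [EPPOTwo.mem_map_conj]
        simp [mul_assoc]
      exact hg ((SzLocal.normalizer_O2 hM).le h1)
  exact hMns (hSE M hse)

end CfsgLib.Recog.CIT
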