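import Cfsg.Agent.Lib.Recog.CIT.Basic
import Cfsg.Agent.Lib.Base.FPF
import Cfsg.Agent.Lib.Base.MinimalNormal
import Cfsg.Agent.Lib.PSL2.Four

/-!
A group in which every involution centraliser is a 2-group has no section of odd type or of type
`PSL₃(4)` above a nontrivial normal 2-subgroup: such a section would need an element of order
three with a fixed point on that subgroup.
-/

set_option autoImplicit false
set_option linter.dupNamespace false
set_option linter.unusedSectionVars false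
set_option linter.style.haveILetI false

namespace CfsgLib.Recog.CIT

open EPPOTwo (IsTwo isTwo_of_mem)

universe u

namespace NoSection

section Action

theorem mul_sq_eq_one {M : Type*} [Group M] {y : M} (h : y ^ 3 = 1) : y * (y * y) = 1 := by
  rw [← mul_assoc, ← pow_two, ← pow_succ, h]

theorem inv_eq_sq {M : Type*} [Group M] {y : M} (h : y ^ 3 = 1) : y⁻¹ = y * y :=
  inv_eq_of_mul_eq_one_right (mul_sq_eq_one h)

variable {Y W : Type*} [Group Y] [CommGroup W] (ρ : Y →* MulAut W)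

/-- Elements of order three have no nontrivial fixed points. -/
def FreeThree : Prop := ∀ y : Y, y ^ 3 = 1 → y ≠ 1 → ∀ w : W, ρ y w = w → w = 1

variable {ρ}

theorem FreeThree.prod_eq_one (h : FreeThree ρ) {y : Y} (h3 : y ^ 3 = 1) (h1 : y ≠ 1) (w : W) :
    w * ρ y w * ρ (y * y) w = 1 := by
  refine h y h3 h1 _ ?_
  rw [map_mul (ρ y), map_mul (ρ y), ← MulAut.mul_apply, ← map_mul, ← MulAut.mul_apply, ← map_mul,
    mul_sq_eq_one h3, map_one, MulAut.one_apply, mul_comm, mul_assoc]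

/-- Fixed points of an involution inverting an element of order three are commutators. -/
theorem FreeThree.exists_eq_commutator (h : FreeThree ρ) (hsq : ∀ w : W, w * w = 1) {t y : Y}
    (h3 : y ^ 3 = 1) (h1 : y ≠ 1) (hinv : t * y = y⁻¹ * t) {v : W} (hv : ρ t v = v) :
    ∃ u : W, v = u * ρ t u := by
  refine ⟨ρ y v, ?_⟩
  have hyy : y⁻¹ = y * y := inv_eq_sq h3
  rw [← MulAut.mul_apply, ← map_mul, hinv, map_mul, MulAut.mul_apply, hv, hyy]
  have e := h.prod_eq_one h3 h1 v
  rw [mul_assoc] at e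
  rw [eq_inv_of_mul_eq_one_right e]
  exact (inv_eq_of_mul_eq_one_right (hsq v)).symm

/-- The sum over a four-group normalised by an element of order three vanishes. -/
theorem FreeThree.four_eq_one (h : FreeThree ρ) (hsq : ∀ w : W, w * w = 1) {x z a : Y}
    (h3 : x ^ 3 = 1) (h1 : x ≠ 1) (hzz : z * z = 1) (haa : a * a = 1) (hc : z * a = a * z)
    (hxz : x * z * x⁻¹ = a) (hxa : x * a * x⁻¹ = z * a) (w : W) :
    w * ρ z w * ρ a w * ρ (z * a) w = 1 := by
  have hxi : x⁻¹ = x * x := inv_eq_sq h3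
  have hza : (z * a) * (z * a) = 1 := by
    calc (z * a) * (z * a) = z * (a * z) * a := by group
      _ = z * (z * a) * a := by rw [hc]
      _ = (z * z) * (a * a) := by group
      _ = 1 := by rw [hzz, haa, one_mul]
  have hzaz : z * a * z = a := by
    rw [hc, mul_assoc, hzz, mul_one]
  have e1 : z * x = x * (z * a) := by
    have e : x * (z * a) * x⁻¹ = z := by
      calc x * (z * a) * x⁻¹ = (x * z * x⁻¹) * (x * a * x⁻¹) := by group
        _ = z := by
          rw [hxz, hxa]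
          calc a * (z * a) = (a * z) * a := by group
            _ = z * (a * a) := by rw [← hc]; group
            _ = z := by rw [haa, mul_one]
    calc z * x = x * (z * a) * x⁻¹ * x := by rw [e]
      _ = _ := by group
  have e2 : a * x = x * z := by rw [← hxz]; group
  have e3 : (z * a) * x = x * a := by rw [← hxa]; group
  have key : ∀ v v' : Y, v * x = x * v' → v * v = 1 → v' * v' = 1 → (x * v) ^ 3 = 1 ∧ x * v ≠ 1 →
      ρ x (ρ v w) * ρ (x * x) (ρ (v' * v) w) = w := by
    intro v v' hvx hv hv' ho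
    have e := h.prod_eq_one ho.1 ho.2 w
    rw [show x * v * (x * v) = x * x * (v' * v) by
      calc x * v * (x * v) = x * (v * x) * v := by group
        _ = _ := by rw [hvx]; group] at e
    rw [map_mul, MulAut.mul_apply, map_mul, MulAut.mul_apply, mul_assoc] at e
    rw [eq_inv_of_mul_eq_one_right e]
    exact inv_eq_of_mul_eq_one_right (hsq w)
  have cube : ∀ v v' : Y, v * x = x * v' → ∀ v'' : Y, v' * x = x * v'' → v'' * v' * v = 1 →
      v ≠ x⁻¹ → (x * v) ^ 3 = 1 ∧ x * v ≠ 1 := by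
    intro v v' hv v'' hv' hp hne
    refine ⟨?_, fun e => hne (eq_inv_of_mul_eq_one_right e)⟩
    calc (x * v) ^ 3 = x * (v * x) * (v * x) * v := by
          simp only [pow_succ, pow_zero, one_mul, mul_assoc]
      _ = x * (x * v') * (x * v') * v := by rw [hv]
      _ = x * x * (v' * x) * v' * v := by group
      _ = x ^ 3 * (v'' * v' * v) := by
          rw [hv']; simp only [pow_succ, pow_zero, one_mul, mul_assoc]
      _ = 1 := by rw [h3, hp, one_mul]
  have hne : ∀ v : Y, v * v = 1 → v ≠ x⁻¹ := fun v hv e => h1 (by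
    subst e
    rw [← mul_inv_rev, inv_eq_one, ← hxi, inv_eq_one] at hv
    exact hv)
  have k0 : ρ x w * ρ (x * x) w = w := by
    have e := h.prod_eq_one h3 h1 w
    rw [mul_assoc] at e
    rw [eq_inv_of_mul_eq_one_right e]
    exact inv_eq_of_mul_eq_one_right (hsq w)
  have kz := key z (z * a) e1 hzz hza (cube z (z * a) e1 a e3 (by
    calc a * (z * a) * z = a * (z * a * z) := by group
      _ = 1 := by rw [hzaz, haa]) (hne z hzz))
  have ka := key a z e2 haa hzz (cube a z e2 (z * a) e1 (by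
    rw [hzaz, haa]) (hne a haa))
  have kza := key (z * a) a e3 hza haa (cube (z * a) a e3 z e2 hza (hne _ hza))
  rw [hzaz] at kz
  rw [show a * (z * a) = z by rw [hc, ← mul_assoc, haa, one_mul]] at kza
  set σ := w * ρ z w * ρ a w * ρ (z * a) w with hσ
  have hsum : ρ x σ * ρ (x * x) σ = 1 := by
    calc ρ x σ * ρ (x * x) σ
        = (ρ x w * ρ (x * x) w) * (ρ x (ρ z w) * ρ (x * x) (ρ a w)) *
          (ρ x (ρ a w) * ρ (x * x) (ρ (z * a) w)) *
          (ρ x (ρ (z * a) w) * ρ (x * x) (ρ z w)) := by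
          rw [hσ]; simp only [map_mul (ρ x), map_mul (ρ (x * x))]; ac_rfl
      _ = w * w * (w * w) := by rw [k0, kz, ka, kza, mul_assoc]
      _ = 1 := by rw [hsq]
  have e := h.prod_eq_one h3 h1 σ
  rwa [mul_assoc, hsum, mul_one] at e

/-- Two symmetric groups of degree four sharing a Sylow 2-subgroup force a fixed point. -/
theorem FreeThree.false_of_pair [Nontrivial W] (h : FreeThree ρ) (hsq : ∀ w : W, w * w = 1)
    {z a b x x₂ : Y} (hzz : z * z = 1) (haa : a * a = 1) (hbb : b * b = 1) (hza : z * a = a * z)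
    (hzb : z * b = b * z) (h3 : x ^ 3 = 1) (h1 : x ≠ 1) (hxz : x * z * x⁻¹ = a)
    (hxa : x * a * x⁻¹ = z * a) (hbx : b * x = x⁻¹ * b) (g3 : x₂ ^ 3 = 1) (g1 : x₂ ≠ 1)
    (hgz : x₂ * z * x₂⁻¹ = b) (hgb : x₂ * b * x₂⁻¹ = z * b) : False := by
  -- the involution `z` inverts an element of order three
  set y := x₂⁻¹ * x * x₂ with hy
  have hzy : z * y = y⁻¹ * z := by
    have hz : z = x₂⁻¹ * b * x₂ := by rw [← hgz]; group
    calc z * y = x₂⁻¹ * (b * x) * x₂ := by rw [hy, hz]; group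
      _ = x₂⁻¹ * (x⁻¹ * b) * x₂ := by rw [hbx]
      _ = y⁻¹ * z := by rw [hy, hz]; group
  have hy3 : y ^ 3 = 1 := by
    calc y ^ 3 = x₂⁻¹ * x ^ 3 * x₂ := by rw [hy]; simp [pow_succ, mul_assoc]
      _ = 1 := by rw [h3, mul_one, inv_mul_cancel]
  have hy1 : y ≠ 1 := fun e => h1 (by
    have : x = x₂ * y * x₂⁻¹ := by rw [hy]; group
    rw [this, e, mul_one, mul_inv_cancel])
  have inv_self : ∀ w : W, w⁻¹ = w := fun w => inv_eq_of_mul_eq_one_right (hsq w)
  -- a fixed point of `z` is fixed by both four-groups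
  have hfix : ∀ {e f : Y}, f ^ 3 = 1 → f ≠ 1 → e * e = 1 → z * e = e * z → f * z * f⁻¹ = e →
      f * e * f⁻¹ = z * e → ∀ v : W, ρ z v = v → ρ e v = v := by
    intro e f f3 f1 hee hze hfz hfe v hv
    obtain ⟨u, hu⟩ := h.exists_eq_commutator hsq hy3 hy1 hzy hv
    have h4 := h.four_eq_one hsq f3 f1 hzz hee hze hfz hfe u
    rw [mul_assoc, ← hu] at h4
    rw [hu, map_mul, ← MulAut.mul_apply, ← map_mul, ← hze, ← hu, eq_inv_of_mul_eq_one_right h4,
      inv_self]
  have hav := hfix h3 h1 haa hza hxz hxa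
  have hbv := hfix g3 g1 hbb hzb hgz hgb
  have hz0 : ∀ v : W, ρ z v = v → v = 1 := by
    intro v hv
    have hzx : z * x = x * (z * a) := by
      have e1 : a * (z * a) = z := by rw [hza, ← mul_assoc, haa, one_mul]
      calc z * x = a * (z * a) * x := by rw [e1]
        _ = (x * z * x⁻¹) * (x * a * x⁻¹) * x := by rw [hxz, hxa]
        _ = _ := by group
    have hxv : ρ z (ρ x v) = ρ x v := by
      rw [← MulAut.mul_apply, ← map_mul, hzx, map_mul, MulAut.mul_apply, map_mul,
        MulAut.mul_apply, hav v hv, hv]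
    have e := hbv _ hxv
    rw [← MulAut.mul_apply, ← map_mul, hbx, map_mul, MulAut.mul_apply, hbv v hv] at e
    refine h x h3 h1 v ?_
    have e' := congrArg (ρ x) e
    rw [← MulAut.mul_apply, ← map_mul, mul_inv_cancel, map_one, MulAut.one_apply] at e'
    -- `x²` fixes `v`
    have e2 : ρ x (ρ x (ρ x v)) = v := by
      rw [← MulAut.mul_apply, ← map_mul, ← MulAut.mul_apply, ← map_mul,
        show x * x * x = 1 by rw [mul_assoc, mul_sq_eq_one h3], map_one, MulAut.one_apply]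
    rwa [← e'] at e2
  obtain ⟨u, hu⟩ := exists_ne (1 : W)
  refine hu (hz0 u ?_)
  have e := hz0 (u * ρ z u) (by
    rw [map_mul, ← MulAut.mul_apply, ← map_mul, hzz, map_one, MulAut.one_apply, mul_comm])
  rw [eq_inv_of_mul_eq_one_right e, inv_self]

end Action

/-- The double transpositions together with the identity. -/
def inFour (g : Equiv.Perm (Fin 4)) : Prop :=
  g = 1 ∨ g = Equiv.swap 0 1 * Equiv.swap 2 3 ∨ g = Equiv.swap 0 2 * Equiv.swap 1 3 ∨
    g = Equiv.swap 0 3 * Equiv.swap 1 2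

instance : DecidablePred inFour := fun g => by unfold inFour; infer_instance

theorem perm_four_facts : ∀ z : Equiv.Perm (Fin 4), inFour z → z * z = 1 ∧
    (∀ g : Equiv.Perm (Fin 4), inFour (g * z * g⁻¹)) ∧
    ∀ v : Equiv.Perm (Fin 4), inFour v → inFour (z * v) ∧ z * v = v * z := by
  decide

theorem perm_four_cycle : ∀ z : Equiv.Perm (Fin 4), inFour z → z ≠ 1 → ∀ b : Equiv.Perm (Fin 4),
    inFour b → b ≠ 1 → b ≠ z → ∃ x : Equiv.Perm (Fin 4), x ^ 3 = 1 ∧ x ≠ 1 ∧
      x * z * x⁻¹ = b ∧ x * b * x⁻¹ = z * b := by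
  decide +kernel

theorem perm_four_transposition : ∀ z : Equiv.Perm (Fin 4), inFour z → z ≠ 1 →
    ∀ b : Equiv.Perm (Fin 4), b * b = 1 → ¬ inFour b → z * b = b * z →
      ∃ x : Equiv.Perm (Fin 4), x ^ 3 = 1 ∧ x ≠ 1 ∧ b * x = x⁻¹ * b ∧
        inFour (x * z * x⁻¹) ∧ x * (x * z * x⁻¹) * x⁻¹ = z * (x * z * x⁻¹) := by
  decide +kernel

/-- The four-group of the symmetric group of degree four. -/
def fourSub : Subgroup (Equiv.Perm (Fin 4)) where
  carrier := {g | inFour g}
  one_mem' := Or.inl rfl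
  mul_mem' := fun ha hb => ((perm_four_facts _ ha).2.2 _ hb).1
  inv_mem' := fun {a} ha => by
    show inFour a⁻¹
    rw [inv_eq_of_mul_eq_one_right (perm_four_facts _ ha).1]
    exact ha

theorem card_fourSub : Nat.card fourSub = 4 := by
  rw [show Nat.card fourSub = Nat.card {g : Equiv.Perm (Fin 4) // inFour g} from rfl,
    Nat.card_eq_fintype_card]
  decide

theorem fourSub_le {D : Subgroup (Equiv.Perm (Fin 4))} (hD : Nat.card D = 8) : fourSub ≤ D := by
  haveI : Fact (Nat.Prime 2) := ⟨Nat.prime_two⟩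
  haveI : fourSub.Normal := ⟨fun z hz g => (perm_four_facts z hz).2.1 g⟩
  have h2 : IsPGroup 2 fourSub := IsPGroup.of_card (n := 2) card_fourSub
  have hD2 : IsPGroup 2 D := IsPGroup.of_card (n := 3) hD
  obtain ⟨n, hn⟩ := (hD2.to_sup_of_normal_right h2).exists_card_eq
  have hdvd := Subgroup.card_subgroup_dvd_card (D ⊔ fourSub)
  rw [hn, Nat.card_perm, Nat.card_fin, show Nat.factorial 4 = 24 from rfl] at hdvd
  have hn3 : n ≤ 3 := by
    by_contra hcon
    have := (pow_dvd_pow 2 (show 4 ≤ n by omega)).trans hdvd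
    norm_num at this
  have heq : D = D ⊔ fourSub := Subgroup.eq_of_le_of_card_ge le_sup_left (by
    rw [hn, hD]; exact (Nat.pow_le_pow_right two_pos hn3).trans (by norm_num))
  exact heq ▸ le_sup_right

open CfsgLib.PSL2 in
/-- A group of odd type contains the configuration used above. -/
theorem exists_pair {X : Type*} [Group X] [Finite X] {F : Type} [Field F] [Finite F]
    (hodd : Odd (Nat.card F)) (e : X ≃* Matrix.ProjectiveSpecialLinearGroup (Fin 2) F)
    {M₁ M₂ : Subgroup X} (hne : M₁ ≠ M₂) (e₁ : M₁ ≃* Equiv.Perm (Fin 4))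
    (e₂ : M₂ ≃* Equiv.Perm (Fin 4)) (h8 : Nat.card ↥(M₁ ⊓ M₂) = 8) :
    ∃ z a b x x₂ : X, z * z = 1 ∧ a * a = 1 ∧ b * b = 1 ∧ z * a = a * z ∧ z * b = b * z ∧
      x ^ 3 = 1 ∧ x ≠ 1 ∧ x * z * x⁻¹ = a ∧ x * a * x⁻¹ = z * a ∧ b * x = x⁻¹ * b ∧
      x₂ ^ 3 = 1 ∧ x₂ ≠ 1 ∧ x₂ * z * x₂⁻¹ = b ∧ x₂ * b * x₂⁻¹ = z * b := by
  obtain ⟨p, hp⟩ := CharP.exists F
  haveI := Fact.mk (CharP.char_is_prime F p)
  set D := M₁ ⊓ M₂ with hD
  let f₁ : Equiv.Perm (Fin 4) →* X := M₁.subtype.comp e₁.symm.toMonoidHom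
  let f₂ : Equiv.Perm (Fin 4) →* X := M₂.subtype.comp e₂.symm.toMonoidHom
  have hf₁ : Function.Injective f₁ := M₁.subtype_injective.comp e₁.symm.injective
  have hf₂ : Function.Injective f₂ := M₂.subtype_injective.comp e₂.symm.injective
  have hm₁ : ∀ {g : X}, g ∈ M₁ → ∃ s, f₁ s = g := fun {g} hg => ⟨e₁ ⟨g, hg⟩, by simp [f₁]⟩
  have hm₂ : ∀ {g : X}, g ∈ M₂ → ∃ s, f₂ s = g := fun {g} hg => ⟨e₂ ⟨g, hg⟩, by simp [f₂]⟩
  set V₁ := fourSub.map f₁ with hV₁
  set V₂ := fourSub.map f₂ with hV₂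
  have hD₁ : V₁ ≤ D := by
    have hc : Nat.card (D.comap f₁) = 8 := by
      rw [← Subgroup.card_map_of_injective hf₁, Subgroup.map_comap_eq_self ?_, h8]
      exact fun g hg => MonoidHom.mem_range.2 (hm₁ hg.1)
    exact Subgroup.map_le_iff_le_comap.2 (fourSub_le hc)
  have hD₂ : V₂ ≤ D := by
    have hc : Nat.card (D.comap f₂) = 8 := by
      rw [← Subgroup.card_map_of_injective hf₂, Subgroup.map_comap_eq_self ?_, h8]
      exact fun g hg => MonoidHom.mem_range.2 (hm₂ hg.2)
    exact Subgroup.map_le_iff_le_comap.2 (fourSub_le hc)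
  have hc₁ : Nat.card V₁ = 4 := by rw [hV₁, Subgroup.card_map_of_injective hf₁, card_fourSub]
  have hc₂ : Nat.card V₂ = 4 := by rw [hV₂, Subgroup.card_map_of_injective hf₂, card_fourSub]
  -- the two four-groups differ
  have hVne : V₁ ≠ V₂ := by
    intro hV
    let φ : X →* Matrix.ProjGenLinGroup (Fin 2) F :=
      (Matrix.ProjectiveSpecialLinearGroup.toPGL (n := Fin 2) (R := F)).comp e.toMonoidHom
    have hφ : Function.Injective φ :=
      Matrix.ProjectiveSpecialLinearGroup.toPGL_injective.comp e.injective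
    have hrange : ∀ g, φ g ∈ pslRange F := fun g => ⟨e g, rfl⟩
    let z0 : Equiv.Perm (Fin 4) := Equiv.swap 0 1 * Equiv.swap 2 3
    let a0 : Equiv.Perm (Fin 4) := Equiv.swap 0 2 * Equiv.swap 1 3
    have hz0 : inFour z0 := Or.inr (Or.inl rfl)
    have ha0 : inFour a0 := Or.inr (Or.inr (Or.inl rfl))
    have hinj : Function.Injective (φ.comp f₁) := hφ.comp hf₁
    have hp' : FourPair (φ.comp f₁ z0) (φ.comp f₁ a0) :=
      { hx := hrange _
        hy := hrange _
        x1 := (map_ne_one_iff _ hinj).2 (by decide)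
        y1 := (map_ne_one_iff _ hinj).2 (by decide)
        ne := hinj.ne (by decide)
        sx := by rw [← map_mul, (perm_four_facts _ hz0).1, map_one]
        sy := by rw [← map_mul, (perm_four_facts _ ha0).1, map_one]
        comm := by
          show φ.comp f₁ z0 * φ.comp f₁ a0 = φ.comp f₁ a0 * φ.comp f₁ z0
          rw [← map_mul, ((perm_four_facts _ hz0).2.2 _ ha0).2, map_mul] }
    have hV' : ∀ g ∈ V₁, φ g ∈ fourGrp (φ.comp f₁ z0) (φ.comp f₁ a0) := by
      rintro _ ⟨v, hv, rfl⟩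
      refine mem_fourGrp.2 ⟨?_, ?_⟩
      · exact congrArg φ (congrArg f₁ ((perm_four_facts _ hv).2.2 _ hz0).2) |> fun h => by
          show φ (f₁ v) * φ (f₁ z0) = φ (f₁ z0) * φ (f₁ v)
          simpa [map_mul] using h
      · exact congrArg φ (congrArg f₁ ((perm_four_facts _ hv).2.2 _ ha0).2) |> fun h => by
          show φ (f₁ v) * φ (f₁ a0) = φ (f₁ a0) * φ (f₁ v)
          simpa [map_mul] using h
    have hle : ∀ (M : Subgroup X) (f : Equiv.Perm (Fin 4) →* X),
        (∀ {g : X}, g ∈ M → ∃ s, f s = g) → fourSub.map f = V₁ →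
        M.map φ ≤ fourNorm (φ.comp f₁ z0) (φ.comp f₁ a0) := by
      rintro M f hM hfV _ ⟨g, hg, rfl⟩
      obtain ⟨s, rfl⟩ := hM hg
      have hs : ∀ v ∈ V₁, f s * v * (f s)⁻¹ ∈ V₁ := by
        rw [← hfV]
        rintro _ ⟨v, hv, rfl⟩
        exact ⟨s * v * s⁻¹, (perm_four_facts _ hv).2.1 s, by simp⟩
      refine hp'.mem_norm hodd ?_ ?_
      · simpa using hV' _ (hs _ (Subgroup.mem_map_of_mem f₁ hz0))
      · simpa using hV' _ (hs _ (Subgroup.mem_map_of_mem f₁ ha0))
    have h24 : ∀ (M : Subgroup X), (M ≃* Equiv.Perm (Fin 4)) →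
        M.map φ ≤ fourNorm (φ.comp f₁ z0) (φ.comp f₁ a0) →
        M.map φ = fourNorm (φ.comp f₁ z0) (φ.comp f₁ a0) := fun M eM hM =>
      Subgroup.eq_of_le_of_card_ge hM (by
        rw [hp'.card_norm hodd, Subgroup.card_map_of_injective hφ, Nat.card_congr eM.toEquiv,
          Nat.card_perm, Nat.card_fin]
        rfl)
    exact hne (Subgroup.map_injective hφ
      ((h24 M₁ e₁ (hle M₁ f₁ hm₁ rfl)).trans (h24 M₂ e₂ (hle M₂ f₂ hm₂ hV.symm)).symm))
  obtain ⟨b, hb₂, hb₁⟩ : ∃ b ∈ V₂, b ∉ V₁ := by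
    by_contra hcon
    push Not at hcon
    exact hVne (Subgroup.eq_of_le_of_card_ge hcon (by rw [hc₁, hc₂])).symm
  obtain ⟨z, hz₁, hz₂, hz⟩ : ∃ z ∈ V₁, z ∈ V₂ ∧ z ≠ 1 := by
    by_contra hcon
    push Not at hcon
    have hinj : Function.Injective
        (fun q : V₁ × V₂ => (⟨(q.1 : X) * q.2, mul_mem (hD₁ q.1.2) (hD₂ q.2.2)⟩ : D)) := by
      rintro ⟨⟨u, hu⟩, ⟨v, hv⟩⟩ ⟨⟨u', hu'⟩, ⟨v', hv'⟩⟩ h
      have h' : u * v = u' * v' := congrArg Subtype.val h
      have e : u'⁻¹ * u = v' * v⁻¹ := by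
        calc u'⁻¹ * u = u'⁻¹ * (u * v) * v⁻¹ := by group
          _ = _ := by rw [h']; group
      have h1 : u'⁻¹ * u = 1 :=
        hcon _ (mul_mem (inv_mem hu') hu) (e ▸ mul_mem hv' (inv_mem hv))
      rw [inv_mul_eq_one] at h1
      subst h1
      have h2 : v = v' := mul_left_cancel h'
      subst h2
      rfl
    have := Nat.card_le_card_of_injective _ hinj
    rw [Nat.card_prod, hc₁, hc₂, h8] at this
    omega
  obtain ⟨zs, hzs, rfl⟩ := hz₁
  obtain ⟨bs, hbs, rfl⟩ : ∃ s, s * s = 1 ∧ f₁ s = b := by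
    obtain ⟨s, hs⟩ := hm₁ (hD₂ hb₂).1
    obtain ⟨t, ht, htb⟩ := hb₂
    refine ⟨s, hf₁ ?_, hs⟩
    rw [map_mul, hs, ← htb, ← map_mul, (perm_four_facts _ ht).1, map_one, map_one]
  obtain ⟨zt, hzt, hzt'⟩ := hz₂
  obtain ⟨bt, hbt, hbt'⟩ := hb₂
  have hzb : zs * bs = bs * zs := hf₁ (by
    rw [map_mul, map_mul, ← hzt', ← hbt', ← map_mul, ← map_mul,
      ((perm_four_facts _ hzt).2.2 _ hbt).2])
  have hzs1 : zs ≠ 1 := fun h => hz (by rw [h, map_one])
  obtain ⟨x, hx3, hx1, hbx, hxzV, hxa⟩ := perm_four_transposition zs hzs hzs1 bs hbs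
    (fun h => hb₁ ⟨bs, h, rfl⟩) hzb
  obtain ⟨y, hy3, hy1, hyz, hyb⟩ := perm_four_cycle zt hzt
    (fun h => hz (by rw [← hzt', h, map_one])) bt hbt
    (fun h => hb₁ (by rw [← hbt', h, map_one]; exact one_mem _))
    (fun h => hb₁ (by rw [← hbt', h, hzt']; exact ⟨zs, hzs, rfl⟩))
  refine ⟨f₁ zs, f₁ (x * zs * x⁻¹), f₁ bs, f₁ x, f₂ y, ?_, ?_, ?_, ?_, ?_, ?_, ?_, ?_, ?_, ?_,
    ?_, ?_, ?_, ?_⟩
  · rw [← map_mul, (perm_four_facts _ hzs).1, map_one]
  · rw [← map_mul, (perm_four_facts _ hxzV).1, map_one]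
  · rw [← map_mul, hbs, map_one]
  · rw [← map_mul, ← map_mul, ((perm_four_facts _ hzs).2.2 _ hxzV).2]
  · rw [← map_mul, ← map_mul, hzb]
  · rw [← map_pow, hx3, map_one]
  · exact (map_ne_one_iff _ hf₁).2 hx1
  · simp only [map_mul, map_inv]
  · rw [← map_inv, ← map_mul, ← map_mul, hxa, map_mul]
  · rw [← map_inv, ← map_mul, hbx, map_mul]
  · rw [← map_pow, hy3, map_one]
  · exact (map_ne_one_iff _ hf₂).2 hy1
  · rw [← hzt', ← hbt', ← map_inv, ← map_mul, ← map_mul, hyz]
  · rw [← hzt', ← hbt', ← map_inv, ← map_mul, ← map_mul, hyb, map_mul]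

/-- Two commuting elements of order three in `PSL₃` over the field of four elements. -/
theorem exists_two_three {X : Type*} [Group X] (h : IsL34 X) :
    ∃ a b : X, a ^ 3 = 1 ∧ b ^ 3 = 1 ∧ a ≠ 1 ∧ a * b = b * a ∧ b ∉ Subgroup.zpowers a := by
  classical
  obtain ⟨F, _, _, hF, ⟨e⟩⟩ := h
  obtain ⟨w, hw0, hw1⟩ : ∃ w : F, w ≠ 0 ∧ w ≠ 1 := by
    by_contra hcon
    push Not at hcon
    have : (Finset.univ : Finset F) ⊆ {0, 1} := fun y _ => by
      rcases eq_or_ne y 0 with h | h <;> simp [h, hcon]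
    have := Finset.card_le_card this
    rw [Finset.card_univ, hF] at this
    exact absurd (this.trans Finset.card_le_two) (by omega)
  have hw3 : w ^ 3 = 1 := by
    have := FiniteField.pow_card_sub_one_eq_one w hw0
    rwa [hF] at this
  let A : Matrix.SpecialLinearGroup (Fin 3) F := ⟨Matrix.diagonal ![1, w, w ^ 2], by
    simp [Matrix.det_diagonal, Fin.prod_univ_three, ← pow_succ', hw3]⟩
  let B : Matrix.SpecialLinearGroup (Fin 3) F := ⟨!![0, 0, 1; 1, 0, 0; 0, 1, 0], by
    simp [Matrix.det_fin_three]⟩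
  let q := QuotientGroup.mk' (Subgroup.center (Matrix.SpecialLinearGroup (Fin 3) F))
  have hcen : ∀ (M : Matrix.SpecialLinearGroup (Fin 3) F), q M = 1 →
      ∃ c : F, (M : Matrix (Fin 3) (Fin 3) F) = c • (1 : Matrix (Fin 3) (Fin 3) F) := fun M hM => by
    obtain ⟨c, -, hc⟩ := Matrix.SpecialLinearGroup.mem_center_iff.1
      ((QuotientGroup.eq_one_iff M).1 hM)
    exact ⟨c, by rw [← hc, Matrix.scalar_apply, Matrix.smul_one_eq_diagonal]⟩
  have hA3 : A ^ 3 = 1 := Subtype.ext (by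
    show (Matrix.diagonal ![1, w, w ^ 2]) ^ 3 = 1
    rw [Matrix.diagonal_pow, ← Matrix.diagonal_one]
    congr 1
    funext i
    fin_cases i
    · simp
    · simpa using hw3
    · simp [pow_right_comm w 2 3, hw3])
  have hB3 : B ^ 3 = 1 := Subtype.ext (by
    show (!![0, 0, 1; 1, 0, 0; 0, 1, 0] : Matrix (Fin 3) (Fin 3) F) ^ 3 = 1
    ext i j
    fin_cases i <;> fin_cases j <;>
      simp [pow_succ, Matrix.mul_apply, Fin.sum_univ_three])
  have hcm : q A * q B = q B * q A := by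
    rw [← map_mul, ← map_mul]
    refine QuotientGroup.eq.2 (Matrix.SpecialLinearGroup.mem_center_iff.2 ⟨w ^ 2, ?_, ?_⟩)
    · rw [Fintype.card_fin, ← pow_mul, pow_mul', hw3, one_pow]
    · have key : A.1 * B.1 * Matrix.scalar (Fin 3) (w ^ 2) = B.1 * A.1 := by
        ext i j
        fin_cases i <;> fin_cases j <;>
          simp [A, B, Matrix.mul_apply, Matrix.diagonal] <;>
          first
            | linear_combination hw3
            | linear_combination w * hw3
      rw [Matrix.SpecialLinearGroup.coe_mul, Matrix.SpecialLinearGroup.coe_mul B A, ← key,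
        ← Matrix.SpecialLinearGroup.coe_mul A B, ← mul_assoc,
        ← Matrix.SpecialLinearGroup.coe_mul, inv_mul_cancel, Matrix.SpecialLinearGroup.coe_one,
        one_mul]
  refine ⟨e.symm (q A), e.symm (q B), ?_, ?_, ?_, ?_, ?_⟩
  · rw [← map_pow, ← map_pow, hA3, map_one, map_one]
  · rw [← map_pow, ← map_pow, hB3, map_one, map_one]
  · intro h
    obtain ⟨c, hc⟩ := hcen A (e.symm.injective (h.trans e.symm.map_one.symm))
    have h0 := congrFun (congrFun hc 0) 0
    have h1 := congrFun (congrFun hc 1) 1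
    simp [A] at h0 h1
    exact hw1 (h1.trans h0.symm)
  · rw [← map_mul, hcm, map_mul]
  · intro h
    obtain ⟨k, hk⟩ := Subgroup.mem_zpowers_iff.1 h
    rw [← map_zpow, ← map_zpow] at hk
    have hk' := e.symm.injective hk
    -- powers of `A` are diagonal
    have hkA : q (A ^ (k % 3).toNat) = q B := by
      rw [← hk', ← zpow_natCast, Int.toNat_of_nonneg (Int.emod_nonneg _ (by norm_num))]
      conv_rhs => rw [← Int.mul_ediv_add_emod k 3, zpow_add, zpow_mul, show ((3 : ℤ)) = ((3 : ℕ) : ℤ) from rfl, zpow_natCast, hA3, one_zpow, one_mul, Nat.cast_ofNat]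
    obtain ⟨c, hc⟩ := hcen ((A ^ (k % 3).toNat)⁻¹ * B) (by
      rw [map_mul, map_inv, hkA, inv_mul_cancel])
    have h10 : (B : Matrix (Fin 3) (Fin 3) F) =
        (A ^ (k % 3).toNat : Matrix.SpecialLinearGroup (Fin 3) F).1 * (c • 1) := by
      rw [← hc, ← Matrix.SpecialLinearGroup.coe_mul, mul_inv_cancel_left]
    have h11 := congrFun (congrFun h10 1) 0
    rw [Matrix.SpecialLinearGroup.coe_pow] at h11
    simp [A, B, Matrix.diagonal_pow] at h11

end NoSection

variable {G : Type u} [Group G] [Finite G]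

/-- An element of order three modulo a 2-subgroup has a lift of order three. -/
theorem exists_three_lift {Y : Type u} [Group Y] (π : G →* Y) (hker : IsPGroup 2 π.ker) {c : G}
    (hc : (π c) ^ 3 = 1) : ∃ j : ℕ, π (c ^ 4 ^ j) = π c ∧ (c ^ 4 ^ j) ^ 3 = 1 := by
  obtain ⟨j, hj⟩ := hker ⟨c ^ 3, by rw [MonoidHom.mem_ker, map_pow, hc]⟩
  have hj' : (c ^ 3) ^ 2 ^ j = 1 := congrArg Subtype.val hj
  refine ⟨j, ?_, ?_⟩
  · rw [map_pow, ← Nat.mod_add_div (4 ^ j) 3, pow_add, pow_mul, hc, one_pow, mul_one,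
      Nat.pow_mod]
    simp
  · rw [← pow_mul, mul_comm, show 4 ^ j = 2 ^ j * 2 ^ j by rw [← mul_pow]; norm_num, ← mul_assoc,
      pow_mul, pow_mul, hj', one_pow]

/-- There is no section of odd type or of type `PSL₃(4)` above a nontrivial normal 2-subgroup. -/
theorem not_oddType_section (hG : CIT G) {Y : Type u} [Group Y] (π : G →* Y)
    (hπ : Function.Surjective π) (hker : IsPGroup 2 π.ker) (hne : π.ker ≠ ⊥) (X : Subgroup Y) :
    ¬ IsOddType X ∧ ¬ IsL34 X := by
  classical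
  haveI : Fact (Nat.Prime 2) := ⟨Nat.prime_two⟩
  haveI : Finite Y := Finite.of_surjective π hπ
  refine ⟨?_, ?_⟩
  · rintro ⟨⟨F, _, _, hF, ⟨e⟩⟩, M₁, M₂, hM, ⟨e₁⟩, ⟨e₂⟩, h8⟩
    have hodd : Odd (Nat.card F) := by
      rw [Nat.card_eq_fintype_card]
      rcases hF with h9 | ⟨hp, k, hk⟩
      · rw [h9]; decide
      · refine hp.odd_of_ne_two fun h2 => ?_
        have h8' : 8 ∣ Nat.card X := h8 ▸ Subgroup.card_subgroup_dvd_card (M₁ ⊓ M₂)
        rw [Nat.card_congr e.toEquiv] at h8'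
        have hdvd : Nat.card (Matrix.ProjectiveSpecialLinearGroup (Fin 2) F) ∣
            Nat.card (Matrix.SpecialLinearGroup (Fin 2) F) := Subgroup.card_quotient_dvd_card _
        have h6 := h8'.trans hdvd
        rw [Classical.card_SL_two, Nat.card_eq_fintype_card, h2] at h6
        norm_num at h6
    obtain ⟨z, a, b, x, x₂, hz, ha, hb, hza, hzb, h3, h1, hxz, hxa, hbx, g3, g1, hgz, hgb⟩ :=
      NoSection.exists_pair hodd e hM e₁ e₂ h8
    -- a central elementary abelian normal subgroup inside the kernel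
    set Z := (Subgroup.center π.ker).map π.ker.subtype with hZ
    haveI : Nontrivial π.ker := (Subgroup.nontrivial_iff_ne_bot _).2 hne
    have hZne : Z ≠ ⊥ := by
      rw [hZ, Ne, Subgroup.map_eq_bot_iff_of_injective _ π.ker.subtype_injective]
      exact (Subgroup.nontrivial_iff_ne_bot _).1 hker.center_nontrivial
    haveI : Z.Normal := ConjAct.normal_of_characteristic_of_normal
    obtain ⟨W, hWZ, hW⟩ := Base.exists_isMinimalNormal_le hZne
    haveI := hW.normal
    have hWk : W ≤ π.ker := hWZ.trans (Subgroup.map_subtype_le _)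
    have hW2 : IsPGroup 2 W := hker.to_le hWk
    haveI : Group.IsNilpotent W := hW2.isNilpotent
    obtain ⟨q, hq, hcomm, hexp, hWq⟩ := hW.exists_prime inferInstance
    haveI := Fact.mk hq
    obtain rfl : q = 2 := by
      obtain ⟨n, hn⟩ := hWq.exists_card_eq
      obtain ⟨n', hn'⟩ := hW2.exists_card_eq
      have hn0 : n ≠ 0 := fun h => hW.ne_bot (W.eq_bot_of_card_eq (by rw [hn, h, pow_zero]))
      exact (Nat.prime_dvd_prime_iff_eq hq Nat.prime_two).1
        (hq.dvd_of_dvd_pow (hn' ▸ hn ▸ dvd_pow_self q hn0))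
    letI : CommGroup W := { (inferInstance : Group W) with
      mul_comm := fun u v => hcomm.is_comm.comm u v }
    haveI : Nontrivial W := (Subgroup.nontrivial_iff_ne_bot _).2 hW.ne_bot
    let f : G →* MulAut W := MulAut.conjNormal
    have hkf : π.ker ≤ f.ker := fun k hk => MulEquiv.ext fun v => Subtype.ext (by
      rw [MulAut.conjNormal_apply]
      obtain ⟨c, hc, hcv⟩ := hWZ v.2
      have := congrArg Subtype.val (Subgroup.mem_center_iff.1 hc ⟨k, hk⟩)
      simp only [Subgroup.coe_mul] at this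
      show k * (v : G) * k⁻¹ = (v : G)
      rw [← hcv]
      exact mul_inv_eq_iff_eq_mul.2 this)
    let ρ : X →* MulAut W := (π.liftOfSurjective hπ ⟨f, hkf⟩).comp X.subtype
    have hρ : ∀ (g : G) (y : X), π g = y → ∀ v : W, ((ρ y v : W) : G) = g * v * g⁻¹ := by
      intro g y hgy v
      show ((π.liftOfSurjective hπ ⟨f, hkf⟩ (y : Y) v : W) : G) = _
      rw [← hgy, MonoidHom.liftOfRightInverse_comp_apply]
      exact MulAut.conjNormal_apply g v
    have hfree : NoSection.FreeThree ρ := by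
      intro y hy3 hy1 v hv
      obtain ⟨c, hc⟩ := hπ (y : Y)
      obtain ⟨j, hj, hj3⟩ := exists_three_lift π hker (c := c)
        (by rw [hc, ← SubmonoidClass.coe_pow, hy3, OneMemClass.coe_one])
      have e := congrArg Subtype.val hv
      rw [hρ _ y (hj.trans hc)] at e
      refine Subtype.ext (hG.eq_one_of_mem (x := c ^ 4 ^ j) ?_ ?_ hW2 v.2
        (mul_inv_eq_iff_eq_mul.1 e))
      · exact (by decide : Odd 3).of_dvd_nat (orderOf_dvd_of_pow_eq_one hj3)
      · intro h
        exact hy1 (Subtype.ext (by rw [← hc, ← hj, h, map_one]; rfl))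
    exact hfree.false_of_pair (fun v => Subtype.ext (by
      have := hexp v v.2; rwa [pow_two] at this)) hz ha hb hza hzb h3 h1 hxz hxa hbx g3 g1 hgz hgb
  · intro hX
    obtain ⟨a, b, ha3, hb3, ha1, hab, hba⟩ := NoSection.exists_two_three hX
    obtain ⟨a₀, ha₀⟩ := hπ (a : Y)
    obtain ⟨j, hj, hj3⟩ := exists_three_lift π hker (c := a₀)
      (by rw [ha₀, ← SubmonoidClass.coe_pow, ha3, OneMemClass.coe_one])
    set a' := a₀ ^ 4 ^ j with ha'
    have hπa : π a' = (a : Y) := hj.trans ha₀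
    obtain ⟨b₀, hb₀⟩ := hπ (b : Y)
    have ha'o : orderOf a' = 3 := orderOf_eq_prime hj3 fun h => ha1 (Subtype.ext (by
      rw [← hπa, h, map_one]; rfl))
    have hAN : Subgroup.zpowers a' ≤ Subgroup.normalizer (π.ker : Set G) := by
      rw [Subgroup.normalizer_eq_top]; exact le_top
    obtain ⟨n, hn⟩ := hker.exists_card_eq
    obtain ⟨c, hcC, hck⟩ := Coprime.exists_centralizing_in_coset (k := b₀) hAN
      (by rw [Nat.card_zpowers, ha'o, hn]; exact Nat.Coprime.pow_right _ (by decide))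
      (Or.inl (Group.isSolvable_of_comm fun u v => Std.Commutative.comm u v))
      (by
        intro g hg
        obtain ⟨k, rfl⟩ := Subgroup.mem_zpowers_iff.1 hg
        rw [MonoidHom.mem_ker]
        simp only [map_mul, map_inv, map_zpow, hπa, hb₀]
        have hc : Commute ((a : Y) ^ k) (b : Y) :=
          Commute.zpow_left (show Commute (a : Y) b from congrArg Subtype.val hab) k
        rw [hc.eq]
        group)
    rw [MonoidHom.mem_ker, map_mul, map_inv, inv_mul_eq_one, hb₀] at hck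
    obtain ⟨i, hi, hi3⟩ := exists_three_lift π hker (c := c)
      (by rw [← hck, ← SubmonoidClass.coe_pow, hb3, OneMemClass.coe_one])
    set b' := c ^ 4 ^ i with hb'
    have hπb : π b' = (b : Y) := hi.trans hck.symm
    have hcomm : Commute a' b' := (Subgroup.mem_centralizer_iff.1 hcC a'
      (Subgroup.mem_zpowers a') : a' * c = c * a') |> fun h => Commute.pow_right h _
    set A := Subgroup.closure ({a', b'} : Set G) with hA
    have hAcomm : IsMulCommutative A := Subgroup.isMulCommutative_closure (by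
      rintro u (rfl | rfl) v (rfl | rfl) <;> first | rfl | exact hcomm | exact hcomm.symm)
    have hA3 : ∀ u ∈ A, u ^ 3 = 1 := by
      intro u hu
      induction hu using Subgroup.closure_induction with
      | mem u hu => rcases hu with rfl | rfl <;> assumption
      | one => exact one_pow 3
      | mul u v hu hv hu' hv' =>
        have h : Commute u v := congrArg Subtype.val (hAcomm.is_comm.comm ⟨u, hu⟩ ⟨v, hv⟩)
        rw [h.mul_pow, hu', hv', one_mul]
      | inv u _ hu' => rw [inv_pow, hu', inv_one]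
    have hfpf : Base.IsFPF A π.ker := by
      refine ⟨fun u _ => by rw [Subgroup.normalizer_eq_top]; trivial, fun u hu hu1 => ?_⟩
      refine (Subgroup.eq_bot_iff_forall _).2 fun v hv => ?_
      exact hG.eq_one_of_commute ((by decide : Odd 3).of_dvd_nat
        (orderOf_dvd_of_pow_eq_one (hA3 u hu))) hu1 (isTwo_of_mem hker hv.1)
        (Subgroup.mem_centralizer_iff.1 hv.2 u rfl)
    obtain ⟨k, hk⟩ := Subgroup.mem_zpowers_iff.1 (Base.IsFPF.mem_zpowers_of_commute hfpf hne
      Nat.prime_three (Subgroup.subset_closure (Set.mem_insert _ _))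
      (Subgroup.subset_closure (Set.mem_insert_of_mem _ rfl)) ha'o hi3 hcomm.eq)
    refine hba (Subgroup.mem_zpowers_iff.2 ⟨k, Subtype.ext ?_⟩)
    rw [SubgroupClass.coe_zpow, ← hπa, ← hπb, ← hk, map_zpow]

end CfsgLib.Recog.CIT
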