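import Cfsg.Agent.Lib.Recog.CIT.PlaneElation
import Cfsg.Agent.Lib.Recog.EPPOTwo.Locals

/-!
A pair of maximal 2-local subgroups of type `2⁴:A₅` in a simple group in which involution
centralisers are 2-groups: the incidence geometry is a projective plane of order four.
-/

set_option autoImplicit false
set_option linter.unusedSectionVars false

namespace CfsgLib.Recog.CIT.PairPlane

open EPPOTwo (O2)

universe u

variable {G : Type u} [Group G] [Finite G]

/-- conjugate subgroup -/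
abbrev cj (g : G) (X : Subgroup G) : Subgroup G := X.map (MulAut.conj g).toMonoidHom

theorem mem_cj {g x : G} {X : Subgroup G} : x ∈ cj g X ↔ g⁻¹ * x * g ∈ X := by
  constructor
  · rintro ⟨a, ha, rfl⟩
    have e : g⁻¹ * (g * a * g⁻¹) * g = a := by group
    simpa [e] using ha
  · intro h
    exact ⟨_, h, by simp [mul_assoc]⟩

theorem conj_mem_cj {g x : G} {X : Subgroup G} (h : x ∈ X) : g * x * g⁻¹ ∈ cj g X := ⟨x, h, rfl⟩

theorem cj_cj (a b : G) (X : Subgroup G) : cj a (cj b X) = cj (a * b) X := by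
  ext x; rw [mem_cj, mem_cj, mem_cj]; simp [mul_assoc]

theorem cj_one (X : Subgroup G) : cj 1 X = X := by
  ext x; rw [mem_cj]; simp

theorem cj_inj {g : G} {X Y : Subgroup G} (h : cj g X = cj g Y) : X = Y := by
  rw [← cj_one X, ← cj_one Y, ← inv_mul_cancel g, ← cj_cj, h, cj_cj]

theorem card_cj (g : G) (X : Subgroup G) : Nat.card ↥(cj g X) = Nat.card ↥X :=
  Subgroup.card_map_of_injective (MulAut.conj g).injective

theorem cj_eq_of_mem {g : G} {X : Subgroup G} (h : ∀ x ∈ X, g * x * g⁻¹ ∈ X) : cj g X = X :=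
  Subgroup.eq_of_le_of_card_ge (by rintro _ ⟨x, hx, rfl⟩; exact h x hx) (card_cj g X).ge

theorem cj_eq_iff_mem_normalizer {g : G} {X : Subgroup G} :
    cj g X = X ↔ g ∈ Subgroup.normalizer (X : Set G) := by
  refine ⟨fun h => Subgroup.mem_normalizer_iff.2 fun x => ?_, fun h => ?_⟩
  · conv_rhs => rw [← h, mem_cj]
    rw [show g⁻¹ * (g * x * g⁻¹) * g = x by group]
  · exact cj_eq_of_mem fun x hx => (Subgroup.mem_normalizer_iff.1 h x).1 hx

theorem mul_comm_of_sq {X : Subgroup G} (h : ∀ x ∈ X, x * x = 1) {a b : G} (ha : a ∈ X)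
    (hb : b ∈ X) : a * b = b * a := by
  have hab := h (a * b) (mul_mem ha hb)
  calc a * b = (a * b)⁻¹ := (inv_eq_of_mul_eq_one_left hab).symm
    _ = b⁻¹ * a⁻¹ := mul_inv_rev a b
    _ = b * a := by rw [inv_eq_of_mul_eq_one_left (h a ha), inv_eq_of_mul_eq_one_left (h b hb)]

/-- conjugates of `Q` -/
def IsPt (Q X : Subgroup G) : Prop := ∃ g : G, X = cj g Q

/-- nontrivial intersection -/
def Inc (X Y : Subgroup G) : Prop := ∃ t : G, t ≠ 1 ∧ t ∈ X ∧ t ∈ Y

theorem IsPt.cj {Q X : Subgroup G} (h : IsPt Q X) (a : G) : IsPt Q (PairPlane.cj a X) := by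
  obtain ⟨g, rfl⟩ := h
  exact ⟨a * g, cj_cj a g Q⟩

theorem Inc.cj {X Y : Subgroup G} (h : Inc X Y) (a : G) : Inc (PairPlane.cj a X) (PairPlane.cj a Y) := by
  obtain ⟨t, ht1, hX, hY⟩ := h
  exact ⟨a * t * a⁻¹, fun e => ht1 (conj_eq_one_iff.1 e), conj_mem_cj hX, conj_mem_cj hY⟩

variable {M N Q A T : Subgroup G}

theorem Q_le (P : Pair M N Q A T) : Q ≤ T := P.eqT ▸ le_sup_left

theorem A_le (P : Pair M N Q A T) : A ≤ T := P.eqT ▸ le_sup_right

theorem swap (P : Pair M N Q A T) : Pair N M A Q T where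
  locM := P.locN
  locN := P.locM
  eqQ := P.eqA
  eqA := P.eqQ
  elemQ := P.elemA
  elemA := P.elemQ
  cardQ := P.cardA
  cardA := P.cardQ
  card_inf := by rw [inf_comm]; exact P.card_inf
  eqT := by rw [sup_comm]; exact P.eqT
  leM := P.leN
  leN := P.leM
  cardT := P.cardT
  maxT := P.maxT
  invol := fun t ht h => (P.invol t ht h).symm
  topM := P.topN
  topN := P.topM
  transQ := P.transA
  transA := P.transQ
  not_conj := fun g e => P.not_conj g⁻¹ (by
    show cj g⁻¹ Q = A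
    rw [← show cj g A = Q from e, cj_cj, inv_mul_cancel, cj_one])

theorem M_le_normalizer (P : Pair M N Q A T) : M ≤ Subgroup.normalizer (Q : Set G) := by
  intro m hm
  refine cj_eq_iff_mem_normalizer.1 (cj_eq_of_mem fun x hx => ?_)
  rw [P.eqQ] at hx ⊢
  exact EPPOTwo.conj_mem_O2 hm hx

theorem normalizer_eq (P : Pair M N Q A T) : Subgroup.normalizer (Q : Set G) = M := by
  refine P.locM.max _ (M_le_normalizer P) ?_
  intro h
  have hp : IsPGroup 2 ↥Q := IsPGroup.of_card (n := 4) (by rw [P.cardQ]; norm_num)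
  have hle : Q ≤ O2 (Subgroup.normalizer (Q : Set G)) :=
    Base.le_map_pCore Subgroup.le_normalizer le_rfl hp
  rw [h] at hle
  have := Subgroup.card_le_of_le hle
  rw [P.cardQ, Subgroup.card_bot] at this
  omega

theorem card_M (P : Pair M N Q A T) : Nat.card ↥M = 960 := by
  obtain ⟨π, hs, hk⟩ := P.topM
  have h := π.ker.card_mul_index
  rw [Subgroup.index_ker, MonoidHom.range_eq_top.2 hs, Subgroup.card_top, hk,
    Nat.card_congr (Subgroup.subgroupOfEquivOfLe ((Q_le P).trans P.leM)).toEquiv, P.cardQ,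
    nat_card_alternatingGroup, Nat.card_eq_fintype_card, Fintype.card_fin] at h
  rw [← h]
  rfl

theorem exists_z (P : Pair M N Q A T) : ∃ z : G, z ≠ 1 ∧ z ∈ Q ∧ z ∈ A := by
  rcases (Q ⊓ A).bot_or_exists_ne_one with h | ⟨z, hz, hz1⟩
  · have := P.card_inf
    rw [h, Subgroup.card_bot] at this
    omega
  · exact ⟨z, hz1, hz.1, hz.2⟩

theorem orderOf_invol {t : G} (ht : t * t = 1) (ht1 : t ≠ 1) : orderOf t = 2 :=
  orderOf_eq_prime (by rw [pow_two, ht]) ht1

theorem cent_base (P : Pair M N Q A T) (hC : CIT G) {z : G} (hz1 : z ≠ 1) (hzQ : z ∈ Q)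
    (hzA : z ∈ A) : Subgroup.centralizer ({z} : Set G) = T := by
  refine P.maxT _ (hC z (orderOf_invol (P.elemQ z hzQ) hz1)) ?_
  rw [P.eqT]
  exact sup_le (fun x hx => Subgroup.mem_centralizer_singleton_iff.2 (mul_comm_of_sq P.elemQ hx hzQ))
    (fun x hx => Subgroup.mem_centralizer_singleton_iff.2 (mul_comm_of_sq P.elemA hx hzA))

theorem centralizer_conj (g t : G) : Subgroup.centralizer ({g * t * g⁻¹} : Set G) =
    cj g (Subgroup.centralizer ({t} : Set G)) := by
  ext x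
  rw [mem_cj, Subgroup.mem_centralizer_singleton_iff, Subgroup.mem_centralizer_singleton_iff]
  constructor
  · intro h
    calc g⁻¹ * x * g * t = g⁻¹ * (x * (g * t * g⁻¹)) * g := by group
      _ = _ := by rw [h]; group
  · intro h
    calc x * (g * t * g⁻¹) = g * (g⁻¹ * x * g * t) * g⁻¹ := by group
      _ = _ := by rw [h]; group

theorem cent_flag (P : Pair M N Q A T) (hC : CIT G) {g t : G} (ht1 : t ≠ 1) (hQ : t ∈ cj g Q)
    (hA : t ∈ cj g A) : Subgroup.centralizer ({t} : Set G) = cj g T := by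
  rw [show t = g * (g⁻¹ * t * g) * g⁻¹ by group, centralizer_conj,
    cent_base P hC ?_ (mem_cj.1 hQ) (mem_cj.1 hA)]
  intro e
  exact ht1 (by rw [show t = g * (g⁻¹ * t * g) * g⁻¹ by group, e]; group)

theorem mem_or_of_flag (P : Pair M N Q A T) {g s : G} (hs : s ∈ cj g T) (hs2 : s * s = 1) :
    s ∈ cj g Q ∨ s ∈ cj g A := by
  have h2 : g⁻¹ * s * g * (g⁻¹ * s * g) = 1 := by
    rw [show g⁻¹ * s * g * (g⁻¹ * s * g) = g⁻¹ * (s * s) * g by group, hs2]; group
  rcases P.invol _ (mem_cj.1 hs) h2 with h | h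
  · exact Or.inl (mem_cj.2 h)
  · exact Or.inr (mem_cj.2 h)

theorem exists_flag (P : Pair M N Q A T) {t : G} (ht : t * t = 1) (ht1 : t ≠ 1) :
    ∃ g : G, t ∈ cj g Q ∧ t ∈ cj g A := by
  haveI : Fact (Nat.Prime 2) := ⟨Nat.prime_two⟩
  obtain ⟨z, hz1, hzQ, hzA⟩ := exists_z P
  have hTp : IsPGroup 2 ↥T := IsPGroup.of_card (n := 6) (by rw [P.cardT]; norm_num)
  obtain ⟨S0, hS0⟩ := hTp.exists_le_sylow
  have hS0T : (S0 : Subgroup G) = T := P.maxT _ S0.2 hS0
  have htp : IsPGroup 2 ↥(Subgroup.zpowers t) :=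
    IsPGroup.of_card (n := 1) (by rw [Nat.card_zpowers, orderOf_invol ht ht1, pow_one])
  obtain ⟨S, hS⟩ := htp.exists_le_sylow
  obtain ⟨h, hh⟩ := MulAction.exists_smul_eq G S0 S
  have htS : t ∈ cj h T := by
    rw [← hS0T]
    have : t ∈ (h • S0 : Sylow 2 G) := hh ▸ hS (Subgroup.mem_zpowers t)
    exact this
  set u := h⁻¹ * t * h with hu
  have hu2 : u * u = 1 := by
    rw [hu, show h⁻¹ * t * h * (h⁻¹ * t * h) = h⁻¹ * (t * t) * h by group, ht]; group
  have hu1 : u ≠ 1 := fun e => ht1 (by rw [show t = h * u * h⁻¹ by rw [hu]; group, e]; group)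
  obtain ⟨m, hm⟩ : ∃ m : G, m * z * m⁻¹ = u := by
    rcases P.invol u (mem_cj.1 htS) hu2 with hq | ha
    · obtain ⟨m, -, hm⟩ := P.transQ z hzQ u hq hz1 hu1; exact ⟨m, hm⟩
    · obtain ⟨m, -, hm⟩ := P.transA z hzA u ha hz1 hu1; exact ⟨m, hm⟩
  have he : (h * m)⁻¹ * t * (h * m) = z := by
    rw [show (h * m)⁻¹ * t * (h * m) = m⁻¹ * u * m by rw [hu]; group, ← hm]; group
  exact ⟨h * m, mem_cj.2 (he.symm ▸ hzQ), mem_cj.2 (he.symm ▸ hzA)⟩

theorem sq_of_pt (P : Pair M N Q A T) {X : Subgroup G} (hX : IsPt Q X) {x : G} (hx : x ∈ X) :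
    x * x = 1 := by
  obtain ⟨g, rfl⟩ := hX
  obtain ⟨a, ha, rfl⟩ := hx
  rw [← map_mul, P.elemQ a ha, map_one]

theorem card_pt' (P : Pair M N Q A T) {X : Subgroup G} (hX : IsPt Q X) : Nat.card ↥X = 16 := by
  obtain ⟨g, rfl⟩ := hX
  rw [card_cj, P.cardQ]

/-- a point containing an involution is the point of its flag -/
theorem pt_eq (P : Pair M N Q A T) (hC : CIT G) {g t : G} (ht1 : t ≠ 1) (hQ : t ∈ cj g Q)
    (hA : t ∈ cj g A) {X : Subgroup G} (hX : IsPt Q X) (htX : t ∈ X) : X = cj g Q := by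
  have hle : X ≤ cj g T := by
    rw [← cent_flag P hC ht1 hQ hA]
    exact fun x hx => Subgroup.mem_centralizer_singleton_iff.2
      (mul_comm_of_sq (fun y hy => sq_of_pt P hX hy) hx htX)
  have hor : X ≤ cj g Q ∨ X ≤ cj g A := by
    by_contra hh
    push Not at hh
    obtain ⟨a, ha, ha'⟩ := SetLike.not_le_iff_exists.1 hh.1
    obtain ⟨b, hb, hb'⟩ := SetLike.not_le_iff_exists.1 hh.2
    have haA := (mem_or_of_flag P (hle ha) (sq_of_pt P hX ha)).resolve_left ha'
    have hbQ := (mem_or_of_flag P (hle hb) (sq_of_pt P hX hb)).resolve_right hb'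
    rcases mem_or_of_flag P (hle (mul_mem ha hb)) (sq_of_pt P hX (mul_mem ha hb)) with h | h
    · exact ha' ((Subgroup.mul_mem_cancel_right _ hbQ).1 h)
    · exact hb' ((Subgroup.mul_mem_cancel_left _ haA).1 h)
  rcases hor with h | h
  · exact Subgroup.eq_of_le_of_card_ge h (by rw [card_pt' P hX, card_cj, P.cardQ])
  · exfalso
    have e : X = cj g A := Subgroup.eq_of_le_of_card_ge h (by rw [card_pt' P hX, card_cj, P.cardA])
    obtain ⟨a, rfl⟩ := hX
    exact P.not_conj (g⁻¹ * a) (by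
      show cj (g⁻¹ * a) Q = A
      rw [← cj_cj, e, cj_cj, inv_mul_cancel, cj_one])

/-- two points meet trivially -/
theorem ti (P : Pair M N Q A T) (hC : CIT G) {X X' : Subgroup G} (hX : IsPt Q X) (hX' : IsPt Q X')
    {t : G} (ht1 : t ≠ 1) (ht : t ∈ X) (ht' : t ∈ X') : X = X' := by
  obtain ⟨g, hQ, hA⟩ := exists_flag P (sq_of_pt P hX ht) ht1
  rw [pt_eq P hC ht1 hQ hA hX ht, pt_eq P hC ht1 hQ hA hX' ht']

/-- incident point and line form a flag -/
theorem inc_flag (P : Pair M N Q A T) (hC : CIT G) {X Y : Subgroup G} (hX : IsPt Q X)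
    (hY : IsPt A Y) (h : Inc X Y) : ∃ g : G, X = cj g Q ∧ Y = cj g A := by
  obtain ⟨t, ht1, htX, htY⟩ := h
  obtain ⟨g, hQ, hA⟩ := exists_flag P (sq_of_pt P hX htX) ht1
  exact ⟨g, pt_eq P hC ht1 hQ hA hX htX, pt_eq (swap P) hC ht1 hA hQ hY htY⟩

/-- an involution fixes exactly the points on its line -/
theorem fix_iff (P : Pair M N Q A T) (hC : CIT G) {t : G} (ht : t * t = 1) (ht1 : t ≠ 1)
    {X Y : Subgroup G} (hX : IsPt Q X) (hY : IsPt A Y) (htY : t ∈ Y) :
    cj t X = X ↔ Inc X Y := by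
  haveI : Fact (Nat.Prime 2) := ⟨Nat.prime_two⟩
  constructor
  · intro hfix
    obtain ⟨a, rfl⟩ := hX
    set u := a⁻¹ * t * a with hu
    have hu2 : u * u = 1 := by
      rw [hu, show a⁻¹ * t * a * (a⁻¹ * t * a) = a⁻¹ * (t * t) * a by group, ht]; group
    have hu1 : u ≠ 1 := fun e => ht1 (by rw [show t = a * u * a⁻¹ by rw [hu]; group, e]; group)
    have huM : u ∈ M := by
      rw [← normalizer_eq P, ← cj_eq_iff_mem_normalizer, hu]
      rw [mul_assoc, ← cj_cj, ← cj_cj, hfix, cj_cj, inv_mul_cancel, cj_one]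
    have hTc : Nat.card ↥(T.subgroupOf M) = 64 := by
      rw [Nat.card_congr (Subgroup.subgroupOfEquivOfLe P.leM).toEquiv, P.cardT]
    let ST : Sylow 2 ↥M := (IsPGroup.of_card (n := 6) (by rw [hTc]; norm_num)).toSylow (by
      have h1 := (T.subgroupOf M).card_mul_index
      rw [hTc, card_M P] at h1
      omega)
    have hup : IsPGroup 2 ↥(Subgroup.zpowers (⟨u, huM⟩ : ↥M)) :=
      IsPGroup.of_card (n := 1) (by
        rw [Nat.card_zpowers, Subgroup.orderOf_mk, orderOf_invol hu2 hu1, pow_one])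
    obtain ⟨S, hS⟩ := hup.exists_le_sylow
    obtain ⟨m, hm⟩ := MulAction.exists_smul_eq ↥M ST S
    have huT : u ∈ cj (m : G) T := by
      have : (⟨u, huM⟩ : ↥M) ∈ (m • ST : Sylow 2 ↥M) := hm ▸ hS (Subgroup.mem_zpowers _)
      obtain ⟨w, hw, hwe⟩ := this
      exact ⟨w, hw, congrArg Subtype.val hwe⟩
    have hQm : cj (m : G) Q = Q := cj_eq_iff_mem_normalizer.2 (M_le_normalizer P m.2)
    rcases mem_or_of_flag P huT hu2 with h | h
    · rw [hQm] at h
      exact ⟨t, ht1, mem_cj.2 h, htY⟩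
    · have htA : t ∈ cj (a * (m : G)) A := by
        rw [← cj_cj, mem_cj]; exact h
      have hYeq : Y = cj (a * (m : G)) A := ti (swap P) hC hY ⟨_, rfl⟩ ht1 htY htA
      obtain ⟨z, hz1, hzQ, hzA⟩ := exists_z P
      refine ⟨(a * (m : G)) * z * (a * (m : G))⁻¹, fun e => hz1 (conj_eq_one_iff.1 e), ?_, ?_⟩
      · have := conj_mem_cj (g := a * (m : G)) hzQ
        rwa [← cj_cj, hQm] at this
      · rw [hYeq]; exact conj_mem_cj hzA
  · intro hinc
    obtain ⟨g, rfl, rfl⟩ := inc_flag P hC hX hY hinc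
    have htM : g⁻¹ * t * g ∈ M := P.leM (A_le P (mem_cj.1 htY))
    have h1 := cj_eq_iff_mem_normalizer.2 (M_le_normalizer P htM)
    rw [show t = g * (g⁻¹ * t * g) * g⁻¹ by group, cj_cj, inv_mul_cancel_right, ← cj_cj, h1]

/-- two points lie on at most one line -/
theorem unique_line (P : Pair M N Q A T) (hC : CIT G) {X₁ X₂ Y₁ Y₂ : Subgroup G}
    (hX₁ : IsPt Q X₁) (hX₂ : IsPt Q X₂) (hY₁ : IsPt A Y₁) (hY₂ : IsPt A Y₂) (hne : X₁ ≠ X₂)
    (h11 : Inc X₁ Y₁) (h21 : Inc X₂ Y₁) (h22 : Inc X₂ Y₂) (h12 : Inc X₁ Y₂) : Y₁ = Y₂ := by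
  by_contra hY
  obtain ⟨g, rfl, rfl⟩ := inc_flag P hC hX₁ hY₁ h11
  obtain ⟨z1, z1ne, z1X, z1Y⟩ := h11
  obtain ⟨z2, z2ne, z2X, z2Y⟩ := h21
  obtain ⟨z3, z3ne, z3X, z3Y⟩ := h22
  obtain ⟨z4, z4ne, z4X, z4Y⟩ := h12
  have hsq : ∀ {x : G} {X : Subgroup G}, IsPt Q X → x ∈ X → x * x = 1 := fun hX hx => sq_of_pt P hX hx
  have c23 : Commute z2 z3 := mul_comm_of_sq (fun y hy => hsq hX₂ hy) z2X z3X
  have c43 : Commute z4 z3 := mul_comm_of_sq (fun y hy => sq_of_pt (swap P) hY₂ hy) z4Y z3Y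
  have c24 : z2 * z4 * z2⁻¹ * z4⁻¹ ≠ 1 := by
    intro e
    rw [mul_inv_eq_one, mul_inv_eq_iff_eq_mul] at e
    obtain ⟨g', rfl, hg'⟩ := inc_flag P hC hX₂ hY₁ ⟨z2, z2ne, z2X, z2Y⟩
    have h4 : z4 ∈ cj g' T := by
      rw [← cent_flag P hC z2ne z2X (hg' ▸ z2Y)]
      exact Subgroup.mem_centralizer_singleton_iff.2 e.symm
    rcases mem_or_of_flag P h4 (hsq hX₁ z4X) with h | h
    · exact hne (ti P hC hX₁ hX₂ z4ne z4X h)
    · exact hY (ti (swap P) hC hY₁ hY₂ z4ne (hg' ▸ h) z4Y)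
  have hT1 : ∀ x ∈ cj g T, cj x (cj g Q) = cj g Q ∧ cj x (cj g A) = cj g A := by
    intro x hx
    constructor
    · have h1 := cj_eq_iff_mem_normalizer.2 (M_le_normalizer P (P.leM (mem_cj.1 hx)))
      rw [cj_cj, show x * g = g * (g⁻¹ * x * g) by group, ← cj_cj, h1]
    · have h1 := cj_eq_iff_mem_normalizer.2 (M_le_normalizer (swap P) (P.leN (mem_cj.1 hx)))
      rw [cj_cj, show x * g = g * (g⁻¹ * x * g) by group, ← cj_cj, h1]
  have hz2T : z2 ∈ cj g T := Subgroup.map_mono (A_le P) z2Y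
  have hz4T : z4 ∈ cj g T := Subgroup.map_mono (Q_le P) z4X
  set ζ := z2 * z4 * z2⁻¹ * z4⁻¹ with hζ
  have hζQ : ζ ∈ cj g Q := mul_mem ((hT1 z2 hz2T).1 ▸ conj_mem_cj z4X) (inv_mem z4X)
  have hζA : ζ ∈ cj g A := by
    rw [hζ, show z2 * z4 * z2⁻¹ * z4⁻¹ = z2 * (z4 * z2⁻¹ * z4⁻¹) by group]
    exact mul_mem z2Y ((hT1 z4 hz4T).2 ▸ conj_mem_cj (inv_mem z2Y))
  have hz3T : z3 ∈ cj g T := by
    rw [← cent_flag P hC c24 hζQ hζA]
    refine Subgroup.mem_centralizer_singleton_iff.2 ?_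
    exact ((((c23.mul_left c43).mul_left c23.inv_left).mul_left c43.inv_left)).eq.symm
  rcases mem_or_of_flag P hz3T (hsq hX₂ z3X) with h | h
  · exact hne (ti P hC hX₁ hX₂ z3ne h z3X)
  · exact hY (ti (swap P) hC hY₁ hY₂ z3ne h z3Y)

section Count

attribute [local instance] Classical.propDecidable

variable [Fintype G]

/-- the conjugates of `Q` -/
noncomputable def pts (Q : Subgroup G) : Finset (Subgroup G) := Finset.univ.image fun g => cj g Q

theorem mem_pts {Q X : Subgroup G} : X ∈ pts Q ↔ IsPt Q X := by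
  simp [pts, IsPt, eq_comm]

/-- the non-identity elements -/
noncomputable def nonId (X : Subgroup G) : Finset G := Finset.univ.filter fun t => t ∈ X ∧ t ≠ 1

theorem card_nonId (X : Subgroup G) : (nonId X).card + 1 = Nat.card ↥X := by
  have h : nonId X = ((Finset.univ.filter fun t => t ∈ X).erase 1) := by
    ext t; simp [nonId, and_comm]
  rw [h, Finset.card_erase_add_one (by simp), Nat.card_eq_fintype_card, Fintype.card_subtype]

/-- the lines through a point -/
noncomputable def through (A : Subgroup G) (X : Subgroup G) : Finset (Subgroup G) :=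
  (pts A).filter fun Y => Inc X Y

theorem mem_through {A X Y : Subgroup G} : Y ∈ through A X ↔ IsPt A Y ∧ Inc X Y := by
  simp [through, mem_pts]

/-- the points on a line -/
noncomputable def onLine (Q : Subgroup G) (Y : Subgroup G) : Finset (Subgroup G) :=
  (pts Q).filter fun X => Inc X Y

theorem mem_onLine {Q X Y : Subgroup G} : X ∈ onLine Q Y ↔ IsPt Q X ∧ Inc X Y := by
  simp [onLine, mem_pts]

theorem Inc.symm {X Y : Subgroup G} (h : Inc X Y) : Inc Y X :=
  let ⟨t, h1, h2, h3⟩ := h; ⟨t, h1, h3, h2⟩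

theorem card_pts (P : Pair M N Q A T) : (pts Q).card * 960 = Nat.card G := by
  rw [Nat.card_eq_fintype_card, ← Finset.card_univ,
    Finset.card_eq_sum_card_fiberwise (f := fun g => cj g Q) (s := Finset.univ) (t := pts Q)
      (fun g _ => Finset.mem_image_of_mem _ (Finset.mem_univ g)),
    Finset.sum_const_nat fun X hX => ?_]
  obtain ⟨a, rfl⟩ := mem_pts.1 hX
  rw [← card_M P, Nat.card_eq_fintype_card, ← Fintype.card_subtype]
  refine Eq.symm (Fintype.card_congr ⟨fun m => ⟨a * m, ?_⟩, fun g => ⟨a⁻¹ * g, ?_⟩,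
    fun m => Subtype.ext (inv_mul_cancel_left a _), fun g => Subtype.ext (mul_inv_cancel_left a _)⟩)
  · rw [← cj_cj, cj_eq_iff_mem_normalizer.2 (M_le_normalizer P m.2)]
  · rw [← normalizer_eq P, ← cj_eq_iff_mem_normalizer, ← cj_cj, g.2, cj_cj, inv_mul_cancel, cj_one]

theorem card_nonId_pt (P : Pair M N Q A T) {X : Subgroup G} (hX : IsPt Q X) : (nonId X).card = 15 := by
  have := card_nonId X
  rw [card_pt' P hX] at this
  omega

theorem card_inter (P : Pair M N Q A T) (hC : CIT G) {X Y : Subgroup G} (hX : IsPt Q X)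
    (hY : IsPt A Y) (h : Inc X Y) : (nonId (X ⊓ Y)).card = 3 := by
  obtain ⟨g, rfl, rfl⟩ := inc_flag P hC hX hY h
  have h4 := card_nonId (cj g Q ⊓ cj g A)
  rw [← Subgroup.map_inf _ _ _ (MulAut.conj g).injective, Subgroup.card_map_of_injective (MulAut.conj g).injective,
    P.card_inf] at h4
  rw [← Subgroup.map_inf _ _ _ (MulAut.conj g).injective]
  omega

theorem card_through (P : Pair M N Q A T) (hC : CIT G) {X : Subgroup G} (hX : IsPt Q X) :
    (through A X).card = 5 := by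
  have h1 : nonId X = (through A X).biUnion fun Y => nonId (X ⊓ Y) := by
    ext t
    simp only [nonId, Finset.mem_biUnion, Finset.mem_filter, Finset.mem_univ, true_and,
      mem_through, Subgroup.mem_inf]
    constructor
    · rintro ⟨htX, ht1⟩
      obtain ⟨g, hQ, hA⟩ := exists_flag P (sq_of_pt P hX htX) ht1
      exact ⟨cj g A, ⟨⟨g, rfl⟩, t, ht1, htX, hA⟩, ⟨htX, hA⟩, ht1⟩
    · rintro ⟨Y, -, ⟨htX, -⟩, ht1⟩
      exact ⟨htX, ht1⟩
  have h2 : ((through A X : Finset _) : Set (Subgroup G)).PairwiseDisjoint fun Y => nonId (X ⊓ Y) := by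
    intro Y hY Y' hY' hne
    refine Finset.disjoint_left.2 fun t ht ht' => hne ?_
    simp only [nonId, Finset.mem_filter, Subgroup.mem_inf] at ht ht'
    exact ti (swap P) hC (mem_through.1 hY).1 (mem_through.1 hY').1 ht.2.2 ht.2.1.2 ht'.2.1.2
  have h3 := card_nonId_pt P hX
  rw [h1, Finset.card_biUnion h2, Finset.sum_const_nat fun Y hY =>
    card_inter P hC hX (mem_through.1 hY).1 (mem_through.1 hY).2] at h3
  omega

theorem card_onLine (P : Pair M N Q A T) (hC : CIT G) {Y : Subgroup G} (hY : IsPt A Y) :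
    (onLine Q Y).card = 5 := by
  rw [← card_through (swap P) hC hY]
  congr 1
  ext X
  simp only [mem_onLine, mem_through]
  exact and_congr_right fun _ => ⟨Inc.symm, Inc.symm⟩

/-- the points collinear with a point, itself included -/
noncomputable def coll (Q A : Subgroup G) (X : Subgroup G) : Finset (Subgroup G) :=
  insert X ((through A X).biUnion fun Y => (onLine Q Y).erase X)

theorem card_coll (P : Pair M N Q A T) (hC : CIT G) {X : Subgroup G} (hX : IsPt Q X) :
    (coll Q A X).card = 21 := by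
  rw [coll, Finset.card_insert_of_notMem (by simp)]
  rw [Finset.card_biUnion]
  · rw [Finset.sum_const_nat (m := 4) (fun Y hY => by
      rw [Finset.card_erase_of_mem (mem_onLine.2 ⟨hX, (mem_through.1 hY).2⟩),
        card_onLine P hC (mem_through.1 hY).1]), card_through P hC hX]
  · intro Y hY Y' hY' hne
    refine Finset.disjoint_left.2 fun X' h h' => hne ?_
    rw [Finset.mem_erase] at h h'
    exact unique_line P hC hX (mem_onLine.1 h.2).1 (mem_through.1 hY).1 (mem_through.1 hY').1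
      h.1.symm (mem_through.1 hY).2 (mem_onLine.1 h.2).2 (mem_onLine.1 h'.2).2 (mem_through.1 hY').2

theorem coll_subset (P : Pair M N Q A T) {X : Subgroup G} (hX : IsPt Q X) : coll Q A X ⊆ pts Q := by
  intro X' h
  simp only [coll, Finset.mem_insert, Finset.mem_biUnion, Finset.mem_erase] at h
  rcases h with rfl | ⟨Y, -, -, h⟩
  · exact mem_pts.2 hX
  · exact mem_pts.2 (mem_onLine.1 h).1

/-- the involutions moving a pair of non-collinear points onto each other -/
theorem card_swappers_le (P : Pair M N Q A T) (hC : CIT G) {X X' : Subgroup G} (hX : IsPt Q X)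
    (hX' : IsPt Q X') (hnc : X' ∉ coll Q A X) :
    (Finset.univ.filter fun t => t * t = 1 ∧ t ≠ 1 ∧ cj t X = X').card ≤ 5 := by
  set K : Subgroup G := Subgroup.normalizer (X : Set G) ⊓ Subgroup.normalizer (X' : Set G) with hK
  have hswap : ∀ t : G, t * t = 1 → cj t X = X' → cj t X' = X := fun t h e => by
    rw [← e, cj_cj, h, cj_one]
  rcases (Finset.univ.filter fun t => t * t = 1 ∧ t ≠ 1 ∧ cj t X = X').eq_empty_or_nonempty with h | ⟨t0, ht0⟩
  · rw [h]; simp
  obtain ⟨t02, -, t0e⟩ := (Finset.mem_filter.1 ht0).2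
  have hle : (Finset.univ.filter fun t => t * t = 1 ∧ t ≠ 1 ∧ cj t X = X').card ≤ Nat.card ↥K := by
    rw [Nat.card_eq_fintype_card, Fintype.card_subtype]
    refine Finset.card_le_card_of_injOn (fun t => t0 * t) (fun t ht => ?_) (mul_right_injective t0).injOn
    obtain ⟨t2, -, te⟩ := (Finset.mem_filter.1 ht).2
    refine Finset.mem_filter.2 ⟨Finset.mem_univ _, cj_eq_iff_mem_normalizer.1 ?_, cj_eq_iff_mem_normalizer.1 ?_⟩
    · rw [← cj_cj, te, hswap t0 t02 t0e]
    · rw [← cj_cj, hswap t t2 te, t0e]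
  refine hle.trans ?_
  have hinv : ∀ k ∈ K, k * k = 1 → k = 1 := by
    intro k hk h2
    by_contra h1
    obtain ⟨g, hQ, hA⟩ := exists_flag P h2 h1
    have hY : IsPt A (cj g A) := ⟨g, rfl⟩
    have e1 := (fix_iff P hC h2 h1 hX hY hA).1 (cj_eq_iff_mem_normalizer.2 hk.1)
    have e2 := (fix_iff P hC h2 h1 hX' hY hA).1 (cj_eq_iff_mem_normalizer.2 hk.2)
    refine hnc ?_
    simp only [coll, Finset.mem_insert, Finset.mem_biUnion, Finset.mem_erase]
    by_cases he : X' = X
    · exact Or.inl he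
    · exact Or.inr ⟨_, mem_through.2 ⟨hY, e1⟩, he, mem_onLine.2 ⟨hX', e2⟩⟩
  obtain ⟨a, rfl⟩ := hX
  obtain ⟨π, hs, hk⟩ := P.topM
  have hKM : ∀ k ∈ K, a⁻¹ * k * a ∈ M := by
    intro k hk
    rw [← normalizer_eq P, ← cj_eq_iff_mem_normalizer, mul_assoc, ← cj_cj, ← cj_cj,
      cj_eq_iff_mem_normalizer.2 hk.1, cj_cj, inv_mul_cancel, cj_one]
  let ι : ↥K →* ↥M :=
    { toFun := fun k => ⟨a⁻¹ * k * a, hKM k k.2⟩
      map_one' := Subtype.ext (by simp)
      map_mul' := fun x y => Subtype.ext (by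
        show a⁻¹ * (↑x * ↑y) * a = a⁻¹ * ↑x * a * (a⁻¹ * ↑y * a)
        group) }
  have hinj : Function.Injective (π.comp ι) := by
    rw [injective_iff_map_eq_one]
    intro k hk1
    have h1 : (ι k : G) ∈ Q := by
      have : ι k ∈ π.ker := hk1
      rw [hk] at this
      exact this
    refine Subtype.ext (hinv k k.2 ?_)
    have h2 := P.elemQ _ h1
    calc (k : G) * k = a * ((ι k : G) * (ι k : G)) * a⁻¹ := by
          show _ = a * (a⁻¹ * ↑k * a * (a⁻¹ * ↑k * a)) * a⁻¹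
          group
      _ = 1 := by rw [h2]; group
  have hdvd : Nat.card ↥K ∣ 60 := by
    have h := Subgroup.card_dvd_of_injective (π.comp ι) hinj
    rwa [nat_card_alternatingGroup, Nat.card_fin] at h
  have hodd : ¬ 2 ∣ Nat.card ↥K := by
    intro h
    haveI : Fact (Nat.Prime 2) := ⟨Nat.prime_two⟩
    obtain ⟨k, hk⟩ := exists_prime_orderOf_dvd_card' 2 h
    have h2 : (k : G) * k = 1 := by
      rw [← pow_two, ← hk, ← Subgroup.orderOf_coe, pow_orderOf_eq_one]
    have : k = 1 := Subtype.ext (hinv k k.2 h2)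
    rw [this, orderOf_one] at hk
    omega
  by_contra h5
  have h15 : Nat.card ↥K = 15 := by
    obtain ⟨d, hd⟩ := hdvd
    have hpos : 0 < Nat.card ↥K := Nat.card_pos
    generalize Nat.card ↥K = n at hd hodd h5 hpos
    have : n ≤ 60 := Nat.le_of_dvd (by norm_num) ⟨d, hd⟩
    have hdvd' : n ∣ 60 := ⟨d, hd⟩
    interval_cases n <;> first | rfl | omega | (exfalso; revert hdvd'; decide)
  set L := (π.comp ι).range with hL
  have hLc : Nat.card ↥L = 15 := by
    rw [hL, ← Nat.card_congr (MonoidHom.ofInjective hinj).toEquiv, h15]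
  have hLi : L.index = 4 := by
    have := L.card_mul_index
    rw [hLc, nat_card_alternatingGroup, Nat.card_eq_fintype_card, Fintype.card_fin] at this
    have : 15 * L.index = 60 := this
    omega
  rcases (Subgroup.normalCore_normal L).eq_bot_or_eq_top with h | h
  · have h1 : L.normalCore.index ∣ Nat.factorial L.index := by
      rw [Subgroup.normalCore_eq_ker, Subgroup.index_ker, Subgroup.index_eq_card]
      refine (Subgroup.card_subgroup_dvd_card _).trans ?_
      rw [Nat.card_perm]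
    rw [h, Subgroup.index_bot, hLi, nat_card_alternatingGroup, Nat.card_eq_fintype_card,
      Fintype.card_fin] at h1
    exact absurd (show 60 ∣ 24 from h1) (by norm_num)
  · have := Subgroup.normalCore_le L
    rw [h, top_le_iff] at this
    rw [this, Subgroup.index_top] at hLi
    omega

/-- the involutions moving points of a line -/
theorem line_movers_le (P : Pair M N Q A T) (hC : CIT G) {Y : Subgroup G} (hY : IsPt A Y) :
    (((Finset.univ.filter fun t => t * t = 1 ∧ t ≠ 1 ∧ cj t Y = Y) ×ˢ onLine Q Y).filter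
      fun q => cj q.1 q.2 ≠ q.2).card ≤ 240 := by
  have hsub : ((Finset.univ.filter fun t => t * t = 1 ∧ t ≠ 1 ∧ cj t Y = Y) ×ˢ onLine Q Y).filter
      (fun q => cj q.1 q.2 ≠ q.2) ⊆
      (onLine Q Y).biUnion fun X => (nonId X \ nonId (X ⊓ Y)) ×ˢ (onLine Q Y).erase X := by
    rintro ⟨t, X'⟩ hq
    simp only [Finset.mem_filter, Finset.mem_product, Finset.mem_univ, true_and] at hq
    obtain ⟨⟨⟨t2, t1, tY⟩, hX'⟩, hmove⟩ := hq
    obtain ⟨g, hQ, hA⟩ := exists_flag P t2 t1
    have hinc : Inc (cj g Q) Y := ((fix_iff (swap P) hC t2 t1 hY ⟨g, rfl⟩ hQ).1 tY).symm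
    simp only [Finset.mem_biUnion, Finset.mem_product, Finset.mem_sdiff, Finset.mem_erase, nonId,
      Finset.mem_filter, Finset.mem_univ, true_and, Subgroup.mem_inf]
    refine ⟨cj g Q, mem_onLine.2 ⟨⟨g, rfl⟩, hinc⟩, ⟨⟨hQ, t1⟩, fun h => hmove ?_⟩, fun e => hmove ?_, hX'⟩
    · exact (fix_iff P hC t2 t1 (mem_onLine.1 hX').1 hY h.1.2).2 (mem_onLine.1 hX').2
    · rw [e]
      exact (fix_iff P hC t2 t1 ⟨g, rfl⟩ ⟨g, rfl⟩ hA).2 ⟨t, t1, hQ, hA⟩
  refine (Finset.card_le_card hsub).trans (Finset.card_biUnion_le.trans ?_)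
  have hterm : ∀ X ∈ onLine Q Y, ((nonId X \ nonId (X ⊓ Y)) ×ˢ (onLine Q Y).erase X).card = 48 := by
    intro X hX
    rw [Finset.card_product, Finset.card_sdiff_of_subset (fun t ht => by
        simp only [nonId, Finset.mem_filter, Subgroup.mem_inf] at ht ⊢
        exact ⟨ht.1, ht.2.1.1, ht.2.2⟩),
      card_nonId_pt P (mem_onLine.1 hX).1, card_inter P hC (mem_onLine.1 hX).1 hY (mem_onLine.1 hX).2,
      Finset.card_erase_of_mem hX, card_onLine P hC hY]
  rw [Finset.sum_const_nat hterm, card_onLine P hC hY]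

/-- twenty-one points, any two collinear -/
theorem card_pts_eq (P : Pair M N Q A T) (hC : CIT G) :
    (pts Q).card = 21 ∧ ∀ X X', IsPt Q X → IsPt Q X' → X' ∈ coll Q A X := by
  set n := (pts Q).card with hn
  have hX0 : IsPt Q Q := ⟨1, (cj_one Q).symm⟩
  have hlow : 21 ≤ n := card_coll P hC hX0 ▸ Finset.card_le_card (coll_subset P hX0)
  have hlines : (pts A).card = n := by
    have h1 := card_pts (swap P)
    have h2 := card_pts P
    omega
  set I := Finset.univ.filter fun t : G => t * t = 1 ∧ t ≠ 1 with hI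
  have hIc : I.card = 15 * n := by
    have h1 : I = (pts Q).biUnion nonId := by
      ext t
      simp only [hI, nonId, Finset.mem_biUnion, Finset.mem_filter, Finset.mem_univ, true_and, mem_pts]
      constructor
      · rintro ⟨t2, t1⟩
        obtain ⟨g, hQ, -⟩ := exists_flag P t2 t1
        exact ⟨_, ⟨g, rfl⟩, hQ, t1⟩
      · rintro ⟨X, hX, htX, t1⟩
        exact ⟨sq_of_pt P hX htX, t1⟩
    rw [h1, Finset.card_biUnion fun X hX X' hX' hne => Finset.disjoint_left.2 fun t ht ht' => hne (by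
      simp only [nonId, Finset.mem_filter] at ht ht'
      exact ti P hC (mem_pts.1 hX) (mem_pts.1 hX') ht.2.2 ht.2.1 ht'.2.1),
      Finset.sum_const_nat fun X hX => card_nonId_pt P (mem_pts.1 hX), mul_comm]
  set D := (I ×ˢ pts Q).filter fun q => cj q.1 q.2 ≠ q.2 with hD
  have hDc : D.card + 75 * n = 15 * n * n := by
    have h1 := Finset.card_filter_add_card_filter_not (s := I ×ˢ pts Q) (fun q => cj q.1 q.2 ≠ q.2)
    rw [Finset.card_product, hIc] at h1
    have h2 : ((I ×ˢ pts Q).filter fun q => ¬ cj q.1 q.2 ≠ q.2).card = 75 * n := by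
      rw [Finset.card_eq_sum_card_fiberwise (f := Prod.fst) (t := I) fun q hq =>
        (Finset.mem_product.1 (Finset.mem_filter.1 hq).1).1]
      rw [Finset.sum_const_nat (m := 5) fun t ht => ?_, hIc]
      · ring
      obtain ⟨t2, t1⟩ := (Finset.mem_filter.1 ht).2
      obtain ⟨g, hQ, hA⟩ := exists_flag P t2 t1
      rw [← card_onLine P hC (Y := cj g A) ⟨g, rfl⟩]
      refine Finset.card_nbij' (fun q => q.2) (fun X => (t, X)) ?_ ?_ ?_ ?_
      · rintro ⟨s, X⟩ hq
        simp only [Finset.coe_filter, Finset.mem_filter, Finset.mem_product, Set.mem_ofPred_eq, not_not] at hq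
        obtain ⟨⟨⟨-, hX⟩, hfix⟩, rfl⟩ := hq
        exact mem_onLine.2 ⟨mem_pts.1 hX, (fix_iff P hC t2 t1 (mem_pts.1 hX) ⟨g, rfl⟩ hA).1 hfix⟩
      · intro X hX
        have hX' := mem_onLine.1 hX
        simp only [Finset.coe_filter, Finset.mem_filter, Finset.mem_product, Set.mem_ofPred_eq, not_not]
        exact ⟨⟨⟨ht, mem_pts.2 hX'.1⟩, (fix_iff P hC t2 t1 hX'.1 ⟨g, rfl⟩ hA).2 hX'.2⟩, trivial⟩
      · rintro ⟨s, X⟩ hq
        simp only [Finset.coe_filter, Set.mem_ofPred_eq] at hq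
        exact Prod.ext hq.2.symm rfl
      · intro X _
        rfl
    rw [h2] at h1
    exact h1
  -- split by collinearity
  have hcol : (D.filter fun q => cj q.1 q.2 ∈ coll Q A q.2).card ≤ 240 * n := by
    have hsub : (D.filter fun q => cj q.1 q.2 ∈ coll Q A q.2) ⊆ (pts A).biUnion fun Y =>
        ((Finset.univ.filter fun t => t * t = 1 ∧ t ≠ 1 ∧ cj t Y = Y) ×ˢ onLine Q Y).filter
          fun q => cj q.1 q.2 ≠ q.2 := by
      rintro ⟨t, X⟩ hq
      simp only [hD, hI, Finset.mem_filter, Finset.mem_product, Finset.mem_univ, true_and] at hq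
      obtain ⟨⟨⟨⟨t2, t1⟩, hX⟩, hmove⟩, hc⟩ := hq
      simp only [coll, Finset.mem_insert, Finset.mem_biUnion, Finset.mem_erase] at hc
      obtain ⟨Y, hY, -, hXY'⟩ := hc.resolve_left hmove
      obtain ⟨hYp, hXY⟩ := mem_through.1 hY
      obtain ⟨hX'p, hX'Y⟩ := mem_onLine.1 hXY'
      simp only [Finset.mem_biUnion, Finset.mem_filter, Finset.mem_product, Finset.mem_univ, true_and]
      refine ⟨Y, mem_pts.2 hYp, ⟨⟨t2, t1, ?_⟩, mem_onLine.2 ⟨mem_pts.1 hX, hXY⟩⟩, hmove⟩
      refine unique_line P hC (mem_pts.1 hX) hX'p (hYp.cj t) hYp (Ne.symm hmove) ?_ (hXY.cj t) hX'Y hXY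
      have := hX'Y.cj t
      rwa [cj_cj, t2, cj_one] at this
    refine (Finset.card_le_card hsub).trans (Finset.card_biUnion_le.trans ?_)
    refine (Finset.sum_le_card_nsmul _ _ 240 fun Y hY => line_movers_le P hC (mem_pts.1 hY)).trans ?_
    rw [smul_eq_mul, hlines, mul_comm]
  have hnon : (D.filter fun q => ¬ cj q.1 q.2 ∈ coll Q A q.2).card ≤ 5 * (n * (n - 21)) := by
    refine (Finset.card_le_mul_card_image _ 5 ?_ (f := fun q => (q.2, cj q.1 q.2))).trans ?_
    · intro p hp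
      obtain ⟨⟨t, X⟩, hq, rfl⟩ := Finset.mem_image.1 hp
      simp only [hD, hI, Finset.mem_filter, Finset.mem_product, Finset.mem_univ, true_and] at hq
      obtain ⟨⟨⟨⟨t2, t1⟩, hX⟩, hmove⟩, hc⟩ := hq
      refine le_trans ?_ (card_swappers_le P hC (mem_pts.1 hX) ((mem_pts.1 hX).cj t) hc)
      refine Finset.card_le_card_of_injOn Prod.fst ?_ ?_
      · rintro ⟨s, X'⟩ hs
        simp only [hD, hI, Finset.coe_filter, Finset.mem_filter, Finset.mem_product, Finset.mem_univ,
          true_and, Set.mem_ofPred_eq, Prod.mk.injEq] at hs ⊢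
        obtain ⟨⟨⟨⟨⟨s2, s1⟩, -⟩, -⟩, -⟩, rfl, e⟩ := hs
        exact ⟨s2, s1, e⟩
      · rintro ⟨s, X'⟩ hs ⟨s', X''⟩ hs' e
        simp only [Finset.coe_filter, Set.mem_ofPred_eq, Prod.mk.injEq] at hs hs'
        exact Prod.ext e (hs.2.1.trans hs'.2.1.symm)
    · refine Nat.mul_le_mul_left 5 ?_
      have hsub : (D.filter fun q => ¬ cj q.1 q.2 ∈ coll Q A q.2).image (fun q => (q.2, cj q.1 q.2)) ⊆
          (pts Q).biUnion fun X => ({X} : Finset _) ×ˢ (pts Q \ coll Q A X) := by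
        intro p hp
        obtain ⟨⟨t, X⟩, hq, rfl⟩ := Finset.mem_image.1 hp
        simp only [hD, Finset.mem_filter, Finset.mem_product] at hq
        simp only [Finset.mem_biUnion, Finset.mem_product, Finset.mem_singleton, Finset.mem_sdiff]
        exact ⟨X, hq.1.1.2, rfl, mem_pts.2 ((mem_pts.1 hq.1.1.2).cj t), hq.2⟩
      refine (Finset.card_le_card hsub).trans (Finset.card_biUnion_le.trans ?_)
      refine (Finset.sum_le_card_nsmul _ _ (n - 21) fun X hX => ?_).trans (le_of_eq (smul_eq_mul _ _))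
      rw [Finset.card_product, Finset.card_singleton, one_mul,
        Finset.card_sdiff_of_subset (coll_subset P (mem_pts.1 hX)), card_coll P hC (mem_pts.1 hX)]
  have hsum := Finset.card_filter_add_card_filter_not (s := D) (fun q => cj q.1 q.2 ∈ coll Q A q.2)
  have h21 : n = 21 := by
    obtain ⟨k, hk⟩ : ∃ k, n = 21 + k := ⟨n - 21, by omega⟩
    have hk' : n - 21 = k := by omega
    rw [hk'] at hnon
    nlinarith
  refine ⟨h21, fun X X' hX hX' => ?_⟩
  have := Finset.eq_of_subset_of_card_le (coll_subset P hX) (by rw [card_coll P hC hX]; exact h21.le)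
  rw [this]
  exact mem_pts.2 hX'

end Count

end CfsgLib.Recog.CIT.PairPlane

namespace CfsgLib.Recog.CIT

open PairPlane
attribute [local instance] Classical.propDecidable

universe u

/-- two `2⁴:A₅` sharing a Sylow subgroup give `PSL₃(4)` -/
theorem isL34_of_pair {G : Type u} [Group G] [Finite G] (hc : Ctx G) {M N Q A T : Subgroup G}
    (P : Pair M N Q A T) : IsL34 G := by
  haveI := hc.simple
  haveI := Fintype.ofFinite G
  have hC := hc.cit
  obtain ⟨h21, hcol⟩ := card_pts_eq P hC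
  have hcardG : Nat.card G = 20160 := by rw [← card_pts P, h21]
  let α := {X : Subgroup G // X ∈ pts Q}
  let line : Subgroup G → Finset α := fun Y => Finset.univ.filter fun X => Inc (X : Subgroup G) Y
  set B : Set (Finset α) := {b | ∃ Y, IsPt A Y ∧ line Y = b} with hBdef
  have hmem : ∀ (Y : Subgroup G) (X : α), X ∈ line Y ↔ Inc (X : Subgroup G) Y := fun Y X => by
    simp [line]
  have hα : Fintype.card α = 21 := by rw [Fintype.card_coe, h21]
  have hB : Cfsg.IsSteinerSystem 2 5 B := by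
    refine ⟨?_, fun s hs => ?_⟩
    · rintro _ ⟨Y, hY, rfl⟩
      rw [← card_onLine P hC hY]
      refine Finset.card_bij (fun X _ => (X : Subgroup G)) (fun X hX => ?_) (fun X _ X' _ e => Subtype.ext e)
        fun X hX => ?_
      · exact mem_onLine.2 ⟨mem_pts.1 X.2, (hmem Y X).1 hX⟩
      · exact ⟨⟨X, mem_pts.2 (mem_onLine.1 hX).1⟩, (hmem Y _).2 (mem_onLine.1 hX).2, rfl⟩
    · obtain ⟨X, X', hne, rfl⟩ := Finset.card_eq_two.1 hs
      have hX := mem_pts.1 X.2
      have hX' := mem_pts.1 X'.2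
      have hne' : (X : Subgroup G) ≠ X' := fun e => hne (Subtype.ext e)
      have hc' := hcol _ _ hX hX'
      simp only [coll, Finset.mem_insert, Finset.mem_biUnion, Finset.mem_erase] at hc'
      obtain ⟨Y, hY, -, hXY⟩ := hc'.resolve_left hne'.symm
      obtain ⟨hYp, h1⟩ := mem_through.1 hY
      refine ⟨line Y, ⟨⟨Y, hYp, rfl⟩, ?_⟩, ?_⟩
      · intro Z hZ
        simp only [Finset.mem_insert, Finset.mem_singleton] at hZ
        rcases hZ with rfl | rfl
        exacts [(hmem Y _).2 h1, (hmem Y _).2 (mem_onLine.1 hXY).2]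
      · rintro _ ⟨⟨Y', hY', rfl⟩, hsub⟩
        have e1 := (hmem Y' X).1 (hsub (by simp))
        have e2 := (hmem Y' X').1 (hsub (by simp))
        rw [unique_line P hC hX hX' hY' hYp hne' e1 e2 (mem_onLine.1 hXY).2 h1]
  let act : G → α → α := fun g X => ⟨cj g X, mem_pts.2 ((mem_pts.1 X.2).cj g)⟩
  have hact_mul : ∀ a b X, act (a * b) X = act a (act b X) := fun a b X =>
    Subtype.ext (cj_cj a b _).symm
  have hact_one : ∀ X, act 1 X = X := fun X => Subtype.ext (cj_one _)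
  let ρ : G →* Equiv.Perm α :=
    { toFun := fun g => ⟨act g, act g⁻¹, fun X => by rw [← hact_mul, inv_mul_cancel, hact_one],
        fun X => by rw [← hact_mul, mul_inv_cancel, hact_one]⟩
      map_one' := Equiv.ext hact_one
      map_mul' := fun a b => Equiv.ext (hact_mul a b) }
  have hρap : ∀ g X, ((ρ g X : α) : Subgroup G) = cj g X := fun _ _ => rfl
  have himage : ∀ g Y, (line Y).image (ρ g) = line (cj g Y) := by
    intro g Y
    ext X
    rw [Finset.mem_image, hmem]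
    constructor
    · rintro ⟨W, hW, rfl⟩
      rw [hρap]
      exact ((hmem Y W).1 hW).cj g
    · intro h
      refine ⟨(ρ g).symm X, (hmem _ _).2 ?_, Equiv.apply_symm_apply _ _⟩
      have := h.cj g⁻¹
      rwa [cj_cj, inv_mul_cancel, cj_one] at this
  have haut : ∀ g, ∀ m ∈ B, m.image (ρ g) ∈ B := by
    rintro g _ ⟨Y, hY, rfl⟩
    exact ⟨cj g Y, hY.cj g, (himage g Y).symm⟩
  have hρ : ρ ≠ 1 := by
    intro h
    have hall : ∀ g, cj g Q = Q := fun g => by
      have := congrArg (fun f : G →* Equiv.Perm α => ((f g) ⟨Q, mem_pts.2 ⟨1, (cj_one Q).symm⟩⟩ : α)) h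
      exact congrArg Subtype.val this
    have hn : Q.Normal := ⟨fun x hx g => (hall g) ▸ conj_mem_cj hx⟩
    obtain ⟨a, b, hab⟩ := hc.noncomm
    rcases hn.eq_bot_or_eq_top with e | e
    · have := P.cardQ
      rw [e, Subgroup.card_bot] at this
      omega
    · exact hab (mul_comm_of_sq P.elemQ (e ▸ Subgroup.mem_top a) (e ▸ Subgroup.mem_top b))
  set S := {t : G | t * t = 1 ∧ t ≠ 1} with hS
  have hS' : Subgroup.closure S = ⊤ := by
    have hn : (Subgroup.closure S).Normal := by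
      have e : Group.conjugatesOfSet S = S := by
        refine Set.Subset.antisymm (fun x hx => ?_) Group.subset_conjugatesOfSet
        obtain ⟨t, ⟨t2, t1⟩, hconj⟩ := Group.mem_conjugatesOfSet_iff.1 hx
        obtain ⟨c, rfl⟩ := isConj_iff.1 hconj
        exact ⟨by rw [show c * t * c⁻¹ * (c * t * c⁻¹) = c * (t * t) * c⁻¹ by group, t2]; group,
          fun h => t1 (conj_eq_one_iff.1 h)⟩
      have := Subgroup.normalClosure_normal (s := S)
      rwa [Subgroup.normalClosure, e] at this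
    refine hn.eq_bot_or_eq_top.resolve_left fun h => ?_
    obtain ⟨z, hz1, hzQ, -⟩ := exists_z P
    have : z ∈ Subgroup.closure S := Subgroup.subset_closure ⟨P.elemQ z hzQ, hz1⟩
    rw [h, Subgroup.mem_bot] at this
    exact hz1 this
  refine PlaneElation.isL34_of_elations hcardG hα hB ρ hρ haut hS' ?_
  rintro t ⟨t2, t1⟩
  obtain ⟨g, hQ, hA⟩ := exists_flag P t2 t1
  refine ⟨⟨cj g Q, mem_pts.2 ⟨g, rfl⟩⟩, line (cj g A), ⟨_, ⟨g, rfl⟩, rfl⟩,
    (hmem _ _).2 ⟨t, t1, hQ, hA⟩, fun X hX => Subtype.ext ?_, ?_⟩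
  · exact (fix_iff P hC t2 t1 (mem_pts.1 X.2) ⟨g, rfl⟩ hA).2 ((hmem _ X).1 hX)
  · rintro _ ⟨Y, hY, rfl⟩ hp X hX
    have hfix := (fix_iff (swap P) hC t2 t1 hY ⟨g, rfl⟩ hQ).2 ((hmem _ _).1 hp).symm
    rw [← hfix, ← himage]
    exact Finset.mem_image_of_mem _ hX

end CfsgLib.Recog.CIT
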