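import Cfsg.Agent.Lib.Recog.CIT.SEMain
import Cfsg.Agent.S0340
import Cfsg.Agent.Lib.Recog.ProjSpectrum
import Cfsg.Agent.Lib.Classical.PSLSimple
import Cfsg.Agent.Lib.Classical.Order
import Cfsg.Agent.Lib.Small.Order60

/-!
A simple group with a strongly embedded subgroup, in which every involution centraliser is a
2-group, is `PSL₂(2^n)` or a Suzuki group.
-/

set_option autoImplicit false
set_option linter.dupNamespace false
set_option linter.unusedSectionVars false
set_option linter.style.haveILetI false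

namespace CfsgLib.Recog.CIT

open EPPOTwo (IsTwo O2 isTwo_of_mem exists_involution orderOf_eq_two)

universe u

/-- Two factorisations into a power of two and an odd number agree. -/
theorem two_part_unique {a b u v : ℕ} (hu : Odd u) (hv : Odd v) (h : 2 ^ a * u = 2 ^ b * v) :
    a = b := by
  have h1 : ∀ {x w : ℕ}, Odd w → (2 ^ x * w).factorization 2 = x := fun {x w} hw => by
    rw [Nat.factorization_mul (by positivity) (Nat.ne_of_gt hw.pos),
      Nat.prime_two.factorization_pow]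
    simp [Nat.factorization_eq_zero_of_not_dvd (Nat.not_even_iff_odd.2 hw ∘ even_iff_two_dvd.2)]
  rw [← h1 (x := a) hu, h, h1 hv]

variable {G : Type u} [Group G] [Finite G] {S D : Subgroup G} {q : ℕ}

theorem SEData.card_le (h : SEData G S D q) : q ≤ Nat.card S := by
  classical
  have h1 : Nat.card {x : S // x = 1} + Nat.card {x : S // x ≠ 1} = Nat.card S := by
    rw [← Nat.card_sum]; exact Nat.card_congr (Equiv.sumCompl _)
  rw [Nat.card_unique] at h1
  have h2 : Nat.card {t : G // t ∈ S ∧ orderOf t = 2} ≤ Nat.card {x : S // x ≠ 1} :=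
    Nat.card_le_card_of_injective (fun t => ⟨⟨t.1, t.2.1⟩, fun e => by
      have h3 := t.2.2
      rw [show t.1 = 1 from congrArg Subtype.val e, orderOf_one] at h3
      omega⟩) fun a b hab => Subtype.ext (congrArg (fun x : {x : S // x ≠ 1} => (x.1 : G)) hab)
  rw [h.card_invol] at h2
  have := h.four_le
  omega

theorem SEData.two_pow (h : SEData G S D q) :
    ∃ a, Nat.card S = 2 ^ a ∧ Odd ((Nat.card S + 1) * (q - 1)) := by
  haveI : Fact (Nat.Prime 2) := ⟨Nat.prime_two⟩
  obtain ⟨a, ha⟩ := h.isP.exists_card_eq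
  obtain ⟨n, hn⟩ := h.isPow
  have hq := h.four_le
  have hs := h.card_le
  refine ⟨a, ha, Nat.odd_mul.2 ⟨?_, ?_⟩⟩
  · rcases a with _ | a
    · omega
    · exact ⟨2 ^ a, by rw [ha, pow_succ]; ring⟩
  · rcases n with _ | n
    · omega
    · have : 0 < 2 ^ n := by positivity
      exact ⟨2 ^ n - 1, by rw [hn, pow_succ]; omega⟩

/-- In a Suzuki group the subgroup `S` has order `q²` and is not elementary. -/
theorem exists_n (h : SEData G S D q) (hsz : Cfsg.IsSuzuki G) :
    (∃ m : ℕ, 1 ≤ m ∧ q = 2 ^ (2 * m + 1)) ∧ Nat.card S = q ^ 2 ∧ ¬ ∀ x ∈ S, x * x = 1 := by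
  obtain ⟨-, m, hm, hc⟩ := hsz
  obtain ⟨a, ha, hodd⟩ := h.two_pow
  set Q := 2 ^ (2 * m + 1) with hQ
  have hQ8 : 8 ≤ Q := le_trans (by norm_num) (Nat.pow_le_pow_right two_pos (show 3 ≤ 2 * m + 1 by omega))
  have hQe : Even Q := ⟨2 ^ (2 * m), by rw [hQ, pow_succ]; ring⟩
  have hodd2 : Odd ((Q ^ 2 + 1) * (Q - 1)) := by
    refine Nat.odd_mul.2 ⟨(hQe.pow_of_ne_zero two_ne_zero).add_one, ?_⟩
    obtain ⟨r, hr⟩ := hQe
    exact ⟨r - 1, by omega⟩
  have he : (2 : ℕ) ^ a * ((Nat.card S + 1) * (q - 1)) =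
      2 ^ ((2 * m + 1) * 2) * ((Q ^ 2 + 1) * (Q - 1)) := by
    rw [pow_mul, ← hQ, ← ha, ← mul_assoc, ← mul_assoc, ← hc, h.card_G]
    ring
  have hab := two_part_unique hodd hodd2 he
  have hS : Nat.card S = Q ^ 2 := by rw [ha, hab, pow_mul]
  rw [← hab, hS] at he
  have hk : q - 1 = Q - 1 :=
    Nat.eq_of_mul_eq_mul_left (by positivity) (Nat.eq_of_mul_eq_mul_left (by positivity) he)
  have hqQ : q = Q := by have := h.four_le; omega
  refine ⟨⟨m, hm, hqQ⟩, by rw [hS, hqQ], fun hel => ?_⟩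
  classical
  have h1 : Nat.card {x : S // x = 1} + Nat.card {x : S // x ≠ 1} = Nat.card S := by
    rw [← Nat.card_sum]; exact Nat.card_congr (Equiv.sumCompl _)
  rw [Nat.card_unique] at h1
  have h2 : Nat.card {x : S // x ≠ 1} ≤ Nat.card {t : G // t ∈ S ∧ orderOf t = 2} :=
    Nat.card_le_card_of_injective (fun x => ⟨(x.1 : G), x.1.2,
      orderOf_eq_two (hel _ x.1.2) (fun e => x.2 (Subtype.ext e))⟩) fun x y hxy =>
        Subtype.ext (Subtype.ext (congrArg
          (fun t : {t : G // t ∈ S ∧ orderOf t = 2} => (t : G)) hxy))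
  rw [h.card_invol, hqQ] at h2
  have : Q * 2 ≤ Q ^ 2 := by rw [pow_two]; exact Nat.mul_le_mul_left _ (by omega)
  omega

/-- An element of even order has 2-power order. -/
theorem exists_two_pow_of_even (hG : CIT G) {x : G} (hx : 2 ∣ orderOf x) :
    ∃ j, orderOf x = 2 ^ j := by
  haveI : Fact (Nat.Prime 2) := ⟨Nat.prime_two⟩
  have ht := orderOf_pow_orderOf_div (x := x) (orderOf_pos x).ne' hx
  have hmem : x ∈ Subgroup.centralizer ({x ^ (orderOf x / 2)} : Set G) :=
    Subgroup.mem_centralizer_singleton_iff.2 ((Commute.refl x).pow_right _)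
  obtain ⟨j, hj⟩ := IsPGroup.iff_orderOf.1 (hG _ ht) ⟨x, hmem⟩
  exact ⟨j, by rwa [Subgroup.orderOf_mk] at hj⟩

/-- The field of a linear group with the data has even order or five elements. -/
theorem card_field_of_odd (hG : CIT G) (h : SEData G S D q) {F : Type} [Field F] [Fintype F]
    (e : G ≃* Matrix.ProjectiveSpecialLinearGroup (Fin 2) F) (hodd : Odd (Fintype.card F)) :
    Nat.card G = 60 := by
  obtain ⟨a, ha, hs1⟩ := h.two_pow
  obtain ⟨n, hn⟩ := h.isPow
  have hq := h.four_le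
  have hle := h.card_le
  set r := Fintype.card F with hr
  have hr1 : 2 ≤ r := Fintype.one_lt_card
  have hcard : 2 * ((Nat.card S + 1) * Nat.card S * (q - 1)) = r * (r ^ 2 - 1) := by
    have h1 := Classical.card_PSL_two_mul (F := F)
    rw [Classical.gcd_two_card_sub_one_of_odd (by rwa [Nat.card_eq_fintype_card]),
      Nat.card_eq_fintype_card (α := F)] at h1
    rw [← h.card_G, Nat.card_congr e.toEquiv]
    exact h1
  haveI : Fact (Nat.Prime (ringChar F)) := ⟨CharP.char_is_prime F (ringChar F)⟩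
  have hd : Recog.dTwo F = 2 := by
    unfold Recog.dTwo
    rw [if_neg (Nat.not_even_iff_odd.2 hodd)]
  have hget : ∀ N, (N ∣ (r - 1) / 2 ∨ N ∣ (r + 1) / 2) → ∃ x : G, orderOf x = N := by
    intro N hN
    obtain ⟨y, hy⟩ : N ∈ Set.range (orderOf :
        Matrix.ProjectiveSpecialLinearGroup (Fin 2) F → ℕ) := by
      rw [Recog.range_orderOf_PSL_two (F := F) (ringChar F), hd]
      exact Or.inr hN
    exact ⟨e.symm y, by rw [← hy]; exact e.symm.orderOf_eq y⟩
  have hsq : r ^ 2 - 1 = (r - 1) * (r + 1) := by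
    obtain ⟨w, hw⟩ : ∃ w, r = w + 1 := ⟨r - 1, by omega⟩
    rw [hw, Nat.add_sub_cancel, show (w + 1) ^ 2 = w * (w + 1 + 1) + 1 by ring, Nat.add_sub_cancel]
  obtain ⟨c, hc⟩ := hodd
  set s := Nat.card S with hsdef
  rcases Nat.even_or_odd c with ⟨d, hd'⟩ | ⟨d, hd'⟩
  · -- the field order is one modulo four
    obtain ⟨x, hx⟩ := hget c (Or.inl (by rw [show (r - 1) / 2 = c by omega]))
    obtain ⟨j, hj⟩ := exists_two_pow_of_even hG (x := x) (by rw [hx]; exact ⟨d, by omega⟩)
    rw [hx] at hj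
    have h1 : 2 ^ a * ((s + 1) * (q - 1)) = 2 ^ (j + 1) * (r * (c + 1)) := by
      refine Nat.eq_of_mul_eq_mul_left two_pos ?_
      rw [← ha, pow_succ, ← hj, ← mul_assoc (s : ℕ), mul_comm s, hcard, hsq,
        show r - 1 = 2 * c by omega, show r + 1 = 2 * (c + 1) by omega]
      ring
    have haj := two_part_unique hs1 (Nat.odd_mul.2 ⟨⟨c, hc⟩, ⟨d, by omega⟩⟩) h1
    have hs : s = 2 * c := by rw [ha, haj, pow_succ, ← hj, mul_comm]
    rw [← haj] at h1
    have h2 := Nat.eq_of_mul_eq_mul_left (by positivity) h1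
    rw [show r = s + 1 by omega] at h2
    have h3 : q = c + 2 := by
      have := Nat.eq_of_mul_eq_mul_left (by omega : 0 < s + 1) h2
      omega
    -- `c` and `c + 2` are powers of two
    have hc2 : c = 2 := by
      rcases j with _ | _ | j
      · omega
      · simpa using hj
      · rcases n with _ | _ | _ | n
        · omega
        · omega
        · simp at hn; omega
        · rw [pow_succ, pow_succ, pow_succ] at hn
          rw [pow_succ, pow_succ] at hj
          omega
    rw [h.card_G, ← hsdef, h3, hs, hc2]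
  · -- the field order is three modulo four
    exfalso
    obtain ⟨x, hx⟩ := hget (c + 1) (Or.inr (by rw [show (r + 1) / 2 = c + 1 by omega]))
    obtain ⟨j, hj⟩ := exists_two_pow_of_even hG (x := x) (by rw [hx]; exact ⟨d + 1, by omega⟩)
    rw [hx] at hj
    have h1 : 2 ^ a * ((s + 1) * (q - 1)) = 2 ^ (j + 1) * (r * c) := by
      refine Nat.eq_of_mul_eq_mul_left two_pos ?_
      rw [← ha, pow_succ, ← hj, ← mul_assoc (s : ℕ), mul_comm s, hcard, hsq,
        show r - 1 = 2 * c by omega, show r + 1 = 2 * (c + 1) by omega]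
      ring
    have haj := two_part_unique hs1 (Nat.odd_mul.2 ⟨⟨c, hc⟩, ⟨d, by omega⟩⟩) h1
    have hs : s = 2 * (c + 1) := by rw [ha, haj, pow_succ, ← hj, mul_comm]
    rw [← haj] at h1
    have h2 := Nat.eq_of_mul_eq_mul_left (by positivity) h1
    -- `s + 1` divides six
    have h3 : (s + 1) ∣ (s - 1) * (s - 2) := ⟨2 * (q - 1), by
      rw [show s - 2 = 2 * c by omega, show s - 1 = r by omega]
      calc r * (2 * c) = 2 * (r * c) := by ring
        _ = _ := by rw [← h2]; ring⟩
    have h4 : (s + 1) ∣ 6 := by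
      have h5 : (s - 1) * (s - 2) + 4 * (s + 1) = (s + 1) * s + 6 := by
        obtain ⟨w, hw⟩ : ∃ w, s = w + 2 := ⟨s - 2, by omega⟩
        rw [hw, Nat.add_sub_cancel, show w + 2 - 1 = w + 1 by omega]
        ring
      exact (Nat.dvd_add_right (dvd_mul_right _ _)).1 (h5 ▸ dvd_add h3 (dvd_mul_left _ 4))
    have h6 := Nat.le_of_dvd (by norm_num) h4
    have h7 : s ≤ 5 := by omega
    have h8 : 4 ≤ s := by omega
    obtain h9 | h9 : s = 4 ∨ s = 5 := by omega
    · rw [h9] at h4; norm_num at h4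
    · omega

/-- The strongly embedded case of the classification. -/
theorem known_of_se [IsSimpleGroup G] (hnab : ∃ a b : G, a * b ≠ b * a) (hG : CIT G)
    (H : Subgroup G) (hH : Cfsg.IsStronglyEmbedded H) : Known G := by
  obtain ⟨hSE, hZ⟩ := hasSE_of_se hG hnab H hH
  rcases Cfsg.Agent.S0340.result hZ with ⟨F, hF, hF', ⟨e⟩⟩ | hsz
  swap
  · exact Or.inl ⟨hSE, Or.inr hsz⟩
  refine Or.inl ⟨hSE, Or.inl ?_⟩
  obtain ⟨S, D, q, h⟩ := hSE
  rcases Nat.even_or_odd (Fintype.card F) with heven | hodd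
  · obtain ⟨p, hp⟩ := CharP.exists F
    obtain ⟨n, hpp, hn⟩ := FiniteField.card F p
    have hp2 : p = 2 := by
      by_contra hne
      rw [hn] at heven
      exact hne ((Nat.prime_dvd_prime_iff_eq Nat.prime_two hpp).1
        (Nat.prime_two.dvd_of_dvd_pow (even_iff_two_dvd.1 heven))).symm
    refine ⟨F, hF, hF', ⟨n, ?_, hp2 ▸ hn⟩, ⟨e⟩⟩
    by_contra hlt
    have hn1 : (n : ℕ) = 1 := by have := n.pos; omega
    have h1 := Classical.card_PSL_two (F := F)
    rw [Nat.card_eq_fintype_card (α := F), hn, hn1, hp2] at h1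
    rw [← Nat.card_congr e.toEquiv, h.card_G] at h1
    norm_num at h1
    have h2 := h.four_le
    have h3 := h.card_le
    have : (4 + 1) * 4 * (4 - 1) ≤ (Nat.card S + 1) * Nat.card S * (q - 1) :=
      Nat.mul_le_mul (Nat.mul_le_mul (by omega) (by omega)) (by omega)
    omega
  · obtain ⟨i⟩ := Small.equiv_alternating_five (card_field_of_odd hG h e hodd)
    haveI : Fact (Nat.Prime 2) := ⟨Nat.prime_two⟩
    letI : Fintype (GaloisField 2 2) := Fintype.ofFinite _
    have h4 : Nat.card (GaloisField 2 2) = 4 := GaloisField.card 2 2 two_ne_zero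
    haveI : IsSimpleGroup (Matrix.ProjectiveSpecialLinearGroup (Fin 2) (GaloisField 2 2)) :=
      Classical.isSimpleGroup_PSL_fin 2 le_rfl fun _ => h4.ge
    have h60 : Nat.card (Matrix.ProjectiveSpecialLinearGroup (Fin 2) (GaloisField 2 2)) = 60 := by
      rw [Classical.card_PSL_two, h4]
      rfl
    obtain ⟨k⟩ := Small.equiv_alternating_five h60
    exact ⟨GaloisField 2 2, inferInstance, inferInstance, ⟨2, le_rfl,
      by rw [← Nat.card_eq_fintype_card, h4]; rfl⟩, ⟨i.trans k.symm⟩⟩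

end CfsgLib.Recog.CIT
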