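import Cfsg.Agent.Lib.Recog.CIT.Basic
import Cfsg.Agent.Lib.Recog.EPPOTwo.FourCase
import Cfsg.Agent.Lib.Recog.ProjSpectrum
import Cfsg.Agent.S0205
import Cfsg.Agent.S0518

/-!
Simple groups with 2-group involution centralisers all of whose 2-local subgroups are solvable.
-/

set_option autoImplicit false
set_option linter.style.haveILetI false
set_option linter.unusedSectionVars false

namespace CfsgLib.Recog.CIT

open EPPOTwo (IsTwo O2 isTwo_of_mem exists_involution sq_eq_one_of_orderOf)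

universe u

/-- A power of two next to a proper prime power is eight. -/
theorem eq_one_or_nine {p n k : ℕ} (hp : p.Prime) (hodd : Odd p) (hn : 0 < n)
    (h : p ^ n = 2 ^ k + 1 ∨ p ^ n + 1 = 2 ^ k) : n = 1 ∨ p ^ n = 9 := by
  rcases eq_or_ne n 1 with h1 | h1
  · exact Or.inl h1
  right
  have hp3 : 3 ≤ p := by
    rcases hp.two_le.lt_or_eq with h2 | h2
    · omega
    · subst h2; exact absurd hodd (by decide)
  rcases Nat.even_or_odd n with ⟨m, hm⟩ | hno
  · have hm0 : 0 < m := by omega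
    have hrodd : Odd (p ^ m) := hodd.pow
    obtain ⟨r, hr⟩ := hrodd
    have hsq : p ^ n = (2 * r + 1) * (2 * r + 1) := by rw [hm, pow_add, hr]
    rcases h with h | h
    · have hprod : (2 * r) * (2 * r + 2) = 2 ^ k := by
        rw [hsq] at h; nlinarith
      obtain ⟨a, -, ha⟩ := (Nat.dvd_prime_pow Nat.prime_two).1 (Dvd.intro _ hprod)
      obtain ⟨b, -, hb⟩ := (Nat.dvd_prime_pow Nat.prime_two).1 (Dvd.intro_left _ hprod)
      have hr3 : 3 ≤ 2 * r + 1 := hr ▸ hp3.trans (Nat.le_self_pow hm0.ne' p)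
      rcases a with _ | _ | a
      · omega
      · have : r = 1 := by omega
        rw [hsq, this]
      · rcases b with _ | _ | b
        · omega
        · omega
        · rw [pow_succ, pow_succ] at ha hb; omega
    · exfalso
      have hk : 2 ≤ k := by
        by_contra hk
        have : 2 ^ k ≤ 2 := (Nat.pow_le_pow_right (by norm_num) (by omega : k ≤ 1)).trans (by norm_num)
        have := Nat.le_self_pow (by omega : n ≠ 0) p
        omega
      have h4 : 4 ∣ 2 ^ k := pow_dvd_pow 2 hk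
      have : p ^ n = 4 * (r * r + r) + 1 := by rw [hsq]; ring
      omega
  · exfalso
    obtain ⟨j, hj⟩ := hno
    have hge : p ^ 2 ≤ p ^ n := Nat.pow_le_pow_right hp.pos (by omega)
    have hpp : p + 1 < p ^ n := by nlinarith
    rcases h with h | h
    · -- `p ^ n - 1 = (p - 1) * (odd)`
      have hd : (∑ i ∈ Finset.range n, p ^ i) * (p - 1) = 2 ^ k := by
        have := Nat.geomSum_eq hp.two_le n
        have hdiv : p - 1 ∣ p ^ n - 1 := by
          simpa using Nat.sub_dvd_pow_sub_pow p 1 n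
        rw [this, Nat.div_mul_cancel hdiv]
        omega
      have hsodd : Odd (∑ i ∈ Finset.range n, p ^ i) := by
        rw [Finset.odd_sum_iff_odd_card_odd, Finset.filter_true_of_mem fun i _ => hodd.pow,
          Finset.card_range]
        exact ⟨j, hj⟩
      obtain ⟨a, -, ha⟩ := (Nat.dvd_prime_pow Nat.prime_two).1 (Dvd.intro _ hd)
      rcases a with _ | a
      · rw [ha, pow_zero, one_mul] at hd
        omega
      · rw [ha] at hsodd
        exact absurd hsodd (Nat.not_odd_iff_even.2 (Nat.even_pow.2 ⟨even_two, by omega⟩))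
    · -- `p ^ n + 1 = (p + 1) * (odd)`
      have hdvd : p + 1 ∣ p ^ n + 1 := by simpa using Odd.nat_add_dvd_pow_add_pow p 1 ⟨j, hj⟩
      obtain ⟨a, hak, ha⟩ := (Nat.dvd_prime_pow Nat.prime_two).1 (h ▸ hdvd)
      have hlt : a < k := by
        rcases hak.lt_or_eq with h' | h'
        · exact h'
        · subst h'; omega
      have h2 : 2 * (p + 1) ∣ p ^ n + 1 := by
        rw [h, ha, ← pow_succ']
        exact pow_dvd_pow 2 hlt
      have hc : ((p : ℤ) + 1) * 2 ∣ (p : ℤ) ^ n + 1 := by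
        have := Int.natCast_dvd_natCast.2 h2
        push_cast at this
        rwa [mul_comm]
      have hg : ((p : ℤ) ^ n + 1) = ((p : ℤ) + 1) * ∑ i ∈ Finset.range n, (-(p : ℤ)) ^ i := by
        have := geom_sum_mul (-(p : ℤ)) n
        rw [Odd.neg_pow ⟨j, hj⟩] at this
        linarith
      rw [hg] at hc
      have h3 : (2 : ℤ) ∣ ∑ i ∈ Finset.range n, (-(p : ℤ)) ^ i :=
        Int.dvd_of_mul_dvd_mul_left (by omega) hc
      have h4 : ∀ N : ℕ, (∑ i ∈ Finset.range N, (-(p : ℤ)) ^ i) % 2 = (N : ℤ) % 2 := by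
        intro N
        induction N with
        | zero => simp
        | succ N ih =>
          rw [Finset.sum_range_succ]
          have hp2 : (-(p : ℤ)) ^ N % 2 = 1 :=
            Int.odd_iff.1 ((by exact_mod_cast hodd : Odd (p : ℤ)).neg).pow
          push_cast
          omega
      have := h4 n
      omega

/-- The odd prime powers `q` with `PSL₂(q)` in the class. -/
theorem card_of_psl_odd {G : Type u} [Group G] [Finite G] (hG : CIT G) {F : Type} [Field F] [Fintype F]
    (hodd : Odd (Fintype.card F)) (e : G ≃* Matrix.ProjectiveSpecialLinearGroup (Fin 2) F) :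
    Fintype.card F = 9 ∨
      ((Fintype.card F).Prime ∧ ∃ k : ℕ, Fintype.card F = 2 ^ k + 1 ∨ Fintype.card F + 1 = 2 ^ k) := by
  classical
  obtain ⟨p, hchar⟩ := CharP.exists F
  obtain ⟨n, hp, hq⟩ := FiniteField.card F p
  haveI : Fact p.Prime := ⟨hp⟩
  set q := Fintype.card F with hqdef
  have hq3 : 3 ≤ q := by
    have := Fintype.one_lt_card (α := F)
    obtain ⟨r, hr⟩ := hodd
    omega
  have hd2 : dTwo F = 2 := by
    unfold dTwo
    rw [if_neg (Nat.not_even_iff_odd.2 hodd)]
  have two_pow : ∀ m : ℕ, (∃ g : G, orderOf g = m) → Even m → ∃ k, m = 2 ^ k := by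
    rintro m ⟨g, rfl⟩ hm
    obtain ⟨t, hto, htg⟩ : ∃ t : G, orderOf t = 2 ∧ Commute t g := by
      refine ⟨g ^ (orderOf g / 2), ?_, (Commute.refl g).pow_left _⟩
      have h0 : 0 < orderOf g := orderOf_pos g
      obtain ⟨r, hr⟩ := hm
      rw [orderOf_pow' g (by omega), Nat.gcd_eq_right (Nat.div_dvd_of_dvd ⟨r, by omega⟩),
        Nat.div_div_self ⟨r, by omega⟩ h0.ne']
    obtain ⟨k, hk⟩ := hG.two_element hto htg
    obtain ⟨a, -, ha⟩ := (Nat.dvd_prime_pow Nat.prime_two).1 (orderOf_dvd_of_pow_eq_one hk)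
    exact ⟨a, ha⟩
  have hk : ∃ k, q = 2 ^ k + 1 ∨ q + 1 = 2 ^ k := by
    obtain ⟨r, hr⟩ := hodd
    obtain ⟨g1, hg1⟩ := exists_orderOf_eq_card_sub_one_PSL (F := F)
    obtain ⟨g2, hg2⟩ := exists_orderOf_eq_card_add_one_PSL (F := F) p
    have hs : ∀ g, orderOf (e.symm g) = orderOf g := fun g => e.symm.orderOf_eq g
    rw [hd2, ← hqdef] at hg1 hg2
    rcases Nat.even_or_odd r with he | ho
    · obtain ⟨k, hk⟩ := two_pow ((q - 1) / 2) ⟨e.symm g1, (hs g1).trans hg1⟩
        (by rwa [show (q - 1) / 2 = r by omega])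
      exact ⟨k + 1, Or.inl (by rw [pow_succ]; omega)⟩
    · obtain ⟨k, hk⟩ := two_pow ((q + 1) / 2) ⟨e.symm g2, (hs g2).trans hg2⟩
        (by rw [show (q + 1) / 2 = r + 1 by omega]; exact ho.add_one)
      exact ⟨k + 1, Or.inr (by rw [pow_succ]; omega)⟩
  obtain ⟨k, hk⟩ := hk
  have hpodd : Odd p := by
    rcases hp.eq_two_or_odd' with h | h
    · subst h
      rw [hq] at hodd
      exact absurd hodd (Nat.not_odd_iff_even.2 (Nat.even_pow.2 ⟨even_two, n.2.ne'⟩))
    · exact h
  rcases eq_one_or_nine hp hpodd n.2 (hq ▸ hk) with h | h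
  · exact Or.inr ⟨by rw [hq, show (n : ℕ) = 1 from h, pow_one]; exact hp, k, hk⟩
  · exact Or.inl (hq.trans h)

variable {G : Type u} [Group G] [Finite G]

/-- `G` is a projective special linear group of degree two over a field of odd order. -/
def IsPSLTwoOdd (G : Type u) [Group G] : Prop :=
  ∃ (F : Type) (_ : Field F) (_ : Fintype F), Odd (Fintype.card F) ∧
    Nonempty (G ≃* Matrix.ProjectiveSpecialLinearGroup (Fin 2) F)

theorem index_ne_two [IsSimpleGroup G] (hnab : ∃ a b : G, a * b ≠ b * a) (H : Subgroup G) :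
    H.index ≠ 2 := fun hi => by
  obtain ⟨a, b, hab⟩ := hnab
  rcases (Subgroup.normal_of_index_eq_two hi).eq_bot_or_eq_top with rfl | rfl
  · rw [Subgroup.index_bot] at hi
    haveI := isCyclic_of_prime_card (p := 2) (hp := ⟨Nat.prime_two⟩) hi
    exact hab ((IsCyclic.commGroup (α := G)).mul_comm a b)
  · rw [Subgroup.index_top] at hi
    omega

/-- a self-centralising four-group with an element of order three gives `PSL₂` of odd characteristic -/
theorem isPSLTwoOdd_of_smallFour [IsSimpleGroup G] (hnab : ∃ a b : G, a * b ≠ b * a) (hG : CIT G)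
    (h : EPPOTwo.SmallFour G) : IsPSLTwoOdd G := by
  obtain ⟨D, x, hD, hne, h4, hcent, hxo, hxD⟩ := h
  haveI : Fact (Nat.Prime 2) := ⟨Nat.prime_two⟩
  obtain ⟨S, hDS⟩ := hD.exists_le_sylow
  have hSne : (S : Subgroup G) ≠ ⊥ := fun e => hne (le_bot_iff.1 (e ▸ hDS))
  haveI : Nontrivial (S : Subgroup G) := (Subgroup.nontrivial_iff_ne_bot _).2 hSne
  obtain ⟨z₀, hz₀, hz₀o⟩ := exists_involution (S.isPGroup'.to_subgroup _)
    ((Subgroup.nontrivial_iff_ne_bot _).1 S.isPGroup'.center_nontrivial)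
  set z : G := (z₀ : G) with hz
  have hzS : z ∈ (S : Subgroup G) := z₀.2
  have hzc : ∀ s ∈ (S : Subgroup G), s * z = z * s := fun s hs =>
    congrArg Subtype.val (Subgroup.mem_center_iff.1 hz₀ ⟨s, hs⟩)
  have hzo : orderOf z = 2 := by rw [hz, Subgroup.orderOf_coe]; exact hz₀o
  have hzD : z ∈ D := hcent (Subgroup.mem_centralizer_iff.2 fun d hd => hzc d (hDS hd))
  have hzz := sq_eq_one_of_orderOf hzo
  have hz1 : z ≠ 1 := fun e => by rw [e, orderOf_one] at hzo; exact absurd hzo (by norm_num)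
  set e : G := x * z * x⁻¹ with he
  have heD : e ∈ D := hxD z hzD
  have he1 : e ≠ 1 := fun h' => hz1 (by
    have h2 := congrArg (fun a => x⁻¹ * a * x) h'
    simpa [he, mul_assoc] using h2)
  have hze : z ≠ e := fun h' => hz1 (hG.eq_one_of_commute (x := x) (by rw [hxo]; decide) (fun e => by rw [e, orderOf_one] at hxo; omega)
    (isTwo_of_mem hD hzD) (mul_inv_eq_iff_eq_mul.1 h'.symm))
  have hall := fun {y} hy => EPPOTwo.eq_of_card_le_four (y := y) h4 hzD heD hz1 he1 hze hzz hy
  have hD4 : Nat.card D = 4 := by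
    obtain ⟨n, hn⟩ := hD.exists_card_eq
    let j : Fin 3 → D := ![1, ⟨z, hzD⟩, ⟨e, heD⟩]
    have hj : Function.Injective j := by
      intro a b hab
      have hval := congrArg Subtype.val hab
      fin_cases a <;> fin_cases b <;>
        first
        | rfl
        | exact absurd hval hz1 | exact absurd hval.symm hz1
        | exact absurd hval he1 | exact absurd hval.symm he1
        | exact absurd hval hze | exact absurd hval.symm hze
    have h3 := Nat.card_le_card_of_injective j hj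
    rw [Nat.card_fin] at h3
    rw [hn] at h3 h4 ⊢
    have : n ≤ 2 := (Nat.pow_le_pow_iff_right (by norm_num : 1 < 2)).1 h4
    interval_cases n <;> omega
  have hez : Commute z e := (hzc e (hDS heD)).symm
  have hCS : Subgroup.centralizer ({⟨e, hDS heD⟩} : Set (S : Subgroup G)) =
      D.subgroupOf (S : Subgroup G) := by
    ext y
    rw [Subgroup.mem_centralizer_singleton_iff, Subgroup.mem_subgroupOf]
    constructor
    · intro hy
      refine hcent (Subgroup.mem_centralizer_iff.2 fun d hd => ?_)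
      have hye : Commute (y : G) e := congrArg Subtype.val hy
      have hyz : Commute (y : G) z := hzc y y.2
      rcases hall hd with rfl | rfl | rfl | rfl
      · simp
      · exact hyz.eq.symm
      · exact hye.eq.symm
      · exact (hyz.mul_right hye).eq.symm
    · intro hy
      apply Subtype.ext
      show (y : G) * e = e * y
      rcases hall hy with h' | h' | h' | h' <;> rw [h']
      · simp
      · exact hez.eq
      · exact (hez.mul_left (Commute.refl e)).eq
  have heo : orderOf (⟨e, hDS heD⟩ : (S : Subgroup G)) = 2 := by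
    rw [Subgroup.orderOf_mk, he, ← MulAut.conj_apply]
    exact (orderOf_injective (MulAut.conj x).toMonoidHom (MulEquiv.injective _) z).trans hzo
  have hC4 : Nat.card (Subgroup.centralizer ({⟨e, hDS heD⟩} : Set (S : Subgroup G))) = 4 := by
    rw [hCS, Nat.card_congr (Subgroup.subgroupOfEquivOfLe hDS).toEquiv, hD4]
  have hdih : ∀ n, Nonempty ((S : Subgroup G) ≃* DihedralGroup n) → IsPSLTwoOdd G := by
    intro n hn
    have hcard : 4 ≤ Nat.card (S : Subgroup G) := hD4 ▸ Subgroup.card_le_of_le hDS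
    obtain ⟨φ⟩ := hn
    rw [Nat.card_congr φ.toEquiv, DihedralGroup.nat_card] at hcard
    set O := (Cfsg.oddCore (Subgroup.centralizer ({z} : Set G))).map
      (Subgroup.centralizer ({z} : Set G)).subtype with hO
    have hObot : O = ⊥ := by
      refine Subgroup.eq_bot_of_card_eq _ ?_
      rw [hO, Subgroup.card_map_of_injective (Subgroup.subtype_injective _)]
      obtain ⟨k, hk⟩ := (hG.isPGroup_centralizer hzo (Set.mem_singleton z)).to_subgroup
        (Cfsg.oddCore (Subgroup.centralizer ({z} : Set G))) |>.exists_card_eq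
      have hodd := Base.odd_card_oddCore (Subgroup.centralizer ({z} : Set G))
      rw [hk] at hodd ⊢
      rcases Nat.eq_zero_or_pos k with rfl | hk0
      · exact pow_zero 2
      · exact absurd hodd (Nat.not_odd_iff_even.2 (Nat.even_pow.2 ⟨even_two, hk0.ne'⟩))
    obtain ⟨F, iF, jF, hodd, hF⟩ := Cfsg.Agent.S0508.result S n (by omega) ⟨φ⟩ z hzo hzS hzc O hO
      (fun h' => absurd hObot h')
      (fun s hs hsO => absurd (by rw [hObot]; simp [Subgroup.mem_centralizer_iff]) hsO)
      (fun Y hY hY' => absurd (le_bot_iff.1 (hObot ▸ hY)) hY')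
    exact ⟨F, iF, jF, hodd, hF⟩
  rcases Cfsg.Agent.S3224.result S.isPGroup' _ heo hC4 with ⟨n, hn⟩ | hq | h4'
  · exact hdih n hn
  · exfalso
    obtain ⟨R, -, ⟨K, -, -, hK2, hKP⟩, -⟩ := Involutions.centralizer_involution S (Or.inl hq)
      (index_ne_two hnab) z hzo
    have hKp : IsPGroup 2 K :=
      (hG.isPGroup_centralizer hzo (Set.mem_singleton z)).to_subgroup K
    obtain ⟨P⟩ := (inferInstance : Nonempty (Sylow 2 K))
    obtain ⟨m, -, ⟨φ⟩⟩ := hKP P
    obtain ⟨k, hk⟩ := hKp.exists_card_eq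
    rcases k with _ | k
    · have h1 : Nat.card (P : Subgroup K) = 1 :=
        Nat.eq_one_of_dvd_one (by rw [← pow_zero 2, ← hk]; exact Subgroup.card_subgroup_dvd_card _)
      haveI : NeZero (2 ^ m) := ⟨pow_ne_zero m two_ne_zero⟩
      rw [Nat.card_congr φ.toEquiv, Nat.card_eq_fintype_card, QuaternionGroup.card] at h1
      omega
    · obtain ⟨H, hH⟩ := Sylow.exists_subgroup_card_pow_prime (G := K) 2
        (hk ▸ pow_dvd_pow 2 (Nat.le_succ k) : 2 ^ k ∣ Nat.card K)
      refine hK2 H ?_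
      have h1 := H.card_mul_index
      rw [hH, hk, pow_succ] at h1
      exact Nat.eq_of_mul_eq_mul_left (pow_pos (by norm_num) k) h1
  · refine hdih 2 ?_
    have hSD : (S : Subgroup G) = D :=
      (Subgroup.eq_of_le_of_card_ge hDS (by rw [h4', hD4])).symm
    haveI : IsKleinFour (S : Subgroup G) := by
      refine ⟨h4', ?_⟩
      refine Nat.dvd_antisymm (Monoid.exponent_dvd_of_forall_pow_eq_one fun y => ?_) ?_
      · apply Subtype.ext
        show (y : G) ^ 2 = 1
        rw [pow_two]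
        have hye : e * e = 1 := by
          rw [he]
          calc x * z * x⁻¹ * (x * z * x⁻¹) = x * (z * z) * x⁻¹ := by group
            _ = 1 := by rw [hzz, mul_one, mul_inv_cancel]
        rcases hall (hSD.le y.2) with h' | h' | h' | h' <;> rw [h']
        · exact mul_one 1
        · exact hzz
        · exact hye
        · calc z * e * (z * e) = z * (e * z) * e := by group
            _ = z * (z * e) * e := by rw [hez.eq]
            _ = (z * z) * (e * e) := by group
            _ = 1 := by rw [hzz, hye, one_mul]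
      · calc 2 = orderOf z₀ := hz₀o.symm
          _ ∣ _ := Monoid.order_dvd_exponent z₀
    exact IsKleinFour.nonempty_mulEquiv


/-- the Klein four-group in the symmetric group of degree four -/
def kleinS4 : Subgroup (Equiv.Perm (Fin 4)) where
  carrier := {σ | σ = 1 ∨ (σ * σ = 1 ∧ ∀ i, σ i ≠ i)}
  one_mem' := Or.inl rfl
  mul_mem' := by
    intro a b
    revert a b
    simp only [Set.mem_ofPred_eq]
    decide +kernel
  inv_mem' := by
    intro a
    revert a
    simp only [Set.mem_ofPred_eq]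
    decide +kernel

theorem mem_kleinS4 {σ : Equiv.Perm (Fin 4)} :
    σ ∈ kleinS4 ↔ σ = 1 ∨ (σ * σ = 1 ∧ ∀ i, σ i ≠ i) := Iff.rfl

theorem card_kleinS4 :
    (Finset.univ.filter fun σ : Equiv.Perm (Fin 4) => σ = 1 ∨ (σ * σ = 1 ∧ ∀ i, σ i ≠ i)).card = 4 := by
  decide +kernel

theorem kleinS4_conj : ∀ g σ : Equiv.Perm (Fin 4), (σ = 1 ∨ (σ * σ = 1 ∧ ∀ i, σ i ≠ i)) →
    (g * σ * g⁻¹ = 1 ∨ ((g * σ * g⁻¹) * (g * σ * g⁻¹) = 1 ∧ ∀ i, (g * σ * g⁻¹) i ≠ i)) := by
  decide +kernel

theorem kleinS4_centralizer : ∀ g : Equiv.Perm (Fin 4),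
    (∀ σ : Equiv.Perm (Fin 4), (σ = 1 ∨ (σ * σ = 1 ∧ ∀ i, σ i ≠ i)) → g * σ = σ * g) →
    (g = 1 ∨ (g * g = 1 ∧ ∀ i, g i ≠ i)) := by
  decide +kernel

theorem exists_three_perm : ∃ x : Equiv.Perm (Fin 4), x * x * x = 1 ∧ x ≠ 1 :=
  ⟨Equiv.swap 0 1 * Equiv.swap 1 2, by decide +kernel, by decide +kernel⟩

theorem smallFour_of_s4 {M : Subgroup G} (hM : Cfsg.IsMaximalTwoLocal M)
    (φ : M ≃* Equiv.Perm (Fin 4)) : EPPOTwo.SmallFour G := by
  obtain ⟨x0, hx3, hx1⟩ := exists_three_perm
  have hnorm := kleinS4_conj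
  have hcent := kleinS4_centralizer
  set D := kleinS4.map ((M.subtype).comp φ.symm.toMonoidHom) with hD
  have hinj : Function.Injective ((M.subtype).comp φ.symm.toMonoidHom) :=
    M.subtype_injective.comp φ.symm.injective
  have hDc : Nat.card D = 4 := by
    have hset : (kleinS4 : Set (Equiv.Perm (Fin 4))) = ↑(Finset.univ.filter
        fun σ : Equiv.Perm (Fin 4) => σ = 1 ∨ (σ * σ = 1 ∧ ∀ i, σ i ≠ i)) := by
      ext σ
      simp [mem_kleinS4]
    rw [hD, Subgroup.card_map_of_injective hinj]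
    exact (Nat.card_coe_set_eq (kleinS4 : Set (Equiv.Perm (Fin 4)))).trans
      (by rw [hset, Set.ncard_coe_finset]; exact card_kleinS4)
  have hDp : IsPGroup 2 D := IsPGroup.of_card (n := 2) (by rw [hDc]; norm_num)
  have hDne : D ≠ ⊥ := fun h => by
    rw [h, Subgroup.card_bot] at hDc; omega
  have hle : M ≤ Subgroup.normalizer (D : Set G) := by
    intro m hm
    refine Subgroup.mem_normalizer_iff.2 fun d => ?_
    have key : ∀ (g : M) (d : G), d ∈ D → (g : G) * d * (g : G)⁻¹ ∈ D := by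
      rintro g _ ⟨σ, hσ, rfl⟩
      refine ⟨φ g * σ * (φ g)⁻¹, mem_kleinS4.2 (hnorm (φ g) σ (mem_kleinS4.1 hσ)), ?_⟩
      simp [map_mul, map_inv]
    refine ⟨key ⟨m, hm⟩ d, fun h => ?_⟩
    have := key ⟨m, hm⟩⁻¹ _ h
    simpa [mul_assoc] using this
  have hN : Subgroup.normalizer (D : Set G) = M := hM.2 _ ⟨D, hDp, hDne, rfl⟩ hle
  refine ⟨D, (φ.symm x0 : G), hDp, hDne, hDc.le, fun c hc => ?_, ?_, fun d hd => ?_⟩
  · have hcM : c ∈ M := hN ▸ Subgroup.centralizer_le_normalizer _ hc
    refine ⟨φ ⟨c, hcM⟩, mem_kleinS4.2 (hcent _ fun σ hσ => φ.symm.injective (Subtype.ext ?_)), by simp⟩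
    simp only [map_mul, Subgroup.coe_mul, MulEquiv.symm_apply_apply]
    exact (Subgroup.mem_centralizer_iff.1 hc _ ⟨σ, mem_kleinS4.2 hσ, rfl⟩).symm
  · rw [Subgroup.orderOf_coe, MulEquiv.orderOf_eq]
    haveI : Fact (Nat.Prime 3) := ⟨Nat.prime_three⟩
    exact orderOf_eq_prime (by rw [pow_succ, pow_two, hx3]) hx1
  · exact (Subgroup.mem_normalizer_iff.1 (hle (φ.symm x0).2) d).1 hd

/-- A maximal 2-local subgroup of the whole group seen as a subgroup is one of the group. -/
theorem maximalTwoLocal_map {H : Subgroup G} (hH : H = ⊤) {M : Subgroup H}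
    (hM : Cfsg.IsMaximalTwoLocal M) : Cfsg.IsMaximalTwoLocal (M.map H.subtype) := by
  subst hH
  have hs : Function.Surjective (⊤ : Subgroup G).subtype := fun g => ⟨⟨g, trivial⟩, rfl⟩
  have hmap : ∀ T : Subgroup (⊤ : Subgroup G),
      (Subgroup.normalizer (T : Set _)).map (⊤ : Subgroup G).subtype =
        Subgroup.normalizer ((T.map (⊤ : Subgroup G).subtype : Subgroup G) : Set G) := fun T =>
    Subgroup.map_normalizer_eq_of_bijective _ ⟨Subtype.val_injective, hs⟩
  obtain ⟨T, hT, hT1, rfl⟩ := hM.1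
  refine ⟨⟨_, hT.map _, fun e => hT1 ((Subgroup.map_eq_bot_iff_of_injective _ Subtype.val_injective).1 e),
    hmap T⟩, ?_⟩
  rintro _ ⟨U, hU, hU1, rfl⟩ hle
  have hU' : U = (U.subgroupOf ⊤).map (⊤ : Subgroup G).subtype :=
    (Subgroup.map_subgroupOf_eq_of_le le_top).symm
  rw [hU', ← hmap] at hle ⊢
  refine congrArg _ (hM.2 _ ⟨_, hU.comap_of_injective _ Subtype.val_injective, fun e => hU1 ?_, rfl⟩
    ((Subgroup.map_le_map_iff_of_injective Subtype.val_injective).1 hle))
  exact hU'.trans ((congrArg (Subgroup.map _) e).trans (Subgroup.map_bot _))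

/-- The case of solvable 2-local subgroups. -/
theorem known_of_solvable_locals [IsSimpleGroup G] (hnab : ∃ a b : G, a * b ≠ b * a) (hG : CIT G)
    (hloc : ∀ N : Subgroup G, Cfsg.IsTwoLocal N → Group.IsSolvable N)
    (hSE : ∀ H : Subgroup G, Cfsg.IsStronglyEmbedded H → Known G) : Known G := by
  haveI : Fact (Nat.Prime 2) := ⟨Nat.prime_two⟩
  have hns : ¬ Group.IsSolvable G := fun h => by
    obtain ⟨a, b, hab⟩ := hnab
    haveI := h
    exact hab ((IsSimpleGroup.comm_iff_isSolvable (G := G)).2 h a b)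
  have heven : Even (Nat.card G) := by
    by_contra h
    exact hns (Cfsg.Agent.S0205.result (Nat.not_even_iff_odd.1 h))
  have hchar : Cfsg.IsCharacteristicTwoType G := by
    refine ⟨heven, fun T hT hne => ?_⟩
    intro c hc
    have h1 : (c : G) ∈ O2 (Subgroup.normalizer (T : Set G)) := by
      refine hG.centralizer_O2_le (O2_normalizer_ne_bot hT hne) ⟨Subgroup.mem_centralizer_iff.2 ?_, c.2⟩
      rintro _ ⟨d, hd, rfl⟩
      exact congrArg Subtype.val (Subgroup.mem_centralizer_iff.1 hc d hd)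
    obtain ⟨d, hd, e⟩ := h1
    exact (Subtype.ext e : d = c) ▸ hd
  have hO : Cfsg.pCore 2 G = ⊥ := by
    refine (Cfsg.pCore_normal 2 G).eq_bot_or_eq_top.resolve_right fun h => hns ?_
    have hp : IsPGroup 2 ↥(⊤ : Subgroup G) := h ▸ Base.isPGroup_pCore 2 G
    haveI := (hp.of_equiv Subgroup.topEquiv).isNilpotent
    infer_instance
  have hZ : ∀ S : Sylow 2 G,
      Subgroup.centralizer {z : G | z ∈ (S : Subgroup G) ∧ z ^ 2 = 1 ∧ ∀ s ∈ (S : Subgroup G), s * z = z * s} ≤
        Subgroup.normalizer ((S : Subgroup G) : Set G) := by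
    intro S c hc
    have hSne : (S : Subgroup G) ≠ ⊥ := S.ne_bot_of_dvd_card (even_iff_two_dvd.1 heven)
    haveI : Nontrivial (S : Subgroup G) := (Subgroup.nontrivial_iff_ne_bot _).2 hSne
    obtain ⟨z₀, hz₀, hz₀o⟩ := exists_involution (S.isPGroup'.to_subgroup _)
      ((Subgroup.nontrivial_iff_ne_bot _).1 S.isPGroup'.center_nontrivial)
    have hzc : ∀ s ∈ (S : Subgroup G), s * (z₀ : G) = z₀ * s := fun s hs =>
      congrArg Subtype.val (Subgroup.mem_center_iff.1 hz₀ ⟨s, hs⟩)
    have hle : (S : Subgroup G) ≤ Subgroup.centralizer ({(z₀ : G)} : Set G) := fun s hs =>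
      Subgroup.mem_centralizer_singleton_iff.2 (hzc s hs)
    have heq := S.is_maximal' (hG.isPGroup_centralizer (s := {(z₀ : G)})
      (by rw [Subgroup.orderOf_coe]; exact hz₀o) (Set.mem_singleton _)) hle
    refine Subgroup.le_normalizer (heq ▸ Subgroup.mem_centralizer_singleton_iff.2 ?_)
    refine (Subgroup.mem_centralizer_iff.1 hc _ ⟨z₀.2, ?_, hzc⟩).symm
    rw [pow_two]
    exact sq_eq_one_of_orderOf (by rw [Subgroup.orderOf_coe]; exact hz₀o)
  set H := Subgroup.closure {g : G | Odd (orderOf g)} with hH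
  have hHtop : H = ⊤ := by
    have hn : H.Normal := by
      have e : Group.conjugatesOfSet {g : G | Odd (orderOf g)} = {g : G | Odd (orderOf g)} := by
        refine Set.Subset.antisymm (fun x hx => ?_) Group.subset_conjugatesOfSet
        obtain ⟨t, ht, hconj⟩ := Group.mem_conjugatesOfSet_iff.1 hx
        obtain ⟨c, rfl⟩ := isConj_iff.1 hconj
        show Odd (orderOf (c * t * c⁻¹))
        rw [← MulAut.conj_apply, MulEquiv.orderOf_eq]
        exact ht
      have := Subgroup.normalClosure_normal (s := {g : G | Odd (orderOf g)})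
      rwa [Subgroup.normalClosure, e] at this
    refine hn.eq_bot_or_eq_top.resolve_left fun h => hns ?_
    have hp : IsPGroup 2 G := by
      intro g
      obtain ⟨k, m, hm, hk⟩ := Nat.exists_eq_two_pow_mul_odd (orderOf_pos g).ne'
      refine ⟨k, Subgroup.mem_bot.1 (h ▸ Subgroup.subset_closure ?_)⟩
      show Odd (orderOf (g ^ 2 ^ k))
      exact hm.of_dvd_nat (orderOf_dvd_of_pow_eq_one (by rw [← pow_mul, ← hk, pow_orderOf_eq_one]))
    haveI := hp.isNilpotent
    infer_instance
  rcases Cfsg.Agent.S0518.result hchar hO hloc hZ H rfl with ⟨K, hK⟩ | ⟨M₁, M₂, hne, h1, h2, ⟨φ₁⟩, ⟨φ₂⟩, h8⟩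
  · exact hSE K hK
  · have hm1 := maximalTwoLocal_map hHtop h1
    let e1 := (M₁.equivMapOfInjective _ H.subtype_injective).symm.trans φ₁
    let e2 := (M₂.equivMapOfInjective _ H.subtype_injective).symm.trans φ₂
    obtain ⟨F, iF, jF, hodd, ⟨e⟩⟩ := isPSLTwoOdd_of_smallFour hnab hG (smallFour_of_s4 hm1 e1)
    refine Or.inr (Or.inl ⟨⟨F, iF, jF, ?_, ⟨e⟩⟩, M₁.map H.subtype, M₂.map H.subtype,
      fun h => hne (Subgroup.map_injective H.subtype_injective h), ⟨e1⟩, ⟨e2⟩, ?_⟩)
    · exact card_of_psl_odd hG hodd e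
    · rw [← Subgroup.map_inf _ _ _ H.subtype_injective,
        Subgroup.card_map_of_injective H.subtype_injective, h8]

end CfsgLib.Recog.CIT
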