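import Cfsg.Agent.Lib.Recog.CIT.Top
import Cfsg.Agent.Lib.Recog.CIT.NoSection
import Cfsg.Agent.Lib.Recog.CIT.SEKnown
import Cfsg.Agent.Lib.Recog.CIT.SolvableLocals
import Cfsg.Agent.Lib.Recog.CIT.LocalL2Pair
import Cfsg.Agent.Lib.Recog.CIT.LocalSuzuki
import Cfsg.Agent.Lib.Recog.CIT.PairPlane

/-!
Simple groups in which every involution centraliser is a 2-group (Suzuki).
-/

set_option autoImplicit false
set_option linter.dupNamespace false

namespace CfsgLib.Recog.CIT

open EPPOTwo (O2)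

universe u

theorem isSolvable_mono {G : Type*} [Group G] {K M : Subgroup G} (hle : K ≤ M)
    (h : Group.IsSolvable M) : Group.IsSolvable K :=
  haveI := h
  Group.isSolvable_of_isSolvable_injective (Subgroup.inclusion_injective hle)

theorem known_aux : ∀ (n : ℕ) (G : Type u) [Group G] [Finite G], Nat.card G = n →
    IsSimpleGroup G → (∃ a b : G, a * b ≠ b * a) → CIT G → Known G := by
  intro n
  induction n using Nat.strong_induction_on with
  | _ n ih =>
  intro G _ _ hn hs hnab hG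
  haveI := hs
  have hc : Ctx G := ⟨hs, hnab, hG, fun X _ _ hXs hXn hX hlt =>
    ih _ (hn ▸ hlt) X rfl hXs hXn hX⟩
  by_cases hloc : ∀ N : Subgroup G, Cfsg.IsTwoLocal N → Group.IsSolvable N
  · exact known_of_solvable_locals hnab hG hloc fun H hH => known_of_se hnab hG H hH
  push Not at hloc
  obtain ⟨N, ⟨T, hT, hTne, rfl⟩, hNns⟩ := hloc
  obtain ⟨M, hNM, hM⟩ := exists_loc (O2_normalizer_ne_bot hT hTne)
  have hMns : ¬ Group.IsSolvable M := fun h => hNns (isSolvable_mono hNM h)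
  have hSE : ∀ H : Subgroup G, Cfsg.IsStronglyEmbedded H → Group.IsSolvable H :=
    fun H hH => isSolvable_of_se hG hnab H hH
  have htop : ∀ K : Subgroup G, Loc K → ¬ Group.IsSolvable K →
      ∃ (X : Type u) (_ : Group X) (_ : Finite X) (π : K →* X) (S D : Subgroup X) (q : ℕ),
        Top K X π S D q := fun K hK hKns =>
    exists_top' hc (fun π hcit hsurj hker hne X => not_oddType_section hcit π hsurj hker hne X)
      hK hKns
  by_cases hl : ∃ (K : Subgroup G) (X : Type u) (_ : Group X) (_ : Finite X) (π : K →* X)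
      (S D : Subgroup X) (q : ℕ), Top K X π S D q ∧ IsL2Two X
  · obtain ⟨K, X, _, _, π, S, D, q, ht, hX⟩ := hl
    obtain ⟨M', N', Q, A, T', hP⟩ := exists_pair hc hSE htop ht hX
    exact Or.inr (Or.inr (isL34_of_pair hc hP))
  refine (false_of_suzuki_locals hc hSE (fun K hK hKns => ?_) ⟨M, hM, hMns⟩).elim
  obtain ⟨X, iX, iF, π, S, D, q, ht⟩ := htop K hK hKns
  refine ⟨X, iX, iF, π, S, D, q, ht, ?_⟩
  rcases ht.kind with hk | hk
  · exact absurd ⟨K, X, iX, iF, π, S, D, q, ht, hk⟩ hl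
  · exact (exists_n ht.data hk).2.2

/-- The classification of simple groups in which every involution centraliser is a 2-group. -/
theorem known_of_cit {G : Type u} [Group G] [Finite G] [IsSimpleGroup G]
    (hnab : ∃ a b : G, a * b ≠ b * a) (hG : CIT G) : Known G :=
  known_aux _ G rfl inferInstance hnab hG

/-- The list form of the classification. -/
theorem list_of_cit {G : Type u} [Group G] [Finite G] [IsSimpleGroup G]
    (hnab : ∃ a b : G, a * b ≠ b * a) (hG : CIT G) :
    (∃ (F : Type) (_ : Field F) (_ : Fintype F),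
        (Fintype.card F = 9 ∨ (∃ n : ℕ, Fintype.card F = 2 ^ n) ∨
          ((Fintype.card F).Prime ∧ ∃ k : ℕ, Fintype.card F = 2 ^ k + 1 ∨ Fintype.card F + 1 = 2 ^ k)) ∧
        Nonempty (G ≃* Matrix.ProjectiveSpecialLinearGroup (Fin 2) F)) ∨
    (∃ (F : Type) (_ : Field F) (_ : Fintype F), Fintype.card F = 4 ∧
        Nonempty (G ≃* Matrix.ProjectiveSpecialLinearGroup (Fin 3) F)) ∨
    Cfsg.IsSuzuki G := by
  rcases known_of_cit hnab hG with ⟨-, ⟨F, iF, jF, ⟨n, -, hn⟩, he⟩ | hs⟩ |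
    ⟨⟨F, iF, jF, hF, he⟩, -⟩ | h
  · exact Or.inl ⟨F, iF, jF, Or.inr (Or.inl ⟨n, hn⟩), he⟩
  · exact Or.inr (Or.inr hs)
  · exact Or.inl ⟨F, iF, jF, hF.imp_right Or.inr, he⟩
  · exact Or.inr (Or.inl h)

end CfsgLib.Recog.CIT
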