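import Cfsg.Agent.Lib.Recog.CIT.SEMain
import Cfsg.Agent.Lib.Base.MinimalNormal
import Cfsg.Agent.S0205

/-!
A nonsolvable group in which every involution centraliser is a 2-group and which has no normal
2-subgroup has a simple normal subgroup with trivial centraliser.
-/

set_option autoImplicit false
set_option linter.dupNamespace false
set_option linter.unusedSectionVars false
set_option linter.style.haveILetI false

namespace CfsgLib.Recog.CIT

open EPPOTwo (IsTwo isTwo_of_mem exists_involution isPGroup_of_isTwo orderOf_eq_two isTwo_of_sq)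
open Involutions (conj_invol invol_inv invol_mul_self)

universe u

variable {Y : Type u} [Group Y] [Finite Y]

theorem isSolvable_of_normal {K : Type*} [Group K] (N : Subgroup K) [N.Normal]
    (hN : Group.IsSolvable N) (hQ : Group.IsSolvable (K ⧸ N)) : Group.IsSolvable K :=
  (Group.isSolvable_iff_subgroup_quotient N).2 ⟨hN, hQ⟩

theorem isSolvable_of_card_odd {K : Type*} [Group K] [Finite K] (h : Odd (Nat.card K)) :
    Group.IsSolvable K := Cfsg.Agent.S0205.result h

theorem exists_invol_of_nonsolvable (hns : ¬ Group.IsSolvable Y) : ∃ t : Y, orderOf t = 2 := by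
  rcases Nat.even_or_odd (Nat.card Y) with he | ho
  · exact exists_prime_orderOf_dvd_card' 2 (even_iff_two_dvd.1 he)
  · exact absurd (isSolvable_of_card_odd ho) hns

/-- The odd core of such a nonsolvable group is trivial. -/
theorem oddCore_eq_bot (h : CIT Y) (hns : ¬ Group.IsSolvable Y) : Cfsg.oddCore Y = ⊥ := by
  by_contra hne
  apply hns
  set B := Cfsg.oddCore Y with hB
  haveI hBn : B.Normal := Cfsg.pPrimeCore_normal 2 Y
  have hBodd := Base.odd_card_oddCore Y
  obtain ⟨b, hb, hb1⟩ := (Subgroup.bot_or_exists_ne_one B).resolve_left hne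
  set C := Subgroup.centralizer (B : Set Y) with hC
  haveI hCn : C.Normal := inferInstance
  have hCodd : Odd (Nat.card C) := (Involutions.odd_card_iff C).2 fun a ha hao =>
    hb1 (eq_one_of_odd_isTwo (odd_orderOf_of_mem hBodd hb)
      (h.two_element hao (Subgroup.mem_centralizer_iff.1 ha b hb).symm))
  obtain ⟨t, ht⟩ := exists_invol_of_nonsolvable hns
  haveI : C.Normal := hCn
  have hinv : ∀ s : Y, orderOf s = 2 → ∀ x ∈ B, s * x * s⁻¹ = x⁻¹ := fun s hs x hx =>
    h.inv_of_odd hBodd hs (by rw [Subgroup.normalizer_eq_top]; exact Subgroup.mem_top _) hx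
  have hti := invol_inv ht
  -- every conjugate of `t` lies in `C t`
  have hg : ∀ g : Y, g * t * g⁻¹ * t ∈ C := fun g => Subgroup.mem_centralizer_iff.2 fun x hx => by
    have h1 := hinv t ht x hx
    have h2 := hinv _ (conj_invol g ht) x⁻¹ (inv_mem hx)
    rw [inv_inv] at h2
    have h3 : g * t * g⁻¹ * t * x * (g * t * g⁻¹ * t)⁻¹ = x := by
      calc g * t * g⁻¹ * t * x * (g * t * g⁻¹ * t)⁻¹
          = g * t * g⁻¹ * (t * x * t⁻¹) * (g * t * g⁻¹)⁻¹ := by group
        _ = x := by rw [h1, h2]
    exact (mul_inv_eq_iff_eq_mul.1 h3).symm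
  refine isSolvable_of_normal C (isSolvable_of_card_odd hCodd) ?_
  -- the quotient is the image of the centraliser of `t`
  set f := (QuotientGroup.mk' C).comp (Subgroup.centralizer ({t} : Set Y)).subtype with hf
  haveI : Fact (Nat.Prime 2) := ⟨Nat.prime_two⟩
  haveI : Group.IsNilpotent (Subgroup.centralizer ({t} : Set Y)) := (h t ht).isNilpotent
  refine Group.isSolvable_of_surjective (f := f) fun z => ?_
  obtain ⟨g, rfl⟩ := QuotientGroup.mk'_surjective C z
  set c := g * t * g⁻¹ * t with hc
  have hcinv : t * c * t⁻¹ = c⁻¹ := by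
    calc t * c * t⁻¹ = t * g * t * g⁻¹ := by rw [hc]; group
      _ = t⁻¹ * g * t⁻¹ * g⁻¹ := by rw [hti]
      _ = c⁻¹ := by rw [hc]; group
  -- a square root of `c`
  obtain ⟨k, hk⟩ := (odd_orderOf_of_mem hCodd (hg g) : Odd (orderOf c))
  set e := c ^ (k + 1) with he
  have hee : e * e = c := by
    rw [he, ← pow_add, show k + 1 + (k + 1) = orderOf c + 1 by omega, pow_succ, pow_orderOf_eq_one,
      one_mul]
  have hte : t * e * t⁻¹ = e⁻¹ := by rw [he, ← conj_pow, hcinv, inv_pow]
  have hte' : t * e⁻¹ = e * t := by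
    rw [show e⁻¹ = t * e * t⁻¹ from hte.symm]
    calc t * (t * e * t⁻¹) = (t * t) * e * t⁻¹ := by group
      _ = e * t := by rw [invol_mul_self ht, one_mul, hti]
  refine ⟨⟨e⁻¹ * g, Subgroup.mem_centralizer_singleton_iff.2 ?_⟩, ?_⟩
  · have h4 : g * t = c * t * g := by
      rw [hc]
      calc g * t = g * t * g⁻¹ * g := by group
        _ = g * t * g⁻¹ * (t * t) * g := by rw [invol_mul_self ht, mul_one]
        _ = _ := by group
    calc e⁻¹ * g * t = e⁻¹ * (e * e * t * g) := by rw [hee, mul_assoc, h4]
      _ = e * t * g := by group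
      _ = t * e⁻¹ * g := by rw [hte']
      _ = _ := by rw [mul_assoc]
  · show QuotientGroup.mk' C (e⁻¹ * g) = QuotientGroup.mk' C g
    rw [map_mul, show QuotientGroup.mk' C e⁻¹ = 1 from
      (QuotientGroup.eq_one_iff _).2 (inv_mem (he ▸ pow_mem (hg g) _)), one_mul]

/-- A minimal normal subgroup is simple with trivial centraliser. -/
theorem exists_simple_normal (h : CIT Y) (hns : ¬ Group.IsSolvable Y)
    (hcore : Cfsg.pCore 2 Y = ⊥) :
    ∃ E : Subgroup Y, E.Normal ∧ IsSimpleGroup E ∧ (∃ a b : E, a * b ≠ b * a) ∧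
      Subgroup.centralizer (E : Set Y) = ⊥ := by
  have hodd := oddCore_eq_bot h hns
  haveI : Nontrivial Y := not_subsingleton_iff_nontrivial.1 fun hs => hns
    (Group.isSolvable_of_comm fun a b => Subsingleton.elim _ _)
  obtain ⟨E, hE⟩ := Base.exists_isMinimalNormal (G := Y)
  haveI := hE.normal
  have hEns : ¬ Group.IsSolvable E := fun hs => by
    obtain ⟨p, hp, -, -, hP⟩ := hE.exists_prime hs
    haveI := Fact.mk hp
    rcases hp.eq_two_or_odd' with rfl | ho
    · exact hE.ne_bot (le_bot_iff.1 (hcore ▸ Base.le_pCore hP))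
    · obtain ⟨k, hk⟩ := hP.exists_card_eq
      exact hE.ne_bot (le_bot_iff.1 (hodd ▸ Base.le_oddCore (by rw [hk]; exact ho.pow)))
  obtain ⟨t, ht⟩ := exists_invol_of_nonsolvable hEns
  have hto : orderOf (t : Y) = 2 := by rwa [Subgroup.orderOf_coe]
  -- an element of odd order
  obtain ⟨x, hxE, hxo, hx1⟩ : ∃ x ∈ E, Odd (orderOf x) ∧ x ≠ 1 := by
    by_contra hno
    push Not at hno
    refine hE.ne_bot (le_bot_iff.1 (hcore ▸ Base.le_pCore (isPGroup_of_isTwo fun a ha => ?_)))
    obtain ⟨k, m, hm, hk⟩ := Nat.exists_eq_two_pow_mul_odd (orderOf_pos a).ne'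
    refine ⟨k, hno _ (pow_mem ha _) (hm.of_dvd_nat (orderOf_dvd_of_pow_eq_one ?_))⟩
    rw [← pow_mul, ← hk, pow_orderOf_eq_one]
  have hcent : Subgroup.centralizer (E : Set Y) = ⊥ := by
    haveI : (Subgroup.centralizer (E : Set Y)).Normal := inferInstance
    refine le_bot_iff.1 (hodd ▸ Base.le_oddCore ((Involutions.odd_card_iff _).2 fun a ha hao => ?_))
    exact hx1 (eq_one_of_odd_isTwo hxo
      (h.two_element hao (Subgroup.mem_centralizer_iff.1 ha x hxE).symm))
  refine ⟨E, hE.normal, ?_, ?_, hcent⟩
  · haveI : Nontrivial E := (Subgroup.nontrivial_iff_ne_bot _).2 hE.ne_bot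
    refine ⟨fun N hN => ?_⟩
    by_contra hNN
    push Not at hNN
    obtain ⟨K, hKN, hK⟩ := Base.exists_isMinimalNormal_le (N := N) hNN.1
    haveI := hK.normal
    -- a conjugate of `K` inside `E`
    let K' : Y → Subgroup E := fun g => K.map (MulAut.conjNormal g : MulAut E).toMonoidHom
    have hK'min : ∀ g, Base.IsMinimalNormal (K' g) := fun g => by
      refine ⟨hK.normal.map _ (MulEquiv.surjective _), fun e => hK.ne_bot
        ((Subgroup.map_eq_bot_iff_of_injective _ (MulEquiv.injective _)).1 e), fun L hL hLK => ?_⟩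
      rcases hK.eq_bot_or_eq (hL.comap (MulAut.conjNormal g : MulAut E).toMonoidHom)
        ((Subgroup.comap_mono hLK).trans
          (Subgroup.comap_map_eq_self_of_injective (MulEquiv.injective _) K).le) with h0 | h1
      · left
        rw [← Subgroup.map_comap_eq_self_of_surjective
          (f := (MulAut.conjNormal g : MulAut E).toMonoidHom) (MulEquiv.surjective _) L, h0,
          Subgroup.map_bot]
      · right
        rw [← Subgroup.map_comap_eq_self_of_surjective
          (f := (MulAut.conjNormal g : MulAut E).toMonoidHom) (MulEquiv.surjective _) L, h1]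
    by_cases hall : ∀ g, K' g = K
    · -- then `K` is normal in the whole group
      haveI hKY : (K.map E.subtype).Normal := ⟨by
        rintro _ ⟨a, ha, rfl⟩ g
        have h1 : (MulAut.conjNormal g : MulAut E) a ∈ K := by
          rw [← hall g]; exact Subgroup.mem_map_of_mem _ ha
        exact ⟨_, h1, MulAut.conjNormal_apply g a⟩⟩
      rcases hE.eq_bot_or_eq hKY (Subgroup.map_subtype_le K) with h0 | h1
      · exact hK.ne_bot ((Subgroup.map_eq_bot_iff_of_injective _ E.subtype_injective).1 h0)
      · apply hNN.2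
        refine top_le_iff.1 ((le_of_eq ?_).trans hKN)
        apply Subgroup.map_injective E.subtype_injective
        rw [h1, ← MonoidHom.range_eq_map, Subgroup.range_subtype]
    push Not at hall
    -- all members commute with another one, so have odd order
    have hne : ∀ g, ∃ g', K' g' ≠ K' g := fun g => by
      obtain ⟨g', hg'⟩ := hall
      by_contra hno
      push Not at hno
      refine hg' ((hno g').trans (hno 1).symm |>.trans ?_)
      show K.map (MulAut.conjNormal (1 : Y) : MulAut E).toMonoidHom = K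
      rw [map_one]
      exact Subgroup.map_id K
    have hoddK : ∀ g, Odd (Nat.card (K' g)) := fun g => (Involutions.odd_card_iff _).2 fun a ha hao => by
      obtain ⟨g', hg'⟩ := hne g
      -- `K' g'` is then a 2-group
      have h2 : IsPGroup 2 (K' g') := isPGroup_of_isTwo fun b hb => by
        have hc : Commute a b := Subgroup.mem_centralizer_iff.1
          ((hK'min g').le_centralizer_of_ne (hK'min g) hg' hb) a ha
        obtain ⟨k, hk⟩ := h.two_element (t := (a : Y)) (y := (b : Y))
          (by rwa [Subgroup.orderOf_coe]) (congrArg Subtype.val hc)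
        exact ⟨k, Subtype.ext hk⟩
      haveI := (hK'min g').normal
      have h3 : K' g' ≤ Cfsg.pCore 2 E := Base.le_pCore h2
      haveI : ((Cfsg.pCore 2 E).map E.subtype).Normal := ⟨by
        rintro _ ⟨a, ha, rfl⟩ y
        refine ⟨(MulAut.conjNormal y : MulAut E) a, ?_, MulAut.conjNormal_apply y a⟩
        rw [← Base.map_pCore_mulEquiv (p := 2) (MulAut.conjNormal y : MulAut E)]
        exact Subgroup.mem_map_of_mem _ ha⟩
      have h4 : (Cfsg.pCore 2 E).map E.subtype = ⊥ :=
        le_bot_iff.1 (hcore ▸ Base.le_pCore ((Base.isPGroup_pCore 2 E).map _))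
      rw [(Subgroup.map_eq_bot_iff_of_injective _ E.subtype_injective).1 h4] at h3
      exact (hK'min g').ne_bot (le_bot_iff.1 h3)
    -- and so all lie in the odd core of `E`
    haveI hOn : ((Cfsg.oddCore E).map E.subtype).Normal := ⟨by
      rintro _ ⟨a, ha, rfl⟩ y
      refine ⟨(MulAut.conjNormal y : MulAut E) a, ?_, MulAut.conjNormal_apply y a⟩
      rw [Cfsg.oddCore, ← Base.map_pPrimeCore_mulEquiv (p := 2) (MulAut.conjNormal y : MulAut E)]
      exact Subgroup.mem_map_of_mem _ ha⟩
    haveI := (hK'min 1).normal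
    have h5 : K' 1 ≤ Cfsg.oddCore E := Base.le_oddCore (hoddK 1)
    have h6 : (Cfsg.oddCore E).map E.subtype = ⊥ := le_bot_iff.1 (hodd ▸ Base.le_oddCore (by
      rw [Subgroup.card_map_of_injective E.subtype_injective]; exact Base.odd_card_oddCore E))
    rw [(Subgroup.map_eq_bot_iff_of_injective _ E.subtype_injective).1 h6] at h5
    exact (hK'min 1).ne_bot (le_bot_iff.1 h5)
  · by_contra hc
    push Not at hc
    exact hEns (Group.isSolvable_of_comm hc)

end CfsgLib.Recog.CIT
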