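import Cfsg.Agent.Lib.Recog.CIT.Defs
import Cfsg.Agent.Lib.Involutions.StrongEmbCosets
import Cfsg.Agent.Lib.CNGroups.Structure
import Cfsg.Agent.S0204
import Cfsg.Agent.S0346

/-!
Simple groups with nilpotent centralisers: every involution centraliser is a 2-group.

Otherwise a maximal nilpotent subgroup `M` of even order is a trivial intersection Hall subgroup, its
normaliser `H` is strongly embedded and `G` acts on the cosets of `H` as a Zassenhaus group with
regular kernel `M`, so `|M|` is a prime power.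
-/

set_option autoImplicit false
set_option linter.style.haveILetI false
set_option linter.unusedSectionVars false

namespace CfsgLib.Recog.CIT

open Subgroup CfsgLib.Involutions
open CfsgLib.CNGroups (MaxNil exists_maxNil_le exists_central_primePow)

universe u

variable {G : Type u} [Group G]

/-- An element of a group in which `M` is normal of coprime index lies in `M` when its order
divides a power of the order of `M`. -/
theorem mem_of_coprime_relIndex {M H : Subgroup G} (hn : H ≤ normalizer (M : Set G))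
    [Finite G] {g : G} (hg : g ∈ H) (hco : (orderOf g).Coprime (M.relIndex H)) :
    g ∈ M := by
  haveI : (M.subgroupOf H).Normal := normal_subgroupOf_of_le_normalizer hn
  have h1 : (QuotientGroup.mk' (M.subgroupOf H) ⟨g, hg⟩) = 1 := by
    rw [← orderOf_eq_one_iff]
    refine Nat.eq_one_of_dvd_coprimes hco ?_ ?_
    · have h2 := orderOf_map_dvd (QuotientGroup.mk' (M.subgroupOf H)) ⟨g, hg⟩
      rwa [Subgroup.orderOf_mk] at h2
    · exact orderOf_dvd_natCard _
  exact mem_subgroupOf.1 ((QuotientGroup.eq_one_iff (⟨g, hg⟩ : H)).1 h1)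

/-- The configuration to be excluded. -/
structure NilHall (G : Type u) [Group G] (M : Subgroup G) : Prop where
  coprime : (Nat.card M).Coprime M.index
  ti : ∀ g : G, M.map (MulAut.conj g).toMonoidHom ≠ M →
    M ⊓ M.map (MulAut.conj g).toMonoidHom = ⊥
  cent : ∀ x ∈ M, x ≠ 1 → centralizer ({x} : Set G) ≤ M
  central : ∃ z ∈ M, orderOf z = 2 ∧ ∀ y ∈ M, Commute z y
  ne_top : normalizer (M : Set G) ≠ ⊤

namespace NilHall

variable [Finite G] {M : Subgroup G} (h : NilHall G M)
include h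

/-- The normaliser. -/
theorem mem_of_order {g : G} (hg : g ∈ normalizer (M : Set G))
    (hd : orderOf g ∣ Nat.card M) : g ∈ M := by
  refine mem_of_coprime_relIndex le_rfl hg ?_
  exact Nat.Coprime.coprime_dvd_left hd (Nat.Coprime.coprime_dvd_right
    (Subgroup.relIndex_dvd_index_of_le le_normalizer) h.coprime)

theorem two_dvd : 2 ∣ Nat.card M := by
  obtain ⟨z, hz, hzo, -⟩ := h.central
  exact hzo ▸ Subgroup.orderOf_dvd_natCard M hz

theorem invol_mem {t : G} (ht : t ∈ normalizer (M : Set G)) (hto : orderOf t = 2) : t ∈ M :=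
  h.mem_of_order ht (by rw [hto]; exact h.two_dvd)

theorem eq_one_of_conj {g d : G} (hg : g ∉ normalizer (M : Set G)) (hd : d ∈ M)
    (hc : g⁻¹ * d * g ∈ normalizer (M : Set G)) : d = 1 := by
  have hdd : g⁻¹ * d * g ∈ M := h.mem_of_order hc (by
    have := orderOf_conj_eq g⁻¹ d
    rw [inv_inv] at this
    rw [this]
    exact Subgroup.orderOf_dvd_natCard M hd)
  have hne : M.map (MulAut.conj g).toMonoidHom ≠ M := fun e => hg (by
    refine mem_normalizer_fintype fun v hv => ?_
    have := map_conj_mem (g := g) (show v ∈ M from hv)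
    rwa [e] at this)
  have hmem : d ∈ M ⊓ M.map (MulAut.conj g).toMonoidHom := ⟨hd, mem_conj_map.2 hdd⟩
  rw [h.ti g hne] at hmem
  exact mem_bot.1 hmem

theorem stronglyEmbedded : Cfsg.IsStronglyEmbedded (normalizer (M : Set G)) := by
  refine ⟨h.ne_top, ?_, fun g hg => ?_⟩
  · obtain ⟨z, hz, hzo, -⟩ := h.central
    exact (even_card_iff _).2 ⟨z, le_normalizer hz, hzo⟩
  · rw [odd_card_iff]
    rintro t ⟨htH, htg⟩ hto
    have := h.eq_one_of_conj hg (h.invol_mem htH hto) (mem_conj_map.1 htg)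
    rw [this, orderOf_one] at hto
    norm_num at hto

theorem centralizer_invol {t : G} (ht : t ∈ normalizer (M : Set G)) (hto : orderOf t = 2) :
    centralizer ({t} : Set G) = M := by
  have htM := h.invol_mem ht hto
  refine le_antisymm (h.cent t htM ?_) fun y hy => ?_
  · intro e
    rw [e, orderOf_one] at hto
    norm_num at hto
  · obtain ⟨z, hz, hzo, hzc⟩ := h.central
    obtain ⟨g, hg⟩ := isConj_iff.1 (SE.isConj h.stronglyEmbedded hzo hto)
    have hgH : g ∈ normalizer (M : Set G) :=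
      SE.mem_of_conj h.stronglyEmbedded hzo (le_normalizer hz) (hg ▸ ht)
    have hy' : g⁻¹ * y * g ∈ M := by
      have := (mem_normalizer_iff.1 (inv_mem hgH) y).1 hy
      rwa [inv_inv] at this
    refine mem_centralizer_singleton_iff.2 ?_
    rw [← hg]
    calc y * (g * z * g⁻¹) = g * ((g⁻¹ * y * g) * z) * g⁻¹ := by group
      _ = g * (z * (g⁻¹ * y * g)) * g⁻¹ := by rw [(hzc _ hy').eq]
      _ = _ := by group

/-- As many involutions in the normaliser as cosets of `M` in it. -/
theorem card_invol :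
    Nat.card {t : G // orderOf t = 2 ∧ t ∈ normalizer (M : Set G)} =
      M.relIndex (normalizer (M : Set G)) := by
  classical
  obtain ⟨z, hz, hzo, -⟩ := h.central
  have hzH : z ∈ normalizer (M : Set G) := le_normalizer hz
  have hwd : ∀ a b : ↥(normalizer (M : Set G)),
      (QuotientGroup.mk a : ↥(normalizer (M : Set G)) ⧸ M.subgroupOf _) = QuotientGroup.mk b ↔
        (a : G) * z * (a : G)⁻¹ = (b : G) * z * (b : G)⁻¹ := by
    intro a b
    rw [QuotientGroup.eq, mem_subgroupOf, coe_mul, coe_inv,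
      ← SetLike.ext_iff.1 (h.centralizer_invol hzH hzo), mem_centralizer_singleton_iff]
    constructor <;> intro e
    · calc (a : G) * z * (a : G)⁻¹
          = (a : G) * (z * ((a : G)⁻¹ * b)) * (b : G)⁻¹ := by group
        _ = _ := by rw [← e]; group
    · calc (a : G)⁻¹ * b * z = (a : G)⁻¹ * ((b : G) * z * (b : G)⁻¹) * b := by group
        _ = z * ((a : G)⁻¹ * b) := by rw [← e]; group
  let F : ↥(normalizer (M : Set G)) ⧸ M.subgroupOf (normalizer (M : Set G)) →
      {t : G // orderOf t = 2 ∧ t ∈ normalizer (M : Set G)} := fun c =>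
    ⟨(c.out : G) * z * (c.out : G)⁻¹, Involutions.conj_invol _ hzo,
      mul_mem (mul_mem c.out.2 hzH) (inv_mem c.out.2)⟩
  symm
  rw [Subgroup.relIndex, Subgroup.index_eq_card]
  refine Nat.card_congr (Equiv.ofBijective F ⟨?_, ?_⟩)
  · intro c c' e
    rw [← QuotientGroup.out_eq' c, ← QuotientGroup.out_eq' c']
    exact (hwd _ _).2 (congrArg Subtype.val e)
  · rintro ⟨t, hto, htH⟩
    obtain ⟨g, hg⟩ := isConj_iff.1 (SE.isConj h.stronglyEmbedded hzo hto)
    have hgH : g ∈ normalizer (M : Set G) :=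
      SE.mem_of_conj h.stronglyEmbedded hzo hzH (hg ▸ htH)
    refine ⟨QuotientGroup.mk ⟨g, hgH⟩, Subtype.ext ?_⟩
    show ((QuotientGroup.mk (⟨g, hgH⟩ : ↥(normalizer (M : Set G))) :
      ↥(normalizer (M : Set G)) ⧸ M.subgroupOf _).out : G) * z * _⁻¹ = t
    rw [(hwd _ ⟨g, hgH⟩).1 (QuotientGroup.out_eq' _)]
    exact hg

/-- Two involutions in the normaliser. -/
theorem two_le_card_invol [IsSimpleGroup G] (hnc : ¬ IsCyclic G) :
    2 ≤ Nat.card {t : G // orderOf t = 2 ∧ t ∈ normalizer (M : Set G)} := by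
  obtain ⟨z, hz, hzo, -⟩ := h.central
  obtain ⟨E, hE⟩ := Cfsg.Agent.S0204.result hnc
  haveI := hE
  haveI : Nontrivial E := Finite.one_lt_card_iff_nontrivial.1 (by rw [hE.card_four]; norm_num)
  obtain ⟨e₁, he₁⟩ := exists_ne (1 : E)
  obtain ⟨e₂, he₂, he₂'⟩ : ∃ e : E, e ≠ 1 ∧ e ≠ e₁ := by
    classical
    haveI := Fintype.ofFinite E
    by_contra hall
    push Not at hall
    have hsub : (Finset.univ : Finset E) ⊆ {1, e₁} := fun a _ => by
      by_cases ha : a = 1
      · simp [ha]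
      · simp [hall a ha]
    have := Finset.card_le_card hsub
    rw [Finset.card_univ, ← Nat.card_eq_fintype_card, hE.card_four] at this
    exact absurd (this.trans (Finset.card_insert_le _ _)) (by simp)
  have hexp : ∀ e : E, e * e = 1 := fun e => by
    rw [← pow_two, ← hE.exponent_two]; exact Monoid.pow_exponent_eq_one e
  have ho : ∀ e : E, e ≠ 1 → orderOf (e : G) = 2 := fun e he => by
    rw [Subgroup.orderOf_coe]
    haveI : Fact (Nat.Prime 2) := ⟨Nat.prime_two⟩
    exact orderOf_eq_prime (by rw [pow_two, hexp]) he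
  obtain ⟨g, hg⟩ := isConj_iff.1 (SE.isConj h.stronglyEmbedded (ho e₁ he₁) hzo)
  have hcm : Commute (e₁ : G) e₂ := by
    refine congrArg Subtype.val (?_ : e₁ * e₂ = e₂ * e₁)
    calc e₁ * e₂ = (e₁ * e₂)⁻¹ := eq_inv_of_mul_eq_one_left (hexp _)
      _ = e₂⁻¹ * e₁⁻¹ := mul_inv_rev _ _
      _ = e₂ * e₁ := by
        rw [inv_eq_of_mul_eq_one_right (hexp e₂), inv_eq_of_mul_eq_one_right (hexp e₁)]
  have h3 : g * (e₂ : G) * g⁻¹ ∈ M := by
    rw [← h.centralizer_invol (le_normalizer hz) hzo, mem_centralizer_singleton_iff, ← hg]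
    exact ((hcm.map (MulAut.conj g).toMonoidHom).eq).symm
  haveI : Nontrivial {t : G // orderOf t = 2 ∧ t ∈ normalizer (M : Set G)} :=
    ⟨⟨⟨z, hzo, le_normalizer hz⟩, ⟨_, Involutions.conj_invol g (ho e₂ he₂), le_normalizer h3⟩,
      fun e => he₂' (Subtype.ext (mul_left_cancel (mul_right_cancel
        ((congrArg Subtype.val e).symm.trans hg.symm))))⟩⟩
  exact Finite.one_lt_card

/-- The coset action is a Zassenhaus action with `|M|` points besides the base point. -/
theorem zassenhaus [IsSimpleGroup G] (hnc : ¬ IsCyclic G) :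
    Cfsg.IsZassenhausGroup G (G ⧸ normalizer (M : Set G)) ∧
      Nat.card (G ⧸ normalizer (M : Set G)) = Nat.card M + 1 := by
  classical
  set H : Subgroup G := normalizer (M : Set G) with hH
  have hSE := h.stronglyEmbedded
  have hMH : M ≤ H := le_normalizer
  obtain ⟨k, hk⟩ : ∃ k, Nat.card {t : G // orderOf t = 2 ∧ t ∈ H} = k := ⟨_, rfl⟩
  have hk2 : 2 ≤ k := hk ▸ h.two_le_card_invol hnc
  have hrel : M.relIndex H = k := h.card_invol.symm.trans hk
  set o : G ⧸ H := QuotientGroup.mk 1 with ho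
  have hfixo : ∀ {g : G}, g • o = o ↔ g ∈ H := by
    intro g
    rw [ho, MulAction.Quotient.smul_mk, smul_eq_mul, mul_one, QuotientGroup.eq]
    simp
  obtain ⟨z, hz, hzo, -⟩ := h.central
  -- `M` is semiregular off the base point
  have hsemi : ∀ c : G ⧸ H, c ≠ o → ∀ d ∈ M, d • c = c → d = 1 := by
    intro c hc d hd hdc
    obtain ⟨g, rfl⟩ := QuotientGroup.mk_surjective c
    refine h.eq_one_of_conj (g := g) (fun hg => hc ?_) hd (SE.smul_mk_eq_iff.1 hdc)
    rw [ho, QuotientGroup.eq, mul_one]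
    exact inv_mem hg
  -- the two-point stabilisers
  have hstab : ∀ c : G ⧸ H, c ≠ o → ∃ u : G, orderOf u = 2 ∧ u • o = c ∧ u • c = o ∧
      Nat.card ↥(H ⊓ MulAction.stabilizer G c) = k ∧
      (∀ d ∈ H, d • c = c → u * d * u⁻¹ = d⁻¹) ∧
      (∀ a ∈ H, ∃ d ∈ H, d • c = c ∧ a⁻¹ * d ∈ M) := by
    intro c hc
    set D : Subgroup G := H ⊓ MulAction.stabilizer G c with hD
    have hcarry : Nat.card {i : G // orderOf i = 2 ∧ i • o = c} = k := by
      rw [SE.card_carry hSE hzo (Ne.symm hc) (hfixo.2 (hMH hz)), SE.card_fixing c, hk]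
    have hswap : ∀ u : G, orderOf u = 2 → u • o = c → u • c = o := fun u hu huc => by
      rw [← huc, ← mul_smul, invol_mul_self hu, one_smul]
    -- at most `k`
    let f : D → ↥H ⧸ M.subgroupOf H := fun d => QuotientGroup.mk ⟨d, d.2.1⟩
    have hf : Function.Injective f := by
      intro a b e
      rw [QuotientGroup.eq, mem_subgroupOf] at e
      have := hsemi c hc _ e (D.mul_mem (D.inv_mem a.2) b.2).2
      exact Subtype.ext (inv_mul_eq_one.1 this)
    have hcardq : Nat.card (↥H ⧸ M.subgroupOf H) = k := by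
      rw [← hrel, Subgroup.relIndex, Subgroup.index_eq_card]
    -- at least `k`
    haveI : Nonempty {i : G // orderOf i = 2 ∧ i • o = c} :=
      (Nat.card_pos_iff.1 (by rw [hcarry]; omega)).1
    obtain ⟨⟨u, hu, huc⟩⟩ := ‹Nonempty {i : G // orderOf i = 2 ∧ i • o = c}›
    let φ : {i : G // orderOf i = 2 ∧ i • o = c} → D := fun i =>
      ⟨u * i.1, hfixo.1 (by rw [mul_smul, i.2.2, hswap u hu huc]),
        MulAction.mem_stabilizer_iff.2 (by rw [mul_smul, hswap i.1 i.2.1 i.2.2, huc])⟩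
    have hφ : Function.Injective φ := fun a b e =>
      Subtype.ext (mul_left_cancel (congrArg Subtype.val e))
    have hle := Nat.card_le_card_of_injective f hf
    have hge := Nat.card_le_card_of_injective φ hφ
    have hcardD : Nat.card D = k := by omega
    have hbij : Function.Bijective φ :=
      (Nat.bijective_iff_injective_and_card φ).2 ⟨hφ, by omega⟩
    have hbijf : Function.Bijective f :=
      (Nat.bijective_iff_injective_and_card f).2 ⟨hf, by omega⟩
    refine ⟨u, hu, huc, hswap u hu huc, hcardD, fun d hdH hdc => ?_, fun a ha => ?_⟩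
    · obtain ⟨i, hi⟩ := hbij.2 ⟨d, hdH, hdc⟩
      have hi' : u * i.1 = d := congrArg Subtype.val hi
      rw [← hi', mul_inv_rev, invol_inv hu, invol_inv i.2.1, ← mul_assoc, invol_mul_self hu,
        one_mul]
    · obtain ⟨d, hd⟩ := hbijf.2 (QuotientGroup.mk ⟨a, ha⟩)
      have hd' := QuotientGroup.eq.1 hd.symm
      exact ⟨d, d.2.1, d.2.2, mem_subgroupOf.1 hd'⟩
  -- commutators of the normaliser lie in `M`
  obtain ⟨g₀, -, hg₀⟩ := SetLike.exists_of_lt h.ne_top.lt_top
  have hco : (QuotientGroup.mk g₀ : G ⧸ H) ≠ o := fun e => hg₀ (by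
    have := QuotientGroup.eq.1 e
    simpa using this)
  have hcomm : ∀ a ∈ H, ∀ b ∈ H, a * b * a⁻¹ * b⁻¹ ∈ M := by
    obtain ⟨u, hu, -, -, -, hinv, hdec⟩ := hstab _ hco
    intro a ha b hb
    obtain ⟨d, hd, hdc, had⟩ := hdec a ha
    obtain ⟨e, he, hec, hbe⟩ := hdec b hb
    haveI : (M.subgroupOf H).Normal := normal_subgroupOf_of_le_normalizer le_rfl
    set π := QuotientGroup.mk' (M.subgroupOf H)
    have e1 : π ⟨a, ha⟩ = π ⟨d, hd⟩ := QuotientGroup.eq.2 (mem_subgroupOf.2 had)
    have e2 : π ⟨b, hb⟩ = π ⟨e, he⟩ := QuotientGroup.eq.2 (mem_subgroupOf.2 hbe)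
    have hde : d * e = e * d := by
      have h1 := hinv d hd hdc
      have h2 := hinv e he hec
      have h3 := hinv (d * e) (mul_mem hd he) (by rw [mul_smul, hec, hdc])
      have h4 : u * (d * e) * u⁻¹ = (u * d * u⁻¹) * (u * e * u⁻¹) := by group
      rw [h4, h1, h2, mul_inv_rev] at h3
      have := congrArg (·⁻¹) h3
      simpa using this.symm
    have hde' : π ⟨a, ha⟩ * π ⟨b, hb⟩ = π ⟨b, hb⟩ * π ⟨a, ha⟩ := by
      rw [e1, e2, ← map_mul, ← map_mul]
      exact congrArg π (Subtype.ext hde)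
    have h5 : π (⟨a, ha⟩ * ⟨b, hb⟩ * ⟨a, ha⟩⁻¹ * ⟨b, hb⟩⁻¹) = 1 := by
      rw [map_mul, map_mul, map_mul, hde', map_inv, map_inv]
      simp
    have h6 := mem_subgroupOf.1 ((QuotientGroup.eq_one_iff _).1 h5)
    simpa using h6
  -- no element fixes three points
  have hthree : ∀ d : G, ∀ b c : G ⧸ H, b ≠ o → c ≠ o → b ≠ c → d • o = o → d • b = b →
      d • c = c → d = 1 := by
    intro d b c hb hc' hbc hdo hdb hdc
    have hdH : d ∈ H := hfixo.1 hdo
    obtain ⟨u, hu, huo, hub, -, huinv, -⟩ := hstab b hb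
    obtain ⟨v, hv, hvo, hvc, -, hvinv, -⟩ := hstab c hc'
    have hu1 := huinv d hdH hdb
    have hv1 := hvinv d hdH hdc
    set c' := u • c with hc'def
    have hc'o : c' ≠ o := fun e => hbc (by
      have h1 := congrArg (fun w => u • w) e
      simp only [hc'def, ← mul_smul, invol_mul_self hu, one_smul, huo] at h1
      exact h1.symm)
    have hdc' : d • c' = c' := by
      have h2 : d * u = u * d⁻¹ := by
        calc d * u = (u * d * u⁻¹)⁻¹ * u := by rw [hu1, inv_inv]
          _ = _ := by group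
      rw [hc'def, ← mul_smul, h2, mul_smul, inv_smul_eq_iff.2 hdc.symm]
    obtain ⟨w, hw, hwo, hwc, -, hwinv, -⟩ := hstab c' hc'o
    have hw1 := hwinv d hdH hdc'
    set x := w * u * v with hx
    have hxH : x ∈ H := hfixo.1 (by rw [hx, mul_smul, mul_smul, hvo, ← hc'def, hwc])
    have hxd : x * d * x⁻¹ = d⁻¹ := by
      calc x * d * x⁻¹ = w * (u * (v * d * v⁻¹) * u⁻¹) * w⁻¹ := by rw [hx]; group
        _ = w * (u * d * u⁻¹)⁻¹ * w⁻¹ := by rw [hv1]; group
        _ = w * d * w⁻¹ := by rw [hu1, inv_inv]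
        _ = d⁻¹ := hw1
    have h1 := hcomm x hxH d hdH
    rw [hxd] at h1
    have hdd : d⁻¹ * d⁻¹ = 1 := hsemi b hb _ h1 (by
      have hinvb : d⁻¹ • b = b := inv_smul_eq_iff.2 hdb.symm
      rw [mul_smul, hinvb, hinvb])
    have hd2 : d * d = 1 := by
      have := congrArg (·⁻¹) hdd
      simpa using this
    refine hsemi b hb d ?_ hdb
    refine h.mem_of_order hdH (dvd_trans ?_ h.two_dvd)
    exact orderOf_dvd_of_pow_eq_one (by rw [pow_two, hd2])
  -- counting: `M` is transitive off the base point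
  let Ω' := {c : G ⧸ H // c ≠ o}
  haveI : Fintype (G ⧸ H) := Fintype.ofFinite _
  have hΩ : Nat.card (G ⧸ H) = Nat.card Ω' + 1 := by
    rw [← Nat.card_congr (Equiv.sumCompl (fun c : G ⧸ H => c ≠ o)), Nat.card_sum]
    congr 1
    rw [Nat.card_eq_one_iff_unique]
    exact ⟨⟨fun a b => Subtype.ext ((not_not.1 a.2).trans (not_not.1 b.2).symm)⟩,
      ⟨⟨o, not_not.2 rfl⟩⟩⟩
  have hmove : ∀ (m : G), m ∈ M → ∀ c : G ⧸ H, c ≠ o → m • c ≠ o := fun m hm c hc e => hc (by
    rw [← inv_smul_smul m c, e, hfixo.2 (inv_mem (hMH hm))])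
  have hlow : Nat.card M ≤ Nat.card Ω' := by
    refine Nat.card_le_card_of_injective
      (fun m : M => (⟨(m : G) • QuotientGroup.mk g₀, hmove m m.2 _ hco⟩ : Ω')) fun a b e => ?_
    have e' : (a : G) • (QuotientGroup.mk g₀ : G ⧸ H) = (b : G) • QuotientGroup.mk g₀ :=
      congrArg Subtype.val e
    have h2 : ((b : G)⁻¹ * a) • (QuotientGroup.mk g₀ : G ⧸ H) = QuotientGroup.mk g₀ := by
      rw [mul_smul, e', inv_smul_smul]
    exact Subtype.ext (inv_mul_eq_one.1
      (hsemi _ hco _ (mul_mem (inv_mem b.2) a.2) h2)).symm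
  have hup : Nat.card Ω' ≤ Nat.card M := by
    haveI : Fintype Ω' := Fintype.ofFinite _
    have hpairs : Nat.card (Σ c : Ω', {d : ↥(H ⊓ MulAction.stabilizer G c.1) // d ≠ 1}) =
        Nat.card Ω' * (k - 1) := by
      rw [Nat.card_sigma]
      have : ∀ c : Ω', Nat.card {d : ↥(H ⊓ MulAction.stabilizer G c.1) // d ≠ 1} = k - 1 := by
        intro c
        obtain ⟨u, -, -, -, hcard, -⟩ := hstab c.1 c.2
        haveI := Fintype.ofFinite ↥(H ⊓ MulAction.stabilizer G c.1)
        rw [Nat.card_eq_fintype_card, Fintype.card_subtype_compl, Fintype.card_subtype_eq,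
          ← Nat.card_eq_fintype_card, hcard]
      simp only [this, Finset.sum_const, Finset.card_univ, smul_eq_mul, Nat.card_eq_fintype_card]
    have hHM : Nat.card {x : H // (x : G) ∉ M} = Nat.card M * (k - 1) := by
      haveI := Fintype.ofFinite H
      have h1 : Nat.card {x : H // (x : G) ∈ M} = Nat.card M :=
        Nat.card_congr (subgroupOfEquivOfLe hMH).toEquiv
      have h2 := (M.subgroupOf H).card_mul_index
      rw [Nat.card_congr (subgroupOfEquivOfLe hMH).toEquiv] at h2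
      rw [Nat.card_eq_fintype_card, Fintype.card_subtype_compl, ← Nat.card_eq_fintype_card,
        ← Nat.card_eq_fintype_card, h1, ← h2, ← Subgroup.relIndex, hrel, Nat.mul_sub, mul_one]
    have hinj := Nat.card_le_card_of_injective
      (fun p : Σ c : Ω', {d : ↥(H ⊓ MulAction.stabilizer G c.1) // d ≠ 1} =>
        (⟨⟨p.2.1.1, p.2.1.2.1⟩, fun hm => p.2.2 (Subtype.ext (hsemi p.1.1 p.1.2 _ hm p.2.1.2.2))⟩ :
          {x : H // (x : G) ∉ M})) (by
      rintro ⟨c, d, hd⟩ ⟨c', d', hd'⟩ e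
      have e' : (d : G) = d' := congrArg (fun w : {x : H // (x : G) ∉ M} => ((w : H) : G)) e
      have hcc : c = c' := by
        by_contra hne
        refine hd (Subtype.ext ?_)
        exact hthree d c.1 c'.1 c.2 c'.2 (fun e'' => hne (Subtype.ext e'')) (hfixo.2 d.2.1) d.2.2
          (e' ▸ d'.2.2)
      subst hcc
      obtain rfl : d = d' := Subtype.ext e'
      rfl)
    rw [hpairs, hHM] at hinj
    exact Nat.le_of_mul_le_mul_right hinj (by omega)
  have hcardΩ : Nat.card Ω' = Nat.card M := le_antisymm hup hlow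
  have hHtr : ∀ b c : G ⧸ H, b ≠ o → c ≠ o → ∃ g ∈ H, g • b = c := by
    intro b c hb hc
    let ψ : M → Ω' := fun m => ⟨(m : G) • b, hmove m m.2 b hb⟩
    have hψ : Function.Injective ψ := fun a a' e => by
      have e' : (a : G) • b = (a' : G) • b := congrArg Subtype.val e
      have h2 : ((a' : G)⁻¹ * a) • b = b := by rw [mul_smul, e', inv_smul_smul]
      exact Subtype.ext (inv_mul_eq_one.1
        (hsemi _ hb _ (mul_mem (inv_mem a'.2) a.2) h2)).symm
    obtain ⟨m, hm⟩ := ((Nat.bijective_iff_injective_and_card ψ).2 ⟨hψ, hcardΩ.symm⟩).2 ⟨c, hc⟩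
    exact ⟨m, hMH m.2, congrArg Subtype.val hm⟩
  have htrans : ∀ a : G ⧸ H, ∃ g : G, g • o = a := fun a =>
    ⟨a.out, by rw [ho, MulAction.Quotient.smul_mk, smul_eq_mul, mul_one]; exact QuotientGroup.out_eq' a⟩
  refine ⟨⟨?_, ?_, ?_, ?_, ?_⟩, by rw [hΩ, hcardΩ]⟩
  · have hker : (MulAction.toPermHom G (G ⧸ H)).ker = ⊥ := by
      refine (MulAction.toPermHom G (G ⧸ H)).normal_ker.eq_bot_or_eq_top.resolve_right fun e => ?_
      refine hg₀ (hfixo.1 ?_)
      have h1 : MulAction.toPermHom G (G ⧸ H) g₀ = 1 := MonoidHom.mem_ker.1 (e ▸ Subgroup.mem_top g₀)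
      exact Equiv.congr_fun h1 o
    refine ⟨fun {g g'} h => (MonoidHom.ker_eq_bot_iff _).1 hker (Equiv.ext h)⟩
  · rw [MulAction.is_two_pretransitive_iff]
    intro a b c d hab hcd
    obtain ⟨g₁, rfl⟩ := htrans a
    obtain ⟨g₂, rfl⟩ := htrans c
    have hb : g₁⁻¹ • b ≠ o := fun e => hab (by rw [← e, smul_inv_smul])
    have hd : g₂⁻¹ • d ≠ o := fun e => hcd (by rw [← e, smul_inv_smul])
    obtain ⟨x, hx, hxb⟩ := hHtr _ _ hb hd
    refine ⟨g₂ * x * g₁⁻¹, ?_, ?_⟩
    · rw [mul_smul, mul_smul, inv_smul_smul, hfixo.2 hx]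
    · rw [mul_smul, mul_smul, hxb, smul_inv_smul]
  · intro g a b c hab hbc hac hga hgb hgc
    obtain ⟨j, rfl⟩ := htrans a
    have key : ∀ w : G ⧸ H, g • w = w → (j⁻¹ * g * j) • (j⁻¹ • w) = j⁻¹ • w := fun w hw => by
      rw [mul_smul, mul_smul, smul_inv_smul, hw]
    have := hthree (j⁻¹ * g * j) (j⁻¹ • b) (j⁻¹ • c)
      (fun e => hab (by rw [← e, smul_inv_smul]))
      (fun e => hac (by rw [← e, smul_inv_smul]))
      (fun e => hbc (by simpa using e)) (by simpa using key _ hga) (key b hgb) (key c hgc)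
    have h2 := congrArg (fun w => j * w * j⁻¹) this
    simpa [mul_assoc] using h2
  · obtain ⟨u, -, -, -, hcard, -⟩ := hstab _ hco
    haveI : Nontrivial ↥(H ⊓ MulAction.stabilizer G (QuotientGroup.mk g₀ : G ⧸ H)) :=
      Finite.one_lt_card_iff_nontrivial.1 (by omega)
    obtain ⟨d, hd⟩ := exists_ne (1 : ↥(H ⊓ MulAction.stabilizer G (QuotientGroup.mk g₀ : G ⧸ H)))
    exact ⟨d, fun e => hd (Subtype.ext e), o, _, hco.symm, hfixo.2 d.2.1, d.2.2⟩
  · intro N hN hNt
    refine ⟨o, fun e => ?_⟩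
    haveI := hNt
    rcases hN.eq_bot_or_eq_top with rfl | rfl
    · obtain ⟨⟨x, hx⟩, hxo⟩ := hNt.exists_smul_eq o (QuotientGroup.mk g₀)
      rw [Subgroup.mem_bot] at hx
      subst hx
      exact hco (by simpa using hxo.symm)
    · have : (⟨z, Subgroup.mem_top z⟩ : (⊤ : Subgroup G)) ∈
          MulAction.stabilizer (⊤ : Subgroup G) o := hfixo.2 (hMH hz)
      replace this := Subgroup.mem_bot.1 (e.le this)
      rw [show z = 1 from congrArg Subtype.val this, orderOf_one] at hzo
      omega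

end NilHall

/-- In a non-abelian simple CN-group every involution centraliser is a 2-group. -/
theorem cit_of_simple_cn {G : Type u} [Group G] [Finite G] [IsSimpleGroup G]
    (hnab : ∃ a b : G, a * b ≠ b * a) (hCN : Cfsg.IsCNGroup G) : CIT G := by
  intro t ht
  by_contra hP
  haveI : Fact (Nat.Prime 2) := ⟨Nat.prime_two⟩
  obtain ⟨a, b, hab⟩ := hnab
  have ht1 : t ≠ 1 := fun e => by rw [e, orderOf_one] at ht; norm_num at ht
  obtain ⟨M, hCM, hM⟩ := exists_maxNil_le _ (hCN t ht1)
  have htM : t ∈ M := hCM (mem_centralizer_singleton_iff.2 rfl)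
  have h2 : 2 ∣ Nat.card M := ht ▸ Subgroup.orderOf_dvd_natCard M htM
  have hpp : ¬ IsPrimePow (Nat.card M) := by
    intro hpp
    obtain ⟨p, n, hp, hn, he⟩ := (isPrimePow_nat_iff _).1 hpp
    have hp2 : p = 2 := ((Nat.prime_dvd_prime_iff_eq Nat.prime_two hp).1
      (Nat.prime_two.dvd_of_dvd_pow (he ▸ h2))).symm
    subst hp2
    exact hP ((IsPGroup.of_card (n := n) he.symm).to_le hCM)
  have hns : ¬ Group.IsSolvable G := fun hs => hab (IsSimpleGroup.comm_iff_isSolvable.2 hs a b)
  have hnc : ¬ IsCyclic G := fun hc => hab (by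
    obtain ⟨g, hg⟩ := hc.exists_generator
    obtain ⟨i, rfl⟩ := Subgroup.mem_zpowers_iff.1 (hg a)
    obtain ⟨j, rfl⟩ := Subgroup.mem_zpowers_iff.1 (hg b)
    exact ((Commute.refl g).zpow_zpow i j).eq)
  have hdata : NilHall G M := by
    refine ⟨hM.hall hCN, fun g hg => hM.ti hCN hpp hg, ?_, ?_, fun htop => ?_⟩
    · exact fun x hx hx1 => hM.centralizer_le hCN (fun g hg => hM.ti hCN hpp hg) hx hx1
    · obtain ⟨z, hz, -, hzo, hzc⟩ := exists_central_primePow hM.1 h2
      exact ⟨z, hz, hzo, hzc⟩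
    · haveI : M.Normal := normalizer_eq_top_iff.1 htop
      rcases Subgroup.Normal.eq_bot_or_eq_top (H := M) inferInstance with e | e
      · exact ht1 (mem_bot.1 (e ▸ htM))
      · haveI := hM.1
        haveI : Group.IsSolvable M := inferInstance
        subst e
        exact hns (Group.isSolvable_of_surjective (f := (Subgroup.topEquiv (G := G)).toMonoidHom)
          Subgroup.topEquiv.surjective)
  obtain ⟨hZ, hcard⟩ := hdata.zassenhaus hnc
  haveI : Fintype (G ⧸ normalizer (M : Set G)) := Fintype.ofFinite _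
  have hk := Cfsg.Agent.S0346.result hZ
  rw [← Nat.card_eq_fintype_card, hcard, Nat.add_sub_cancel] at hk
  exact hpp hk

end CfsgLib.Recog.CIT
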