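import Cfsg.Agent.Lib.Recog.CIT.SimpleNormal
import Cfsg.Agent.Lib.Recog.CIT.CN
import Cfsg.Agent.Lib.CharsMore.Frobenius
import Cfsg.Agent.Lib.PGroups.Basic

/-!
Nonsolvable groups with nilpotent centralisers: the Fitting subgroup is the largest normal
2-subgroup, elements of odd order act fixed-point-freely on it and every involution centraliser
is a 2-group.
-/

set_option autoImplicit false
set_option linter.style.haveILetI false
set_option linter.unusedSectionVars false

namespace CfsgLib.Recog.CIT.CNReduce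

open Subgroup Cfsg
open EPPOTwo (IsTwo isTwo_of_mem isPGroup_of_isTwo)
open CfsgLib.CNGroups (MaxNil exists_maxNil_le commute_of_coprime quotient_nilpotent
  centralizer_le_fitting exists_sylow_le isCNGroup_subgroup exists_prime_pow_of_mem)
open Involutions (conj_invol invol_inv invol_mul_self)

universe u

variable {G : Type u} [Group G] [Finite G]

theorem commute_of_mem_centralizer {x y z : G} (hCN : IsCNGroup G) (hx : x ≠ 1)
    (hy : Commute y x) (hz : Commute z x) (h : (orderOf y).Coprime (orderOf z)) : Commute y z :=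
  commute_of_coprime (hCN x hx) (mem_centralizer_singleton_iff.2 hy.eq)
    (mem_centralizer_singleton_iff.2 hz.eq) h

theorem fitting_eq_bot_or (N : Subgroup G) [N.Normal] (hs : Group.IsSolvable N) :
    N = ⊥ ∨ fittingSubgroup G ≠ ⊥ := by
  haveI := hs
  rcases eq_or_ne N ⊥ with h | h
  · exact Or.inl h
  right
  intro hF
  haveI : Nontrivial N := (nontrivial_iff_ne_bot N).2 h
  have h1 : ((fittingSubgroup N).map N.subtype) ≤ fittingSubgroup G :=
    Base.le_fittingSubgroup
      (Base.isNilpotent_map N.subtype (Base.isNilpotent_fittingSubgroup N))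
  rw [hF, le_bot_iff, map_eq_bot_iff_of_injective _ N.subtype_injective] at h1
  exact Base.fittingSubgroup_ne_bot h1

/-- A maximal nilpotent subgroup above a nontrivial Fitting subgroup has prime power order. -/
theorem exists_isPGroup_fitting (hCN : IsCNGroup G) (hns : ¬ Group.IsSolvable G)
    (hF : fittingSubgroup G ≠ ⊥) : ∃ p : ℕ, p.Prime ∧ IsPGroup p (fittingSubgroup G) := by
  obtain ⟨H, hFH, hH⟩ := exists_maxNil_le _ (Base.isNilpotent_fittingSubgroup G)
  by_cases hpp : IsPrimePow (Nat.card H)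
  · obtain ⟨p, n, hp, -, he⟩ := (isPrimePow_nat_iff _).1 hpp
    exact ⟨p, hp, (IsPGroup.of_card (n := n) he.symm).to_le hFH⟩
  exfalso
  apply hns
  have hn : ∀ g : G, H.map (MulAut.conj g).toMonoidHom = H := fun g => by
    by_contra hg
    apply hF
    rw [← le_bot_iff, ← hH.ti hCN hpp hg]
    refine le_inf hFH fun x hx => ⟨g⁻¹ * x * g, hFH ?_, by simp [mul_assoc]⟩
    have := (Base.fittingSubgroup_normal' G).conj_mem x hx g⁻¹
    rwa [inv_inv] at this
  haveI : H.Normal := Base.normal_of_map_conj_le fun g => (hn g).le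
  have hne : H ≠ ⊥ := fun e => hF (le_bot_iff.1 (e ▸ hFH))
  haveI := hH.1
  haveI := quotient_nilpotent hCN hH hne
  exact isSolvable_of_normal H inferInstance inferInstance

/-- Elements of order prime to `p` act fixed-point-freely on a Fitting subgroup that is a
`p`-group. -/
theorem fpf_fitting (hCN : IsCNGroup G) {p : ℕ} [Fact p.Prime]
    (hp : IsPGroup p (fittingSubgroup G)) {g x : G} (hg : (orderOf g).Coprime p)
    (hx : x ∈ fittingSubgroup G) (hx1 : x ≠ 1) (hc : Commute g x) : g = 1 := by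
  set F := fittingSubgroup G with hF
  haveI : Nontrivial F := (nontrivial_iff_ne_bot F).2 fun e => hx1 (mem_bot.1 (e ▸ hx))
  have hne : (center F).map F.subtype ≠ ⊥ := fun e =>
    (nontrivial_iff_ne_bot _).1 hp.center_nontrivial
      ((map_eq_bot_iff_of_injective _ F.subtype_injective).1 e)
  have hgF : g ∈ F := by
    refine centralizer_le_fitting hCN hne (mem_centralizer_iff.2 ?_)
    rintro _ ⟨z, hz, rfl⟩
    have hzx : Commute (z : G) x := (congrArg Subtype.val (mem_center_iff.1 hz ⟨x, hx⟩)).symm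
    obtain ⟨k, hk⟩ := IsPGroup.iff_orderOf.1 hp z
    refine ((commute_of_mem_centralizer hCN hx1 hc hzx ?_).eq).symm
    rw [Subgroup.orderOf_coe, hk]
    exact hg.pow_right k
  obtain ⟨k, hk⟩ := IsPGroup.iff_orderOf.1 hp ⟨g, hgF⟩
  rw [Subgroup.orderOf_mk] at hk
  exact orderOf_eq_one_iff.1 (Nat.eq_one_of_dvd_coprimes (hg.pow_right k) dvd_rfl (by rw [← hk]))

/-- A normal subgroup inverted by all involutions, with centraliser of odd order, forces
solvability when an involution centraliser is nilpotent. -/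
theorem isSolvable_of_inverted (B : Subgroup G) [B.Normal]
    (hCodd : Odd (Nat.card (centralizer (B : Set G))))
    (hinv : ∀ s : G, orderOf s = 2 → ∀ x ∈ B, s * x * s⁻¹ = x⁻¹)
    {t : G} (ht : orderOf t = 2) (hnil : Group.IsNilpotent (centralizer ({t} : Set G))) :
    Group.IsSolvable G := by
  set C := centralizer (B : Set G) with hC
  haveI hCn : C.Normal := inferInstance
  have hti := invol_inv ht
  have hg : ∀ g : G, g * t * g⁻¹ * t ∈ C := fun g => mem_centralizer_iff.2 fun x hx => by
    have h1 := hinv t ht x hx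
    have h2 := hinv _ (conj_invol g ht) x⁻¹ (inv_mem hx)
    rw [inv_inv] at h2
    have h3 : g * t * g⁻¹ * t * x * (g * t * g⁻¹ * t)⁻¹ = x := by
      calc g * t * g⁻¹ * t * x * (g * t * g⁻¹ * t)⁻¹
          = g * t * g⁻¹ * (t * x * t⁻¹) * (g * t * g⁻¹)⁻¹ := by group
        _ = x := by rw [h1, h2]
    exact (mul_inv_eq_iff_eq_mul.1 h3).symm
  refine isSolvable_of_normal C (isSolvable_of_card_odd hCodd) ?_
  haveI := hnil
  set f := (QuotientGroup.mk' C).comp (centralizer ({t} : Set G)).subtype with hf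
  refine Group.isSolvable_of_surjective (f := f) fun z => ?_
  obtain ⟨g, rfl⟩ := QuotientGroup.mk'_surjective C z
  set c := g * t * g⁻¹ * t with hc
  have hcinv : t * c * t⁻¹ = c⁻¹ := by
    calc t * c * t⁻¹ = t * g * t * g⁻¹ := by rw [hc]; group
      _ = t⁻¹ * g * t⁻¹ * g⁻¹ := by rw [hti]
      _ = c⁻¹ := by rw [hc]; group
  obtain ⟨k, hk⟩ := (odd_orderOf_of_mem hCodd (hg g) : Odd (orderOf c))
  set e := c ^ (k + 1) with he
  have hee : e * e = c := by
    rw [he, ← pow_add, show k + 1 + (k + 1) = orderOf c + 1 by omega, pow_succ, pow_orderOf_eq_one,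
      one_mul]
  have hte : t * e * t⁻¹ = e⁻¹ := by rw [he, ← conj_pow, hcinv, inv_pow]
  have hte' : t * e⁻¹ = e * t := by
    rw [show e⁻¹ = t * e * t⁻¹ from hte.symm]
    calc t * (t * e * t⁻¹) = (t * t) * e * t⁻¹ := by group
      _ = e * t := by rw [invol_mul_self ht, one_mul, hti]
  refine ⟨⟨e⁻¹ * g, mem_centralizer_singleton_iff.2 ?_⟩, ?_⟩
  · have h4 : g * t = c * t * g := by
      rw [hc]
      calc g * t = g * t * g⁻¹ * g := by group
        _ = g * t * g⁻¹ * (t * t) * g := by rw [invol_mul_self ht, mul_one]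
        _ = _ := by group
    calc e⁻¹ * g * t = e⁻¹ * (e * e * t * g) := by rw [hee, mul_assoc, h4]
      _ = e * t * g := by group
      _ = t * e⁻¹ * g := by rw [hte']
      _ = _ := by rw [mul_assoc]
  · show QuotientGroup.mk' C (e⁻¹ * g) = QuotientGroup.mk' C g
    rw [map_mul, show QuotientGroup.mk' C e⁻¹ = 1 from
      (QuotientGroup.eq_one_iff _).2 (inv_mem (he ▸ pow_mem (hg g) _)), one_mul]

/-- The Fitting subgroup of a nonsolvable CN-group is a 2-group. -/
theorem isPGroup_two_fitting (hCN : IsCNGroup G) (hns : ¬ Group.IsSolvable G) :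
    IsPGroup 2 (fittingSubgroup G) := by
  rcases eq_or_ne (fittingSubgroup G) ⊥ with h | hF
  · rw [h]; exact IsPGroup.of_bot
  obtain ⟨p, hp, hpF⟩ := exists_isPGroup_fitting hCN hns hF
  haveI := Fact.mk hp
  rcases hp.eq_two_or_odd' with rfl | ho
  · exact hpF
  exfalso
  obtain ⟨t, ht⟩ := exists_invol_of_nonsolvable hns
  have ht1 : t ≠ 1 := fun e => by rw [e, orderOf_one] at ht; norm_num at ht
  have hodd : Odd (Nat.card (fittingSubgroup G)) := by
    obtain ⟨k, hk⟩ := hpF.exists_card_eq
    rw [hk]; exact ho.pow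
  refine hns (isSolvable_of_inverted (fittingSubgroup G) ?_ (fun s hs x hx => ?_) ht (hCN t ht1))
  · exact hodd.of_dvd_nat (card_dvd_of_le (centralizer_le_fitting hCN hF))
  · have hfpf : Base.IsFPF (zpowers s) (fittingSubgroup G) := by
      refine ⟨by rw [normalizer_eq_top]; exact le_top, fun y hy hy1 =>
        (eq_bot_iff_forall _).2 fun v hv => ?_⟩
      by_contra hv1
      refine hy1 (fpf_fitting hCN hpF ?_ hv.1 hv1
        (show Commute y v from mem_centralizer_iff.1 hv.2 y rfl))
      refine Nat.Coprime.coprime_dvd_left ?_ ((Nat.coprime_primes Nat.prime_two hp).2 ?_)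
      · obtain ⟨i, rfl⟩ := mem_zpowers_iff.1 hy
        exact (orderOf_dvd_of_mem_zpowers (zpow_mem (mem_zpowers s) i)).trans hs.dvd
      · rintro rfl
        exact absurd ho (by decide)
    exact hfpf.conj_eq_inv (mem_zpowers s) (fun e => by rw [e, orderOf_one] at hs; omega)
      (invol_mul_self hs) hx

theorem fitting_eq_pCore (hCN : IsCNGroup G) (hns : ¬ Group.IsSolvable G) :
    fittingSubgroup G = pCore 2 G := by
  haveI : Fact (Nat.Prime 2) := ⟨Nat.prime_two⟩
  exact le_antisymm (Base.le_pCore (isPGroup_two_fitting hCN hns))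
    (Base.pCore_le_fittingSubgroup 2 G)

/-- Elements of odd order act fixed-point-freely on the largest normal 2-subgroup. -/
theorem fpf_pCore (hCN : IsCNGroup G) (hns : ¬ Group.IsSolvable G) {g n : G} (hg1 : g ≠ 1)
    (hg : Odd (orderOf g)) (hn : n ∈ pCore 2 G) (hgn : g * n * g⁻¹ = n) : n = 1 := by
  haveI : Fact (Nat.Prime 2) := ⟨Nat.prime_two⟩
  by_contra hn1
  refine hg1 (fpf_fitting hCN (isPGroup_two_fitting hCN hns) hg.coprime_two_right
    (Base.pCore_le_fittingSubgroup 2 G hn) hn1 ?_)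
  exact mul_inv_eq_iff_eq_mul.1 hgn

/-- The odd core of a nonsolvable CN-group is trivial. -/
theorem oddCore_eq_bot (hCN : IsCNGroup G) (hns : ¬ Group.IsSolvable G) :
    oddCore G = ⊥ := by
  haveI : Fact (Nat.Prime 2) := ⟨Nat.prime_two⟩
  have hodd := Base.odd_card_oddCore G
  haveI := Cfsg.pPrimeCore_normal 2 G
  haveI : (oddCore G).Normal := this
  haveI := isSolvable_of_card_odd hodd
  by_contra hne
  haveI : Nontrivial (oddCore G) := (nontrivial_iff_ne_bot _).2 hne
  obtain ⟨x, hx, hx1⟩ := (bot_or_exists_ne_one _).resolve_left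
    (Base.fittingSubgroup_ne_bot (G := oddCore G))
  have h1 : ((fittingSubgroup (oddCore G)).map (oddCore G).subtype) ≤ fittingSubgroup G :=
    Base.le_fittingSubgroup
      (Base.isNilpotent_map _ (Base.isNilpotent_fittingSubgroup _))
  exact hx1 (Subtype.ext (eq_one_of_odd_isTwo (odd_orderOf_of_mem hodd x.2)
    (isTwo_of_mem (isPGroup_two_fitting hCN hns) (h1 ⟨x, hx, rfl⟩))))

/-- A minimal normal subgroup of a CN-group with trivial Fitting subgroup is simple. -/
theorem exists_simple_minimal (hCN : IsCNGroup G) [Nontrivial G]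
    (hF : fittingSubgroup G = ⊥) :
    ∃ K : Subgroup G, K.Normal ∧ IsSimpleGroup K ∧ ∃ a b : K, a * b ≠ b * a := by
  obtain ⟨K, hK⟩ := Base.exists_isMinimalNormal (G := G)
  haveI := hK.normal
  have hKns : ¬ Group.IsSolvable K := fun hs =>
    ((fitting_eq_bot_or K hs).elim hK.ne_bot fun h => h hF)
  refine ⟨K, hK.normal, ?_, ?_⟩
  · haveI : Nontrivial K := (nontrivial_iff_ne_bot _).2 hK.ne_bot
    refine ⟨fun N hN => ?_⟩
    by_contra hNN
    push Not at hNN
    obtain ⟨E, hEN, hE⟩ := Base.exists_isMinimalNormal_le (N := N) hNN.1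
    haveI := hE.normal
    have hall : ∀ g : G, E.map (MulAut.conjNormal g : MulAut K).toMonoidHom = E := by
      intro g
      by_contra hg
      set E' := E.map (MulAut.conjNormal g : MulAut K).toMonoidHom with hE'
      have hmin : Base.IsMinimalNormal E' := by
        refine ⟨hE.normal.map _ (MulEquiv.surjective _), fun e => hE.ne_bot
          ((map_eq_bot_iff_of_injective _ (MulEquiv.injective _)).1 e), fun L hL hLK => ?_⟩
        rcases hE.eq_bot_or_eq (hL.comap (MulAut.conjNormal g : MulAut K).toMonoidHom)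
          ((comap_mono hLK).trans
            (comap_map_eq_self_of_injective (MulEquiv.injective _) E).le) with h0 | h1
        · left
          rw [← map_comap_eq_self_of_surjective
            (f := (MulAut.conjNormal g : MulAut K).toMonoidHom) (MulEquiv.surjective _) L, h0,
            Subgroup.map_bot]
        · right
          rw [← map_comap_eq_self_of_surjective
            (f := (MulAut.conjNormal g : MulAut K).toMonoidHom) (MulEquiv.surjective _) L, h1]
      obtain ⟨x, hx, hx1⟩ := (bot_or_exists_ne_one E).resolve_left hE.ne_bot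
      have hle := hmin.le_centralizer_of_ne hE hg
      have hx1' : (x : G) ≠ 1 := fun e => hx1 (Subtype.ext e)
      haveI := hCN _ hx1'
      haveI : Group.IsNilpotent ↥(E'.map K.subtype) :=
        CNGroups.isNilpotent_of_le (K := centralizer ({(x : G)} : Set G)) (by
          rintro _ ⟨y, hy, rfl⟩
          exact mem_centralizer_singleton_iff.2
            (congrArg Subtype.val (mem_centralizer_iff.1 (hle hy) x hx)).symm)
      have hnil : Group.IsNilpotent E :=
        (Group.isNilpotent_congr ((E.equivMapOfInjective _ (MulEquiv.injective _)).trans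
          (E'.equivMapOfInjective _ K.subtype_injective))).2 inferInstance
      have h1 : E ≤ fittingSubgroup K := Base.le_fittingSubgroup hnil
      have h2 : ((fittingSubgroup K).map K.subtype) ≤ fittingSubgroup G :=
        Base.le_fittingSubgroup
          (Base.isNilpotent_map K.subtype (Base.isNilpotent_fittingSubgroup K))
      rw [hF, le_bot_iff, map_eq_bot_iff_of_injective _ K.subtype_injective] at h2
      rw [h2, le_bot_iff] at h1
      exact hE.ne_bot h1
    haveI : (E.map K.subtype).Normal := ⟨by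
      rintro _ ⟨a, ha, rfl⟩ g
      have h1 : (MulAut.conjNormal g : MulAut K) a ∈ E := by
        rw [← hall g]; exact mem_map_of_mem _ ha
      exact ⟨_, h1, MulAut.conjNormal_apply g a⟩⟩
    rcases hK.eq_bot_or_eq this (map_subtype_le E) with h0 | h1
    · exact hE.ne_bot ((map_eq_bot_iff_of_injective _ K.subtype_injective).1 h0)
    · apply hNN.2
      refine top_le_iff.1 ((le_of_eq ?_).trans hEN)
      apply map_injective K.subtype_injective
      rw [h1, ← MonoidHom.range_eq_map, range_subtype]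
  · by_contra hc
    push Not at hc
    exact hKns (Group.isSolvable_of_comm hc)

/-- No element of odd prime order centralises an involution when the Fitting subgroup is
trivial. -/
theorem not_commute_of_fitting_eq_bot (hCN : IsCNGroup G) (hF : fittingSubgroup G = ⊥)
    {t x : G} (ht : orderOf t = 2) (hx : Odd (orderOf x)) (hc : Commute x t) : x = 1 := by
  classical
  haveI : Fact (Nat.Prime 2) := ⟨Nat.prime_two⟩
  by_contra hx1
  have ht1 : t ≠ 1 := fun e => by rw [e, orderOf_one] at ht; norm_num at ht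
  haveI : Nontrivial G := ⟨⟨t, 1, ht1⟩⟩
  obtain ⟨K, hKn, hKs, hKna⟩ := exists_simple_minimal hCN hF
  haveI := hKn
  haveI := hKs
  have hK : CIT K := cit_of_simple_cn hKna (isCNGroup_subgroup hCN K)
  obtain ⟨M, hCM, hM⟩ := exists_maxNil_le _ (hCN t ht1)
  have htM : t ∈ M := hCM (mem_centralizer_singleton_iff.2 rfl)
  have hxM : x ∈ M := hCM (mem_centralizer_singleton_iff.2 hc.eq)
  have hpp : ¬ IsPrimePow (Nat.card M) := by
    intro hpp
    obtain ⟨p, n, hp, hn, he⟩ := (isPrimePow_nat_iff _).1 hpp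
    have hp2 : p = 2 := ((Nat.prime_dvd_prime_iff_eq Nat.prime_two hp).1
      (Nat.prime_two.dvd_of_dvd_pow (he ▸ ht ▸ Subgroup.orderOf_dvd_natCard M htM))).symm
    subst hp2
    exact hx1 (eq_one_of_odd_isTwo hx (isTwo_of_mem (IsPGroup.of_card (n := n) he.symm) hxM))
  obtain ⟨S, hS⟩ := exists_sylow_le hCN hM
    (ht ▸ Subgroup.orderOf_dvd_natCard M htM : 2 ∣ Nat.card M)
  -- an involution of `K` in the Sylow subgroup
  obtain ⟨u, hu⟩ := exists_invol_of_nonsolvable
    (fun hs : Group.IsSolvable K => by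
      obtain ⟨a, b, hab⟩ := hKna
      exact hab (IsSimpleGroup.comm_iff_isSolvable.2 hs a b))
  have huG : orderOf (u : G) = 2 := by rwa [Subgroup.orderOf_coe]
  obtain ⟨g, hg⟩ := CfsgLib.FgsB.exists_conj_mem_sylow (x := (u : G))
    ⟨1, by rw [pow_one, huG]⟩ S
  obtain ⟨v, hv, hvK, hvM⟩ : ∃ v : G, orderOf v = 2 ∧ v ∈ K ∧ v ∈ M :=
    ⟨g⁻¹ * (u : G) * g, by simpa using conj_invol g⁻¹ huG,
      by simpa using hKn.conj_mem _ u.2 g⁻¹, hS hg⟩
  -- `M ⊓ K` consists of 2-elements
  have htwo : ∀ a ∈ M, a ∈ K → IsTwo a := by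
    intro a ha haK
    obtain ⟨k, m, hm, hk⟩ := Nat.exists_eq_two_pow_mul_odd (orderOf_pos a).ne'
    refine ⟨k, ?_⟩
    have hao : Odd (orderOf (a ^ 2 ^ k)) := hm.of_dvd_nat (orderOf_dvd_of_pow_eq_one (by
      rw [← pow_mul, ← hk, pow_orderOf_eq_one]))
    have hcv : Commute (a ^ 2 ^ k) v := commute_of_coprime hM.1 (pow_mem ha _) hvM
      (hv ▸ hao.coprime_two_right)
    have h1 : (⟨a ^ 2 ^ k, pow_mem haK _⟩ : K) = 1 := by
      refine eq_one_of_odd_isTwo (by rwa [Subgroup.orderOf_mk]) ?_
      exact hK.two_element (t := ⟨v, hvK⟩) (by rwa [Subgroup.orderOf_mk])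
        (Subtype.ext hcv.eq.symm)
    exact congrArg Subtype.val h1
  -- a self-normalising trivial intersection subgroup
  set H : Subgroup K := M.subgroupOf K with hH
  have hTI : ∀ g : K, g ∉ H → ∀ h ∈ H, g * h * g⁻¹ ∈ H → h = 1 := by
    intro g hgH h hh hgh
    by_contra hh1
    have hhM : (h : G) ∈ M := mem_subgroupOf.1 hh
    have hghM : (g : G) * h * (g : G)⁻¹ ∈ M := mem_subgroupOf.1 hgh
    have hgN : M.map (MulAut.conj (g : G)).toMonoidHom = M := by
      by_contra hne
      have h1 : (g : G) * h * (g : G)⁻¹ ∈ M ⊓ M.map (MulAut.conj (g : G)).toMonoidHom :=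
        ⟨hghM, h, hhM, rfl⟩
      rw [hM.ti hCN hpp hne, mem_bot, conj_eq_one_iff] at h1
      exact hh1 (Subtype.ext h1)
    -- `g` fixes `x`
    have hgx : (g : G) * x * (g : G)⁻¹ ∈ M := hgN ▸ ⟨x, hxM, rfl⟩
    set c := (g : G) * x * (g : G)⁻¹ * x⁻¹ with hcdef
    have hcM : c ∈ M := mul_mem hgx (inv_mem hxM)
    have hcK : c ∈ K := by
      rw [show c = (g : G) * (x * (g : G)⁻¹ * x⁻¹) by rw [hcdef]; group]
      exact mul_mem g.2 (hKn.conj_mem _ (inv_mem g.2) x)
    obtain ⟨j, hj⟩ := htwo c hcM hcK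
    have hcx : Commute c x := commute_of_coprime hM.1 hcM hxM
      ((hx.coprime_two_right.symm.pow_left j).coprime_dvd_left (orderOf_dvd_of_pow_eq_one hj))
    have hc1 : c = 1 := by
      have h2 : (c * x) ^ orderOf x = 1 := by
        rw [show c * x = (g : G) * x * (g : G)⁻¹ by rw [hcdef]; group, conj_pow, pow_orderOf_eq_one,
          mul_one, mul_inv_cancel]
      rw [hcx.mul_pow, pow_orderOf_eq_one, mul_one] at h2
      refine orderOf_eq_one_iff.1 (Nat.eq_one_of_dvd_coprimes
        (hx.coprime_two_right.symm.pow_left j) (orderOf_dvd_of_pow_eq_one hj)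
        (orderOf_dvd_of_pow_eq_one h2))
    refine hgH (mem_subgroupOf.2 (hM.mem_of_commute hCN hxM hx1
      ((mem_normalizer_iff_map_conj_eq).2 hgN) ?_))
    exact mul_inv_eq_iff_eq_mul.1 (mul_inv_eq_one.1 (hcdef.symm.trans hc1))
  obtain ⟨N, hN, hcompl, -⟩ := CharsMore.exists_frobenius_kernel H hTI
  rcases hN.eq_bot_or_eq_top with rfl | rfl
  · have htop : H = ⊤ := isComplement'_bot_left.1 hcompl
    obtain ⟨a, b, hab⟩ := hKna
    apply hab
    refine IsSimpleGroup.comm_iff_isSolvable.2 ?_ a b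
    haveI : Group.IsNilpotent K := (isPGroup_of_isTwo (Q := (⊤ : Subgroup K)) fun a _ => by
      obtain ⟨k, hk⟩ := htwo a (mem_subgroupOf.1 (htop ▸ mem_top a : a ∈ H)) a.2
      exact ⟨k, Subtype.ext hk⟩).of_equiv Subgroup.topEquiv |>.isNilpotent
    infer_instance
  · have hbot : H = ⊥ := isComplement'_top_left.1 hcompl
    have : (⟨v, hvK⟩ : K) = 1 := mem_bot.1 (hbot ▸ mem_subgroupOf.2 hvM)
    rw [show v = 1 from congrArg Subtype.val this, orderOf_one] at hv
    omega

/-- Every involution centraliser of a nonsolvable CN-group is a 2-group. -/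
theorem cit_of_nonsolvable (hCN : IsCNGroup G) (hns : ¬ Group.IsSolvable G) : CIT G := by
  haveI : Fact (Nat.Prime 2) := ⟨Nat.prime_two⟩
  intro t ht
  have ht1 : t ≠ 1 := fun e => by rw [e, orderOf_one] at ht; norm_num at ht
  refine isPGroup_of_isTwo fun y hy => ?_
  have hyt : Commute y t := mem_centralizer_singleton_iff.1 hy
  obtain ⟨k, m, hm, hk⟩ := Nat.exists_eq_two_pow_mul_odd (orderOf_pos y).ne'
  refine ⟨k, ?_⟩
  set z := y ^ 2 ^ k with hz
  have hzo : Odd (orderOf z) := hm.of_dvd_nat (orderOf_dvd_of_pow_eq_one (by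
    rw [hz, ← pow_mul, ← hk, pow_orderOf_eq_one]))
  have hzt : Commute z t := hyt.pow_left _
  rcases eq_or_ne (fittingSubgroup G) ⊥ with hF | hF
  · exact not_commute_of_fitting_eq_bot hCN hF ht hzo hzt
  have h2F := isPGroup_two_fitting hCN hns
  obtain ⟨S, hS⟩ := (IsPGroup.of_card (p := 2) (n := 1)
    (G := zpowers t) (by rw [Nat.card_zpowers, ht, pow_one])).exists_le_sylow
  have hFS : fittingSubgroup G ≤ (S : Subgroup G) := h2F.le_sylow_of_normal S
  have hne : (fittingSubgroup G).subgroupOf (S : Subgroup G) ≠ ⊥ := fun e => hF (by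
    rw [subgroupOf_eq_bot] at e
    exact le_bot_iff.1 (e le_rfl hFS))
  obtain ⟨c, hc, hc1⟩ := (bot_or_exists_ne_one _).resolve_left
    (PGroups.inf_center_ne_bot S.2 hne)
  have hct : Commute (c : G) t :=
    (congrArg Subtype.val (mem_center_iff.1 hc.2 ⟨t, hS (mem_zpowers t)⟩)).symm
  have hc1' : (c : G) ≠ 1 := fun e => hc1 (Subtype.ext e)
  have hcF : (c : G) ∈ fittingSubgroup G := mem_subgroupOf.1 hc.1
  refine fpf_fitting hCN h2F hzo.coprime_two_right hcF hc1'
    (commute_of_mem_centralizer hCN ht1 hzt hct ?_)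
  obtain ⟨j, hj⟩ := IsPGroup.iff_orderOf.1 S.2 c
  rw [Subgroup.orderOf_coe, hj]
  exact hzo.coprime_two_right.pow_right j

/-- The quotient by the largest normal 2-subgroup. -/
theorem quotient_facts (hCN : IsCNGroup G) (hns : ¬ Group.IsSolvable G) :
    CIT (G ⧸ pCore 2 G) ∧ ¬ Group.IsSolvable (G ⧸ pCore 2 G) ∧
      pCore 2 (G ⧸ pCore 2 G) = ⊥ ∧
      ∃ E : Subgroup (G ⧸ pCore 2 G), E.Normal ∧ IsSimpleGroup E ∧
        (∃ a b : E, a * b ≠ b * a) ∧ centralizer (E : Set (G ⧸ pCore 2 G)) = ⊥ := by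
  haveI : Fact (Nat.Prime 2) := ⟨Nat.prime_two⟩
  have h1 : CIT (G ⧸ pCore 2 G) := (cit_of_nonsolvable hCN hns).of_surjective
    (QuotientGroup.mk' (pCore 2 G)) (QuotientGroup.mk'_surjective _)
    (by rw [QuotientGroup.ker_mk']; exact Base.isPGroup_pCore 2 G)
  have h2 : ¬ Group.IsSolvable (G ⧸ pCore 2 G) := fun h => hns (by
    haveI := (Base.isPGroup_pCore 2 G).isNilpotent
    exact isSolvable_of_normal _ inferInstance h)
  exact ⟨h1, h2, Base.pCore_quotient_pCore 2 G,
    exists_simple_normal h1 h2 (Base.pCore_quotient_pCore 2 G)⟩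

end CfsgLib.Recog.CIT.CNReduce
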