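import Cfsg.Agent.Lib.Recog.CIT.SimpleNormal
import Cfsg.Agent.Lib.Coprime.SchurZassenhaus

/-!
The quotient of a nonsolvable maximal 2-local subgroup by its 2-radical is a simple group with a
strongly embedded subgroup.
-/

set_option autoImplicit false
set_option linter.dupNamespace false
set_option linter.unusedSectionVars false
set_option linter.style.haveILetI false

open scoped Pointwise

namespace CfsgLib.Recog.CIT

open EPPOTwo (IsTwo O2 isTwo_of_mem exists_involution isPGroup_of_isTwo orderOf_eq_two isTwo_of_sq)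
open Involutions (conj_invol invol_inv invol_mul_self)

universe u

variable {Y : Type u} [Group Y] [Finite Y]

theorem eq_one_of_two_odd {X : Type*} [Group X] {g : X} (h1 : IsTwo g) (h2 : Odd (orderOf g)) :
    g = 1 := eq_one_of_odd_isTwo h2 h1

/-- A normal subgroup with strongly embedded data and trivial centraliser is the whole group. -/
theorem eq_top_of_seData (h : CIT Y) (E : Subgroup Y) [hEn : E.Normal] {S D : Subgroup E} {q : ℕ}
    (hd : SEData E S D q) : E = ⊤ := by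
  classical
  haveI : Fact (Nat.Prime 2) := ⟨Nat.prime_two⟩
  set S' := S.map E.subtype with hS'
  set D' := D.map E.subtype with hD'
  set N := Subgroup.normalizer (S' : Set Y) with hN
  have hS'p : IsPGroup 2 S' := hd.isP.map _
  have hD'E : D' ≤ E := Subgroup.map_subtype_le _
  have hcardD' : Nat.card D' = q - 1 := by
    rw [hD', Subgroup.card_map_of_injective E.subtype_injective, hd.card_D]
  obtain ⟨n, hn⟩ := hd.isPow
  have hq := hd.four_le
  have hqodd : Odd (q - 1) := by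
    rcases n with _ | n
    · simp at hn; omega
    · rw [pow_succ] at hn
      exact ⟨2 ^ n - 1, by omega⟩
  have hD'odd : Odd (Nat.card D') := hcardD' ▸ hqodd
  obtain ⟨d₀, hd₀, hd₀1⟩ : ∃ d ∈ D', d ≠ 1 := by
    refine (Subgroup.bot_or_exists_ne_one D').resolve_left fun e => ?_
    rw [e, Subgroup.card_bot] at hcardD'
    omega
  have hD'N : D' ≤ N := (Subgroup.map_mono hd.le_norm).trans (Subgroup.le_normalizer_map _)
  -- membership in `N ⊓ E`
  have hmemN : ∀ a : E, (a : Y) ∈ N → a ∈ Subgroup.normalizer (S : Set E) := fun a ha => by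
    refine Subgroup.mem_normalizer_iff.2 fun b => ?_
    rw [← Subgroup.mem_map_iff_mem E.subtype_injective (K := S),
      ← Subgroup.mem_map_iff_mem E.subtype_injective (K := S) (x := a * b * a⁻¹)]
    exact Subgroup.mem_normalizer_iff.1 ha (b : Y)
  -- the normaliser of the Sylow subgroup supplements `E`
  have hsup : N ⊔ E = ⊤ := by
    obtain ⟨P, hP⟩ := hd.isP.exists_le_sylow
    have hPS : (P : Subgroup E) = S := hd.maxP _ P.isPGroup' hP
    have := Sylow.normalizer_sup_eq_top P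
    rwa [hPS] at this
  -- an involution of `E` inverting `D'`
  obtain ⟨w, hw, hwN, hwinv⟩ := hd.inverter
  have hwY : orderOf (w : Y) = 2 := by rwa [Subgroup.orderOf_coe]
  have hwD : (w : Y) ∈ Subgroup.normalizer (D' : Set Y) := by
    have hww : (w : Y)⁻¹ = w := invol_inv hwY
    have hconj : ∀ x ∈ D', (w : Y) * x * (w : Y)⁻¹ ∈ D' := by
      rintro _ ⟨d, hd', rfl⟩
      exact ⟨d⁻¹, inv_mem hd', by rw [← hwinv d hd']; rfl⟩
    refine Subgroup.mem_normalizer_iff.2 fun x => ⟨fun hx => hconj x hx, fun hx => ?_⟩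
    have := hconj _ hx
    rw [hww] at this
    rwa [show (w : Y) * ((w : Y) * x * w) * w = x by
      calc (w : Y) * ((w : Y) * x * w) * w = ((w : Y) * w) * x * ((w : Y) * w) := by group
        _ = x := by rw [invol_mul_self hwY, one_mul, mul_one]] at this
  -- the normaliser of `D'` in `N` has odd order
  set K₀ := N ⊓ Subgroup.normalizer (D' : Set Y) with hK₀
  have hK₀odd : Odd (Nat.card K₀) := (Involutions.odd_card_iff K₀).2 fun i hi hio => by
    set K := Subgroup.normalizer (D' : Set Y) with hK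
    obtain ⟨P, hP, hPp, hPmax⟩ := exists_pgroup_max (G := K) (P₀ := Subgroup.zpowers ⟨i, hi.2⟩)
      (IsPGroup.of_card (n := 1) (by rw [Nat.card_zpowers, Subgroup.orderOf_mk i hi.2, hio, pow_one]))
    have hiP : (⟨i, hi.2⟩ : K) ∈ P := hP (Subgroup.mem_zpowers _)
    obtain ⟨R, hR, hRp, hRmax⟩ := exists_pgroup_max (G := K) (P₀ := Subgroup.zpowers ⟨w, hwD⟩)
      (IsPGroup.of_card (n := 1) (by rw [Nat.card_zpowers, Subgroup.orderOf_mk (w : Y) hwD, hwY, pow_one]))
    haveI : Nontrivial P := ⟨⟨⟨_, hiP⟩, 1, fun e => by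
      rw [show i = 1 from congrArg (fun x : P => ((x : K) : Y)) e, orderOf_one] at hio; omega⟩⟩
    obtain ⟨z, hz, hzo⟩ := exists_involution (hPp.to_subgroup _)
      ((Subgroup.nontrivial_iff_ne_bot _).1 hPp.center_nontrivial)
    have hzo' : orderOf ((z : K) : Y) = 2 := by rwa [Subgroup.orderOf_coe, Subgroup.orderOf_coe]
    -- every involution of `P` is `z`
    have huniq : ∀ v : K, v ∈ P → orderOf (v : Y) = 2 → (v : Y) = ((z : K) : Y) := fun v hv hvo => by
      set zz := ((z : K) : Y) with hzz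
      have hcomm : Commute (v : Y) zz := congrArg (fun x : P => ((x : K) : Y))
        (Subgroup.mem_center_iff.1 hz ⟨v, hv⟩)
      by_contra hne
      have h1 : (v : Y) * zz ≠ 1 := fun e => hne (by
        rw [← invol_inv hzo']; exact mul_eq_one_iff_eq_inv.1 e)
      have h2 : orderOf ((v : Y) * zz) = 2 := orderOf_eq_two (by
        calc (v : Y) * zz * ((v : Y) * zz) = (v : Y) * (zz * v) * zz := by group
          _ = (v : Y) * (v * zz) * zz := by rw [hcomm.eq]
          _ = ((v : Y) * v) * (zz * zz) := by group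
          _ = 1 := by rw [invol_mul_self hvo, invol_mul_self hzo', one_mul]) h1
      have h3 : (v : Y) * zz * d₀ * ((v : Y) * zz)⁻¹ = d₀ := by
        rw [show (v : Y) * zz * d₀ * ((v : Y) * zz)⁻¹ = (v : Y) * (zz * d₀ * zz⁻¹) * (v : Y)⁻¹ by group,
          h.inv_of_odd hD'odd hzo' (z : K).2 hd₀,
          h.inv_of_odd hD'odd hvo v.2 (inv_mem hd₀), inv_inv]
      exact hd₀1 (eq_one_of_odd_isTwo (odd_orderOf_of_mem hD'odd hd₀)
        (h.two_element h2 (mul_inv_eq_iff_eq_mul.1 h3)))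
    -- `i` is conjugate to `w`, so lies in `E`
    obtain ⟨P₂, hP₂⟩ := hPp.exists_le_sylow
    obtain ⟨R₂, hR₂⟩ := hRp.exists_le_sylow
    have eP : (P₂ : Subgroup K) = P := hPmax _ P₂.isPGroup' hP₂
    have eR : (R₂ : Subgroup K) = R := hRmax _ R₂.isPGroup' hR₂
    obtain ⟨k, hk⟩ := MulAction.exists_smul_eq K R₂ P₂
    have hwP : k * ⟨w, hwD⟩ * k⁻¹ ∈ P := by
      rw [← eP, ← hk, Sylow.coe_subgroup_smul, eR]
      exact ⟨⟨w, hwD⟩, hR (Subgroup.mem_zpowers _), rfl⟩
    have hiE : i ∈ E := by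
      have e1 := huniq _ hiP hio
      have e2 := huniq _ hwP (conj_invol (k : Y) hwY)
      have e3 : i = (k : Y) * w * (k : Y)⁻¹ := e1.trans e2.symm
      rw [e3]
      exact hEn.conj_mem _ w.2 _
    -- impossible inside `E`
    have hiS : (⟨i, hiE⟩ : E) ∈ S := by
      have hP' : IsPGroup 2 (Subgroup.zpowers (⟨i, hiE⟩ : E)) :=
        IsPGroup.of_card (n := 1) (by rw [Nat.card_zpowers, Subgroup.orderOf_mk i hiE, hio, pow_one])
      have := hd.maxP _ (hP'.to_sup_of_normal_right' hd.isP (Subgroup.zpowers_le.2 (hmemN _ hi.1)))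
        le_sup_right
      exact this ▸ (le_sup_left : _ ≤ Subgroup.zpowers (⟨i, hiE⟩ : E) ⊔ S) (Subgroup.mem_zpowers _)
    obtain ⟨d, hdD, hd_eq⟩ := hd₀
    have hdo : Odd (orderOf d) := by
      rw [← Subgroup.orderOf_coe, show ((d : E) : Y) = d₀ from hd_eq]
      exact odd_orderOf_of_mem hD'odd ⟨d, hdD, hd_eq⟩
    have h4 : ((⟨i, hiE⟩ : E) * d * (⟨i, hiE⟩ : E)⁻¹ : E) = d⁻¹ := Subtype.ext (by
      simp only [Subgroup.coe_mul, Subgroup.coe_inv]
      exact h.inv_of_odd hD'odd hio hi.2 ⟨d, hdD, rfl⟩)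
    have h5 : d⁻¹ * d⁻¹ ∈ S := by
      rw [show d⁻¹ * d⁻¹ = ((⟨i, hiE⟩ : E) * d * (⟨i, hiE⟩ : E)⁻¹) * d⁻¹ by rw [h4],
        show ((⟨i, hiE⟩ : E) * d * (⟨i, hiE⟩ : E)⁻¹) * d⁻¹ =
          (⟨i, hiE⟩ : E) * (d * (⟨i, hiE⟩ : E)⁻¹ * d⁻¹) by group]
      exact mul_mem hiS ((Subgroup.mem_normalizer_iff.1 (hd.le_norm hdD) _).1 (inv_mem hiS))
    have h6 : d⁻¹ * d⁻¹ = 1 := eq_one_of_odd_isTwo
      (hdo.of_dvd_nat (by rw [← pow_two]; exact (orderOf_pow_dvd 2).trans (orderOf_inv d).dvd))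
      (isTwo_of_mem hd.isP h5)
    have h7 : d = 1 := eq_one_of_odd_isTwo hdo
      (isTwo_of_sq (by rw [← inv_inj, inv_one, mul_inv_rev]; exact h6))
    exact hd₀1 (by rw [← hd_eq, h7, map_one])
  -- it is semiregular on the involutions of `S'`
  have hle : K₀ ≤ E := by
    obtain ⟨t₀, ht₀, ht₀o⟩ : ∃ t ∈ S, orderOf t = 2 := by
      by_contra hno
      push Not at hno
      haveI : IsEmpty {t : E // t ∈ S ∧ orderOf t = 2} := ⟨fun t => hno _ t.2.1 t.2.2⟩
      have := hd.card_invol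
      rw [Nat.card_of_isEmpty] at this
      omega
    have hto : orderOf (t₀ : Y) = 2 := by rwa [Subgroup.orderOf_coe]
    have hcard : Nat.card K₀ ≤ q - 1 := by
      rw [← hd.card_invol]
      refine Nat.card_le_card_of_injective (fun k : K₀ =>
        (⟨⟨(k : Y) * t₀ * (k : Y)⁻¹, hEn.conj_mem _ t₀.2 _⟩, ?_, ?_⟩ :
          {t : E // t ∈ S ∧ orderOf t = 2})) fun a b hab => ?_
      · have h1 : (k : Y) * t₀ * (k : Y)⁻¹ ∈ S' :=
          (Subgroup.mem_normalizer_iff.1 k.2.1 _).1 (Subgroup.mem_map_of_mem _ ht₀)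
        obtain ⟨s, hs, hse⟩ := h1
        rw [show (⟨(k : Y) * t₀ * (k : Y)⁻¹, hEn.conj_mem _ t₀.2 _⟩ : E) = s from
          Subtype.ext hse.symm]
        exact hs
      · rw [← Subgroup.orderOf_coe]; exact conj_invol (k : Y) hto
      · have h1 : (a : Y) * t₀ * (a : Y)⁻¹ = b * t₀ * (b : Y)⁻¹ :=
          congrArg (fun x : {t : E // t ∈ S ∧ orderOf t = 2} => ((x : E) : Y)) hab
        have h2 : Commute (t₀ : Y) ((a : Y)⁻¹ * b) := by
          show (t₀ : Y) * ((a : Y)⁻¹ * b) = (a : Y)⁻¹ * b * t₀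
          calc (t₀ : Y) * ((a : Y)⁻¹ * b) = (a : Y)⁻¹ * ((a : Y) * t₀ * (a : Y)⁻¹) * b := by group
            _ = (a : Y)⁻¹ * (b * t₀ * (b : Y)⁻¹) * b := by rw [h1]
            _ = _ := by group
        exact Subtype.ext (inv_mul_eq_one.1 (eq_one_of_odd_isTwo
          (odd_orderOf_of_mem hK₀odd (mul_mem (inv_mem a.2) b.2)) (h.two_element hto h2)))
    have hD'K : D' ≤ K₀ := le_inf hD'N Subgroup.le_normalizer
    exact (Subgroup.eq_of_le_of_card_ge hD'K (hcardD' ▸ hcard)).symm ▸ hD'E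
  -- complements are conjugate
  have hNE : N ≤ E := by
    intro g hg
    have hS'N : S' ≤ N := Subgroup.le_normalizer
    have hgS : ∀ {x : Y}, x ∈ S' → g * x * g⁻¹ ∈ S' := fun {x} hx =>
      (Subgroup.mem_normalizer_iff.1 hg x).1 hx
    have hsupE : (Subgroup.normalizer (S : Set E)).map E.subtype = S' ⊔ D' := by
      rw [hS', hD', ← Subgroup.map_sup]
      congr 1
      refine (Subgroup.eq_of_le_of_card_ge (sup_le Subgroup.le_normalizer hd.le_norm) ?_).symm
      rw [hd.card_norm, ← hd.card_D]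
      refine Nat.le_of_eq ?_
      have hdisj : D ⊓ S = ⊥ := (Subgroup.eq_bot_iff_forall _).2 fun x hx => eq_one_of_odd_isTwo
        ((hd.card_D ▸ hqodd).of_dvd_nat (Subgroup.orderOf_dvd_natCard D hx.1)) (isTwo_of_mem hd.isP hx.2)
      rw [sup_comm, Coprime.card_sup_of_inf_eq_bot hd.le_norm hdisj, mul_comm]
    set g' : Subgroup Y := D'.map (MulAut.conj g).toMonoidHom with hg'
    have hg'le : g' ≤ S' ⊔ D' := by
      rintro _ ⟨x, hx, rfl⟩
      rw [← hsupE]
      refine ⟨⟨g * x * g⁻¹, hEn.conj_mem _ (hD'E hx) _⟩, hmemN _ ?_, rfl⟩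
      exact mul_mem (mul_mem hg (hD'N hx)) (inv_mem hg)
    have hcop : (Nat.card S').Coprime (Nat.card D') := by
      obtain ⟨j, hj⟩ := hS'p.exists_card_eq
      rw [hj]
      exact Nat.Coprime.pow_left _ (Nat.coprime_two_left.2 hD'odd)
    obtain ⟨a, ha, hae⟩ := Coprime.sz_conj_rel (N := S') (H := D') (K := g') hD'N
      (hg'le.trans (sup_le Subgroup.le_normalizer hD'N)) hcop
      (Subgroup.card_map_of_injective (MulAut.conj g).injective) hg'le
      (Or.inl (haveI := hS'p.isNilpotent; inferInstance))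
    have hk : a⁻¹ * g ∈ K₀ := by
      refine Subgroup.mem_inf.2 ⟨mul_mem (inv_mem (hS'N ha)) hg, ?_⟩
      rw [Subgroup.mem_normalizer_iff_map_conj_eq]
      refine Subgroup.eq_of_le_of_card_ge ?_
        (Subgroup.card_map_of_injective (MulAut.conj (a⁻¹ * g)).injective).ge
      rintro _ ⟨x, hx, rfl⟩
      have h1 : g * x * g⁻¹ ∈ MulAut.conj a • D' := hae.symm ▸ ⟨x, hx, rfl⟩
      obtain ⟨y, hy, hye⟩ := h1
      show a⁻¹ * g * x * (a⁻¹ * g)⁻¹ ∈ D'
      have h2 : a * y * a⁻¹ = g * x * g⁻¹ := hye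
      rw [show a⁻¹ * g * x * (a⁻¹ * g)⁻¹ = a⁻¹ * (g * x * g⁻¹) * a by group, ← h2,
        show a⁻¹ * (a * y * a⁻¹) * a = y by group]
      exact hy
    have := mul_mem ((Subgroup.map_subtype_le S) ha) (hle hk)
    rwa [mul_inv_cancel_left] at this
  rw [← hsup, sup_eq_right.2 hNE]

/-- A nonsolvable maximal 2-local subgroup has a `Top`, unless its quotient involves one of the
excluded simple groups. -/
theorem exists_top' {G : Type u} [Group G] [Finite G] (hc : Ctx G)
    (hno : ∀ {M Y : Type u} [Group M] [Finite M] [Group Y] (π : M →* Y),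
      CIT M → Function.Surjective π → IsPGroup 2 π.ker → π.ker ≠ ⊥ →
      ∀ X : Subgroup Y, ¬ IsOddType X ∧ ¬ IsL34 X)
    {M : Subgroup G} (hM : Loc M) (hns : ¬ Group.IsSolvable M) :
    ∃ (X : Type u) (_ : Group X) (_ : Finite X) (π : M →* X) (S D : Subgroup X) (q : ℕ),
      Top M X π S D q := by
  haveI : Fact (Nat.Prime 2) := ⟨Nat.prime_two⟩
  set Q₀ := Cfsg.pCore 2 M with hQ₀
  have hQp : IsPGroup 2 Q₀ := Base.isPGroup_pCore 2 M
  haveI : Q₀.Normal := Cfsg.pCore_normal 2 M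
  set π := QuotientGroup.mk' Q₀ with hπ
  have hker : π.ker = Q₀ := QuotientGroup.ker_mk' _
  have hQne : Q₀ ≠ ⊥ := fun e => hM.nt (by
    show (Cfsg.pCore 2 M).map M.subtype = ⊥
    rw [← hQ₀, e, Subgroup.map_bot])
  have hcitM := hc.cit.subgroup M
  have hY : CIT (M ⧸ Q₀) :=
    hcitM.of_surjective π (QuotientGroup.mk'_surjective _) (hker.symm ▸ hQp)
  have hYns : ¬ Group.IsSolvable (M ⧸ Q₀) := fun h =>
    hns (isSolvable_of_normal Q₀ (haveI := hQp.isNilpotent; inferInstance) h)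
  obtain ⟨E, hEn, hEs, hEnab, hEc⟩ := exists_simple_normal hY hYns (Base.pCore_quotient_pCore 2 M)
  haveI := hEn
  have hlt : Nat.card E < Nat.card G := by
    have h1 : Nat.card E ≤ Nat.card (M ⧸ Q₀) := Nat.card_le_card_of_injective _ E.subtype_injective
    have h2 : Nat.card M ≤ Nat.card G := Nat.card_le_card_of_injective _ M.subtype_injective
    have h3 := Subgroup.card_eq_card_quotient_mul_card_subgroup Q₀
    have h4 : 1 < Nat.card Q₀ := by
      haveI := (Subgroup.nontrivial_iff_ne_bot Q₀).2 hQne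
      exact Finite.one_lt_card
    have h5 : 0 < Nat.card (M ⧸ Q₀) := Nat.card_pos
    have h6 : Nat.card (M ⧸ Q₀) * 2 ≤ Nat.card (M ⧸ Q₀) * Nat.card Q₀ := Nat.mul_le_mul_left _ h4
    omega
  have hnox := hno π hcitM (QuotientGroup.mk'_surjective _) (hker.symm ▸ hQp)
    (hker.symm ▸ hQne) E
  rcases hc.ih E hEs hEnab (hY.subgroup E) hlt with ⟨⟨S, D, q, hd⟩, hk⟩ | ho | ho
  · have hE := eq_top_of_seData hY E hd
    refine ⟨E, inferInstance, inferInstance,
      π.codRestrict E (fun m => hE ▸ Subgroup.mem_top _), S, D, q,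
      ⟨hM, hM.centralizer_le hc.cit, fun e => ?_, ?_, hEs, hY.subgroup E, hd, hk⟩⟩
    · obtain ⟨m, hm⟩ := QuotientGroup.mk'_surjective Q₀ (e : M ⧸ Q₀)
      exact ⟨m, Subtype.ext hm⟩
    · rw [MonoidHom.ker_codRestrict, hker]
      exact (Subgroup.comap_map_eq_self_of_injective M.subtype_injective Q₀).symm
  · exact absurd ho hnox.1
  · exact absurd ho hnox.2

end CfsgLib.Recog.CIT
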