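import Cfsg.Agent.Lib.Recog.CIT.Basic
import Cfsg.Agent.Lib.Recog.SL2Char2
import Cfsg.Agent.Lib.LocalEven.SL2Higman

/-!
Coordinates for a maximal 2-local subgroup with quotient `SL₂(2ⁿ)` in a group in which the
centraliser of every involution is a 2-group: the radical is a sum of natural modules.
-/

set_option autoImplicit false
set_option linter.style.haveILetI false
set_option linter.unusedSectionVars false

namespace CfsgLib.Recog.CIT.L2

open Matrix Matrix.SpecialLinearGroup CfsgLib.Classical CfsgLib.LocalEven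
open EPPOTwo (O2 TSyl IsTwo)

universe u

variable {G : Type u} [Group G]

local notation "SL₂[" F "]" => Matrix.SpecialLinearGroup (Fin 2) F

/-- Coordinates for `M`, its radical and a Sylow 2-subgroup `T`. -/
structure Nat2 (M T : Subgroup G) (F : Type) [Field F] (k : ℕ) where
  /-- The representation of `M`. -/
  r : G → SL₂[F]
  /-- The coordinates on the radical. -/
  f : G → (Fin k → Fin 2 → F)
  loc : Loc M
  r_mul : ∀ {a b : G}, a ∈ M → b ∈ M → r (a * b) = r a * r b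
  r_surj : ∀ g : SL₂[F], ∃ m ∈ M, r m = g
  r_eq_one : ∀ {m : G}, m ∈ M → (r m = 1 ↔ m ∈ O2 M)
  f_mul : ∀ {v w : G}, v ∈ O2 M → w ∈ O2 M → f (v * w) = f v + f w
  f_inj : ∀ {v w : G}, v ∈ O2 M → w ∈ O2 M → f v = f w → v = w
  f_surj : ∀ c : Fin k → Fin 2 → F, ∃ v ∈ O2 M, f v = c
  act : ∀ {m v : G}, m ∈ M → v ∈ O2 M → ∀ i, f (m * v * m⁻¹) i = (r m).1.mulVec (f v i)
  mem_T : ∀ {m : G}, m ∈ T ↔ m ∈ M ∧ ∃ a : F, r m = uSL a

theorem isTwo_of_O2 {M : Subgroup G} {v : G} (hv : v ∈ O2 M) : IsTwo v :=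
  EPPOTwo.isTwo_of_mem (Base.isPGroup_map_pCore 2 M) hv

theorem conj_mem_O2 {M : Subgroup G} {m v : G} (hm : m ∈ M) (hv : v ∈ O2 M) :
    m * v * m⁻¹ ∈ O2 M :=
  EPPOTwo.conj_mem_O2 hm hv

theorem mem_of_normalizes [Finite G] {M : Subgroup G} (h : Loc M) {g : G}
    (hg : ∀ v ∈ O2 M, g * v * g⁻¹ ∈ O2 M) : g ∈ M :=
  h.normalizer_O2.le (Subgroup.mem_normalizer_fintype hg)

/-- Existence of the coordinates. -/
theorem exists_nat2 [Finite G] (hG : CIT G) {M T : Subgroup G} {X : Type u} [Group X] [Finite X]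
    {π : M →* X} {S D : Subgroup X} {q : ℕ} (ht : Top M X π S D q) (hl : IsL2Two X)
    (hT : TSyl M T) :
    ∃ (F : Type) (_ : Field F) (_ : Fintype F) (_ : CharP F 2) (k : ℕ),
      4 ≤ Fintype.card F ∧ Nonempty (Nat2 M T F k) := by
  classical
  obtain ⟨F, _, _, ⟨n, hn, hF⟩, ⟨e₀⟩⟩ := hl
  haveI : Fact (Nat.Prime 2) := ⟨Nat.prime_two⟩
  haveI : CharP F 2 := charP_of_card_eq_prime_pow hF
  let T' : Sylow 2 M :=
    { toSubgroup := T.subgroupOf M
      isPGroup' := hT.isP.comap_of_injective M.subtype M.subtype_injective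
      is_maximal' := fun {P} hP hle => by
        have h := hT.max (P.map M.subtype) (hP.map _)
          (fun t ht => ⟨⟨t, hT.le ht⟩, hle ht, rfl⟩) (Subgroup.map_subtype_le P)
        refine le_antisymm (fun p hp => ?_) hle
        rw [Subgroup.mem_subgroupOf, ← h]
        exact ⟨p, hp, rfl⟩ }
  let e₁ : X ≃* SL₂[F] := e₀.trans pslEquivSL.symm
  obtain ⟨e₂, he₂⟩ := SL2Bridge.exists_adapted (p := 2) e₁ (T'.mapSurjective (f := π) ht.surj)
  let ρ : M →* SL₂[F] := e₂.toMonoidHom.comp π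
  have hρ : Function.Surjective ρ := e₂.surjective.comp ht.surj
  set Q : Subgroup M := (O2 M).subgroupOf M with hQdef
  have hker : ρ.ker = Q := (MonoidHom.ker_mulEquiv_comp π e₂).trans ht.ker
  haveI : Q.Normal := hker ▸ inferInstance
  have hQ : IsPGroup 2 Q := (Base.isPGroup_map_pCore 2 M).comap_of_injective M.subtype M.subtype_injective
  let e : M ⧸ Q ≃* SL₂[F] := (QuotientGroup.quotientMulEquivOfEq hker.symm).trans
    (QuotientGroup.quotientKerEquivOfSurjective ρ hρ)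
  have he : ∀ m : M, e (m : M ⧸ Q) = ρ m := fun m => rfl
  obtain ⟨t, ht0, ht1⟩ := SL2Higman.exists_ne_zero_one (K := F) hn hF
  have h3 : 3 ∣ Nat.card M := by
    refine dvd_trans ?_ ((Subgroup.card_dvd_of_surjective ρ hρ))
    rw [card_SL_two, Nat.card_eq_fintype_card, hF]
    refine Dvd.dvd.mul_left ?_ _
    rw [← pow_mul, mul_comm, pow_mul]
    have h := Nat.sub_dvd_pow_sub_pow (2 ^ 2) 1 n
    rw [one_pow] at h
    exact (by norm_num : (3 : ℕ) = 2 ^ 2 - 1) ▸ h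
  haveI : Fact (Nat.Prime 3) := ⟨Nat.prime_three⟩
  obtain ⟨x, hx⟩ := exists_prime_orderOf_dvd_card' 3 h3
  have hfpf : ∀ v ∈ Q, x * v * x⁻¹ = v → v = 1 := fun v hv h => Subtype.ext
    (hG.eq_one_of_commute (x := (x : G)) (by rw [Subgroup.orderOf_coe, hx]; decide)
      (fun h1 => by
        rw [show x = 1 from Subtype.ext h1, orderOf_one] at hx
        exact absurd hx (by norm_num))
      (isTwo_of_O2 (Subgroup.mem_subgroupOf.1 hv)) (congrArg Subtype.val (mul_inv_eq_iff_eq_mul.1 h)))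
  haveI hQc : IsMulCommutative Q :=
    SL2Higman.comm ht0 ht1 (Nat.card Q) M Q rfl hQ e x hx hfpf
  have hself : Q ≤ Subgroup.centralizer (Q : Set M) :=
    Subgroup.le_centralizer_iff_isMulCommutative.2 hQc
  letI : CommGroup Q := { (inferInstance : Group Q) with mul_comm := hQc.is_comm.comm }
  letI := SL2Bridge.moduleAction (SL2Higman.act e hself)
  obtain ⟨hS, -⟩ := SL2Higman.split_of_fpf hQ le_rfl e hself hx hfpf ht0 ht1
  obtain ⟨k, Φ, hΦ⟩ := hS.exists_natural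
  let r : G → SL₂[F] := fun g => if h : g ∈ M then ρ ⟨g, h⟩ else 1
  let f : G → (Fin k → Fin 2 → F) := fun g =>
    if h : g ∈ O2 M then
      Φ (Additive.ofMul (⟨⟨g, EPPOTwo.O2_le M h⟩, Subgroup.mem_subgroupOf.2 h⟩ : Q))
    else 0
  have hr : ∀ {g : G} (h : g ∈ M), r g = ρ ⟨g, h⟩ := fun {g} h => dif_pos h
  have hf : ∀ {g : G} (h : g ∈ O2 M), f g =
      Φ (Additive.ofMul (⟨⟨g, EPPOTwo.O2_le M h⟩, Subgroup.mem_subgroupOf.2 h⟩ : Q)) :=
    fun {g} h => dif_pos h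
  refine ⟨F, inferInstance, inferInstance, inferInstance, k, hF ▸
    (le_trans (by norm_num) (Nat.pow_le_pow_right two_pos hn) : 4 ≤ 2 ^ n),
    ⟨{ r := r, f := f, loc := ht.loc, r_mul := ?_, r_surj := ?_, r_eq_one := ?_, f_mul := ?_,
       f_inj := ?_, f_surj := ?_, act := ?_, mem_T := ?_ }⟩⟩
  · intro a b ha hb
    rw [hr (mul_mem ha hb), hr ha, hr hb, ← map_mul]
    rfl
  · intro g
    obtain ⟨m, rfl⟩ := hρ g
    exact ⟨m, m.2, hr m.2⟩
  · intro m hm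
    rw [hr hm, ← MonoidHom.mem_ker, hker, hQdef, Subgroup.mem_subgroupOf]
  · intro v w hv hw
    rw [hf (mul_mem hv hw), hf hv, hf hw, ← map_add]
    rfl
  · intro v w hv hw h
    rw [hf hv, hf hw] at h
    exact congrArg (fun z : Q => ((z : M) : G)) (Additive.ofMul.injective (Φ.injective h))
  · intro c
    obtain ⟨m, rfl⟩ := Φ.surjective c
    obtain ⟨⟨⟨v, hvM⟩, hv⟩, rfl⟩ := Additive.ofMul.surjective m
    exact ⟨v, Subgroup.mem_subgroupOf.1 hv, hf (Subgroup.mem_subgroupOf.1 hv)⟩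
  · intro m v hm hv i
    rw [hf (conj_mem_O2 hm hv), hf hv, hr hm, ← he, ← hΦ]
    refine congrArg (fun z => Φ z i) (Additive.toMul.injective ?_)
    refine Subtype.ext ?_
    show _ = ((SL2Higman.act e hself (e ((⟨m, hm⟩ : M) : M ⧸ Q)) _ : Q) : M)
    rw [SL2Higman.act_apply]
    rfl
  · intro m
    have key : ∀ hm : m ∈ M, m ∈ T ↔ ρ ⟨m, hm⟩ ∈ uSubgroup F := by
      intro hm
      refine ⟨fun h => he₂ ▸ ⟨π ⟨m, hm⟩, ⟨⟨m, hm⟩, h, rfl⟩, rfl⟩, fun h => ?_⟩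
      rw [← he₂] at h
      obtain ⟨y, ⟨p, hp, rfl⟩, hy⟩ := h
      have hpm : (⟨m, hm⟩ : M) * p⁻¹ ∈ Q := by
        rw [← hker, MonoidHom.mem_ker, map_mul, map_inv, mul_inv_eq_one]
        exact hy.symm
      have h2 := mul_mem (EPPOTwo.TSyl.O2_le hT (Subgroup.mem_subgroupOf.1 hpm))
        (Subgroup.mem_subgroupOf.1 hp)
      simpa using h2
    constructor
    · intro h
      obtain ⟨a, ha⟩ := mem_uSubgroup_iff.1 ((key (hT.le h)).1 h)
      exact ⟨hT.le h, a, (hr (hT.le h)).trans ha.symm⟩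
    · rintro ⟨hm, a, ha⟩
      exact (key hm).2 (mem_uSubgroup_iff.2 ⟨a, by rw [← hr hm, ha]⟩)

namespace Nat2

variable {M T : Subgroup G} {F : Type} [Field F] {k : ℕ} (d : Nat2 M T F k)
include d

theorem T_le : T ≤ M := fun _ h => (d.mem_T.1 h).1

theorem r_one : d.r 1 = 1 := (d.r_eq_one (one_mem M)).2 (one_mem _)

theorem r_inv {m : G} (hm : m ∈ M) : d.r m⁻¹ = (d.r m)⁻¹ :=
  eq_inv_of_mul_eq_one_left (by rw [← d.r_mul (inv_mem hm) hm, inv_mul_cancel, d.r_one])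

theorem r_pow {m : G} (hm : m ∈ M) (j : ℕ) : d.r (m ^ j) = d.r m ^ j := by
  induction j with
  | zero => rw [pow_zero, pow_zero, d.r_one]
  | succ j ih => rw [pow_succ, pow_succ, d.r_mul (pow_mem hm j) hm, ih]

theorem r_conj {a m : G} (ha : a ∈ M) (hm : m ∈ M) :
    d.r (a * m * a⁻¹) = d.r a * d.r m * (d.r a)⁻¹ := by
  rw [d.r_mul (mul_mem ha hm) (inv_mem ha), d.r_mul ha hm, d.r_inv ha]

theorem r_of_mem {v : G} (hv : v ∈ O2 M) : d.r v = 1 :=
  (d.r_eq_one (EPPOTwo.O2_le M hv)).2 hv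

theorem Q_le : O2 M ≤ T := fun v hv =>
  d.mem_T.2 ⟨EPPOTwo.O2_le M hv, 0, by rw [d.r_of_mem hv, SL2Natural.uSL_zero]⟩

theorem f_one : d.f 1 = 0 := by
  have := d.f_mul (one_mem (O2 M)) (one_mem (O2 M))
  rw [mul_one] at this
  simpa using this

theorem f_eq_zero {v : G} (hv : v ∈ O2 M) (h : d.f v = 0) : v = 1 :=
  d.f_inj hv (one_mem _) (h.trans d.f_one.symm)

theorem k_pos : 0 < k := by
  by_contra hk
  obtain rfl : k = 0 := by omega
  exact d.loc.nt ((Subgroup.eq_bot_iff_forall _).2 fun v hv =>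
    d.f_eq_zero hv (funext fun i => i.elim0))

theorem sq_of_mem [CharP F 2] {v : G} (hv : v ∈ O2 M) : v * v = 1 :=
  d.f_eq_zero (mul_mem hv hv) (by
    rw [d.f_mul hv hv]
    funext i j
    simp [CharTwo.add_self_eq_zero])

theorem Q_comm {v w : G} (hv : v ∈ O2 M) (hw : w ∈ O2 M) : v * w = w * v :=
  d.f_inj (mul_mem hv hw) (mul_mem hw hv) (by rw [d.f_mul hv hw, d.f_mul hw hv, add_comm])

theorem card_Q [Finite F] : Nat.card (O2 M) = Nat.card F ^ (2 * k) := by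
  have : Nat.card (O2 M) = Nat.card (Fin k → Fin 2 → F) :=
    Nat.card_eq_of_bijective (fun v => d.f v.1) ⟨fun v w h => Subtype.ext (d.f_inj v.2 w.2 h),
      fun c => (d.f_surj c).elim fun v hv => ⟨⟨v, hv.1⟩, hv.2⟩⟩
  rw [this, Nat.card_fun, Nat.card_fun, Nat.card_fin, Nat.card_fin, ← pow_mul]

theorem act_T {t v : G} {a : F} (ht : t ∈ M) (ha : d.r t = uSL a) (hv : v ∈ O2 M) (i : Fin k) :
    d.f (t * v * t⁻¹) i = ![d.f v i 0 + a * d.f v i 1, d.f v i 1] := by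
  rw [d.act ht hv, ha, uSL_coe]
  ext j
  fin_cases j <;> simp [Matrix.mulVec, dotProduct, Fin.sum_univ_two]

/-- The fixed points of `T` in the radical. -/
def Z : Subgroup G where
  carrier := {v | v ∈ O2 M ∧ ∀ i, d.f v i 1 = 0}
  one_mem' := ⟨one_mem _, fun i => by rw [d.f_one]; rfl⟩
  mul_mem' := fun {a b} ha hb => ⟨mul_mem ha.1 hb.1, fun i => by
    rw [d.f_mul ha.1 hb.1, Pi.add_apply, Pi.add_apply, ha.2, hb.2, add_zero]⟩
  inv_mem' := fun {a} ha => ⟨inv_mem ha.1, fun i => by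
    have h := d.f_mul ha.1 (inv_mem ha.1)
    rw [mul_inv_cancel, d.f_one] at h
    have h' := congrFun (congrFun h i) 1
    rw [Pi.add_apply, Pi.add_apply, ha.2, zero_add] at h'
    exact h'.symm⟩

theorem Z_le : d.Z ≤ O2 M := fun _ h => h.1

theorem card_Z [Finite F] : Nat.card d.Z = Nat.card F ^ k := by
  have : Nat.card d.Z = Nat.card (Fin k → F) :=
    Nat.card_eq_of_bijective (fun v i => d.f v.1 i 0) ⟨fun v w h => Subtype.ext
      (d.f_inj v.2.1 w.2.1 (funext fun i => funext fun j => by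
        fin_cases j
        · exact congrFun h i
        · exact (v.2.2 i).trans (w.2.2 i).symm)),
      fun c => (d.f_surj fun i => ![c i, 0]).elim fun v hv =>
        ⟨⟨v, hv.1, fun i => by rw [hv.2]; rfl⟩, funext fun i => by
          show d.f v i 0 = c i
          rw [hv.2]; rfl⟩⟩
  rw [this, Nat.card_fun, Nat.card_fin]

theorem commute_of_mem_Z {t v : G} (ht : t ∈ T) (hv : v ∈ d.Z) : t * v = v * t := by
  obtain ⟨htM, a, ha⟩ := d.mem_T.1 ht
  rw [← mul_inv_eq_iff_eq_mul]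
  refine d.f_inj (conj_mem_O2 htM hv.1) hv.1 (funext fun i => ?_)
  rw [d.act_T htM ha hv.1]
  ext j
  fin_cases j <;> simp [hv.2 i]

theorem mem_Z_of_commute {t v : G} (ht : t ∈ T) (htQ : t ∉ O2 M) (hv : v ∈ O2 M)
    (h : t * v = v * t) : v ∈ d.Z := by
  obtain ⟨htM, a, ha⟩ := d.mem_T.1 ht
  refine ⟨hv, fun i => ?_⟩
  have e := congrFun (d.act_T htM ha hv i) 0
  rw [mul_inv_eq_iff_eq_mul.2 h, Matrix.cons_val_zero, left_eq_add, mul_eq_zero] at e
  refine e.resolve_left fun ha0 => htQ ((d.r_eq_one htM).1 ?_)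
  rw [ha, ha0, SL2Natural.uSL_zero]

theorem isPGroup_T [CharP F 2] : IsPGroup 2 T := by
  refine EPPOTwo.isPGroup_of_isTwo fun t ht => ⟨2, ?_⟩
  obtain ⟨htM, a, ha⟩ := d.mem_T.1 ht
  have h1 : t ^ 2 ∈ O2 M := (d.r_eq_one (pow_mem htM 2)).1 (by
    rw [d.r_pow htM, ha, pow_two, ← SL2Natural.uSL_add, CharTwo.add_self_eq_zero,
      SL2Natural.uSL_zero])
  rw [pow_succ 2 1, pow_mul, pow_one, pow_two]
  exact d.sq_of_mem h1

theorem uSL_injective {a b : F} (h : (uSL a : SL₂[F]) = uSL b) : a = b := by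
  have := congrArg (fun g : SL₂[F] => g.1 0 1) h
  simpa [uSL_coe] using this

/-- Every 2-subgroup of `M` is conjugate in `M` into `T`. -/
theorem exists_conj_le [Finite F] [CharP F 2] {P : Subgroup G} (hP : IsPGroup 2 P) (hPM : P ≤ M) :
    ∃ m ∈ M, ∀ x ∈ P, m * x * m⁻¹ ∈ T := by
  haveI : Fact (Nat.Prime 2) := ⟨Nat.prime_two⟩
  let φ : P →* SL₂[F] := MonoidHom.mk' (fun x => d.r x.1) fun a b => d.r_mul (hPM a.2) (hPM b.2)
  obtain ⟨S, hS⟩ := ((hP.of_equiv Subgroup.topEquiv.symm).map φ).exists_le_sylow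
  obtain ⟨g, hg⟩ := MulAction.exists_smul_eq SL₂[F] S (uSylow (F := F) 2)
  obtain ⟨m, hm, hmg⟩ := d.r_surj g
  refine ⟨m, hm, fun x hx => d.mem_T.2 ⟨mul_mem (mul_mem hm (hPM hx)) (inv_mem hm), ?_⟩⟩
  have h1 : g * d.r x * g⁻¹ ∈ ((g • S : Sylow 2 SL₂[F]) : Subgroup SL₂[F]) := by
    rw [Sylow.coe_subgroup_smul]
    exact ⟨d.r x, hS ⟨⟨x, hx⟩, trivial, rfl⟩, rfl⟩
  rw [hg] at h1
  obtain ⟨a, ha⟩ := mem_uSubgroup_iff.1 (h1 : g * d.r x * g⁻¹ ∈ uSubgroup F)
  exact ⟨a, by rw [d.r_conj hm (hPM hx), hmg, ha]⟩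

theorem T_max [Finite G] [Finite F] [CharP F 2] {P : Subgroup G} (hP : IsPGroup 2 P) (hTP : T ≤ P)
    (hPM : P ≤ M) : P = T := by
  obtain ⟨m, hm, h⟩ := d.exists_conj_le hP hPM
  refine (Subgroup.eq_of_le_of_card_ge hTP ?_).symm
  exact Nat.card_le_card_of_injective (fun x : P => (⟨m * x * m⁻¹, h x x.2⟩ : T))
    fun x y e => Subtype.ext (mul_left_cancel (mul_right_cancel (congrArg Subtype.val e)))

theorem centralizer_le [Finite G] {c : G} (hc : ∀ v ∈ O2 M, c * v = v * c) : c ∈ O2 M := by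
  have hcM : c ∈ M := mem_of_normalizes d.loc fun v hv => by
    rwa [hc v hv, mul_inv_cancel_right]
  refine (d.r_eq_one hcM).1 (Subtype.ext ?_)
  refine Matrix.ext_of_mulVec_single fun j => ?_
  obtain ⟨v, hv, hvc⟩ := d.f_surj fun _ => Pi.single j 1
  have h := d.act hcM hv ⟨0, d.k_pos⟩
  rw [mul_inv_eq_iff_eq_mul.2 (hc v hv), hvc] at h
  rw [coe_one, Matrix.one_mulVec]
  exact h.symm

end Nat2

end CfsgLib.Recog.CIT.L2
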