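import Cfsg.Agent.Lib.Recog.CIT.LocalL2Data
import Cfsg.Agent.Lib.Classical.SLGen

/-!
A Sylow 2-subgroup of a maximal 2-local subgroup with quotient `SL₂(2ⁿ)` has a second elementary
abelian subgroup of the order of the radical, as otherwise the local subgroup is strongly embedded;
so the radical is a single natural module.
-/

set_option autoImplicit false
set_option linter.style.haveILetI false
set_option linter.unusedSectionVars false

namespace CfsgLib.Recog.CIT.L2

open Matrix Matrix.SpecialLinearGroup CfsgLib.Classical CfsgLib.LocalEven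
open EPPOTwo (O2 IsTwo)

universe u

variable {G : Type u} [Group G] [Finite G]

/-- The consequence of piece A used here. -/
def SolvableSE (G : Type u) [Group G] : Prop :=
  ∀ H : Subgroup G, Cfsg.IsStronglyEmbedded H → Group.IsSolvable H

theorem isPGroup_conjBack {P : Subgroup G} (hP : IsPGroup 2 P) (g : G) :
    IsPGroup 2 (P.comap (MulAut.conj g).toMonoidHom) :=
  hP.comap_of_injective _ (MulAut.conj g).injective

theorem mem_conjBack {P : Subgroup G} {g x : G} :
    x ∈ P.comap (MulAut.conj g).toMonoidHom ↔ g * x * g⁻¹ ∈ P := Iff.rfl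

variable {M T : Subgroup G} {F : Type} [Field F] [Finite F] [CharP F 2] {k : ℕ}
  (d : Nat2 M T F k)

namespace Nat2

include d

theorem not_isSolvable (hF : 4 ≤ Nat.card F) : ¬ Group.IsSolvable M := by
  intro h
  let φ : M →* Matrix.SpecialLinearGroup (Fin 2) F :=
    MonoidHom.mk' (fun x => d.r x.1) fun a b => d.r_mul a.2 b.2
  have hs : Group.IsSolvable (Matrix.SpecialLinearGroup (Fin 2) F) :=
    solvable_of_surjective (f := φ) fun g => by
      obtain ⟨m, hm, hg⟩ := d.r_surj g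
      exact ⟨⟨m, hm⟩, hg⟩
  obtain ⟨n, hn⟩ := hs.solvable
  have htop : ∀ n, derivedSeries (Matrix.SpecialLinearGroup (Fin 2) F) n = ⊤ := by
    intro n
    induction n with
    | zero => rfl
    | succ n ih =>
      rw [derivedSeries_succ, ih]
      exact SL_fin_commutator_eq_top 2 le_rfl fun _ => hF
  rw [htop] at hn
  have h1 : (uSL (1 : F) : Matrix.SpecialLinearGroup (Fin 2) F) ∈
      (⊥ : Subgroup (Matrix.SpecialLinearGroup (Fin 2) F)) := hn ▸ Subgroup.mem_top _
  rw [Subgroup.mem_bot, ← SL2Natural.uSL_zero] at h1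
  exact one_ne_zero (d.uSL_injective h1)

theorem exists_mem_Z : ∃ z ∈ d.Z, orderOf z = 2 := by
  have : Nontrivial d.Z := Finite.one_lt_card_iff_nontrivial.1 (by
    rw [d.card_Z]
    exact Nat.one_lt_pow d.k_pos.ne' Finite.one_lt_card)
  obtain ⟨⟨z, hz⟩, hz1⟩ := exists_ne (1 : d.Z)
  exact ⟨z, hz, EPPOTwo.orderOf_eq_two (d.sq_of_mem hz.1) fun h => hz1 (Subtype.ext h)⟩

section Controlled

variable (hfix : ∀ g : G, (∀ v ∈ O2 M, g * v * g⁻¹ ∈ T) → g ∈ M)
include hfix

theorem maxT {P : Subgroup G} (hP : IsPGroup 2 P) (hTP : T ≤ P) : P = T := by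
  haveI : Fact (Nat.Prime 2) := ⟨Nat.prime_two⟩
  by_contra hne
  haveI := hP.isNilpotent
  have hlt : T.subgroupOf P < ⊤ := lt_top_iff_ne_top.2 fun h =>
    hne (le_antisymm (Subgroup.subgroupOf_eq_top.1 h) hTP)
  obtain ⟨⟨p, hp⟩, hpn, hpT⟩ :=
    SetLike.exists_of_lt (Group.normalizerCondition_of_isNilpotent _ hlt)
  have hp' : ∀ x ∈ T, p * x * p⁻¹ ∈ T := fun x hx =>
    (Subgroup.mem_normalizer_iff.1 hpn ⟨x, hTP hx⟩).1 hx
  have hpM : p ∈ M := hfix p fun v hv => hp' v (d.Q_le hv)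
  have hpn' : p ∈ Subgroup.normalizer (T : Set G) := Subgroup.mem_normalizer_fintype hp'
  have hle : T ⊔ Subgroup.zpowers p ≤ P := sup_le hTP (Subgroup.zpowers_le.2 hp)
  have h := d.T_max (hP.to_le hle) le_sup_left (sup_le d.T_le (Subgroup.zpowers_le.2 hpM))
  exact hpT (h ▸ (le_sup_right : Subgroup.zpowers p ≤ T ⊔ _) (Subgroup.mem_zpowers p))

theorem exists_into {P : Subgroup G} (hP : IsPGroup 2 P) :
    ∃ g : G, ∀ x ∈ P, g * x * g⁻¹ ∈ T := by
  haveI : Fact (Nat.Prime 2) := ⟨Nat.prime_two⟩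
  let ST : Sylow 2 G :=
    { toSubgroup := T, isPGroup' := d.isPGroup_T, is_maximal' := fun hQ hle => d.maxT hfix hQ hle }
  obtain ⟨S, hS⟩ := hP.exists_le_sylow
  obtain ⟨g, hg⟩ := MulAction.exists_smul_eq G S ST
  refine ⟨g, fun x hx => ?_⟩
  have h1 : g * x * g⁻¹ ∈ ((g • S : Sylow 2 G) : Subgroup G) := by
    rw [Sylow.coe_subgroup_smul]
    exact ⟨x, hS hx, rfl⟩
  rw [hg] at h1
  exact h1

/-- A 2-subgroup containing the radical lies in `M`; if it contains a conjugate of the radical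
too, the conjugating element lies in `M`. -/
theorem le_M {P : Subgroup G} (hP : IsPGroup 2 P) (hQ : O2 M ≤ P) :
    P ≤ M ∧ ∀ g : G, (∀ v ∈ O2 M, g * v * g⁻¹ ∈ P) → g ∈ M := by
  obtain ⟨h, hh⟩ := d.exists_into hfix hP
  have hhM : h ∈ M := hfix h fun v hv => hh v (hQ hv)
  refine ⟨fun x hx => ?_, fun g hg => ?_⟩
  · have h1 := mul_mem (mul_mem (inv_mem hhM) (d.T_le (hh x hx))) hhM
    simpa [mul_assoc] using h1
  · refine (mul_mem_cancel_left hhM).1 (hfix _ fun v hv => ?_)
    have := hh _ (hg v hv)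
    simpa [mul_assoc] using this

theorem centralizer_le_M (hG : CIT G) {v : G} (hv : v ∈ O2 M) (ho : orderOf v = 2) :
    Subgroup.centralizer ({v} : Set G) ≤ M :=
  (d.le_M hfix (hG v ho) fun w hw =>
    Subgroup.mem_centralizer_singleton_iff.2 (d.Q_comm hw hv)).1

/-- With all involution centralisers inside, `M` would be strongly embedded. -/
theorem false_of_controlled (hc : Ctx G) (hSE : SolvableSE G) (hF : 4 ≤ Nat.card F)
    (hinv : ∀ y ∈ T, y ∉ O2 M → orderOf y = 2 → Subgroup.centralizer ({y} : Set G) ≤ M) :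
    False := by
  haveI := hc.simple
  obtain ⟨z, hz, hz2⟩ := d.exists_mem_Z
  have hcent : ∀ y ∈ M, orderOf y = 2 →
      Subgroup.centralizer ({y} : Set G) ≤ M ∧ ∃ w ∈ O2 M, orderOf w = 2 ∧ Commute y w := by
    intro y hyM hy
    by_cases hyQ : y ∈ O2 M
    · exact ⟨d.centralizer_le_M hfix hc.cit hyQ hy, y, hyQ, hy, Commute.refl y⟩
    have hP : IsPGroup 2 (Subgroup.zpowers y) := by
      refine IsPGroup.of_card (n := 1) ?_
      rw [Nat.card_zpowers, hy, pow_one]
    obtain ⟨m, hm, hmy⟩ := d.exists_conj_le hP (Subgroup.zpowers_le.2 hyM)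
    have hy' := hmy y (Subgroup.mem_zpowers y)
    have ho : orderOf (m * y * m⁻¹) = 2 :=
      ((SemiconjBy.conj_mk m y).orderOf_eq).symm.trans hy
    have hnQ : m * y * m⁻¹ ∉ O2 M := fun h => hyQ (by
      simpa [mul_assoc] using conj_mem_O2 (inv_mem hm) h)
    refine ⟨fun c hcy => ?_, m⁻¹ * z * m, ?_, ?_, ?_⟩
    · have h1 : m * c * m⁻¹ ∈ M := hinv _ hy' hnQ ho (by
        rw [Subgroup.mem_centralizer_singleton_iff] at hcy ⊢
        calc m * c * m⁻¹ * (m * y * m⁻¹) = m * (c * y) * m⁻¹ := by group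
          _ = m * (y * c) * m⁻¹ := by rw [hcy]
          _ = _ := by group)
      simpa [mul_assoc] using mul_mem (mul_mem (inv_mem hm) h1) hm
    · simpa using conj_mem_O2 (inv_mem hm) hz.1
    · have := (SemiconjBy.conj_mk m⁻¹ z).orderOf_eq
      rw [inv_inv] at this
      exact this.symm.trans hz2
    · calc y * (m⁻¹ * z * m) = m⁻¹ * ((m * y * m⁻¹) * z) * m := by group
        _ = m⁻¹ * (z * (m * y * m⁻¹)) * m := by rw [d.commute_of_mem_Z hy' hz]
        _ = _ := by group
  refine d.not_isSolvable hF (hSE M ⟨fun hM => ?_, ?_, fun g hg => ?_⟩)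
  · have hn : (O2 M).Normal := by
      rw [← Subgroup.normalizer_eq_top_iff, d.loc.normalizer_O2, hM]
    rcases hn.eq_bot_or_eq_top with h | h
    · exact d.loc.nt h
    · obtain ⟨a, b, hab⟩ := hc.noncomm
      exact hab (d.Q_comm (h ▸ Subgroup.mem_top a) (h ▸ Subgroup.mem_top b))
  · exact (Involutions.even_card_iff M).2 ⟨z, EPPOTwo.O2_le M hz.1, hz2⟩
  · rw [Involutions.odd_card_iff]
    rintro t ⟨htM, s, hsM, rfl⟩ ht
    simp only [MulEquiv.coe_toMonoidHom, MulAut.conj_apply] at htM ht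
    have hs : orderOf s = 2 := (SemiconjBy.conj_mk g s).orderOf_eq.trans ht
    obtain ⟨w, hw, hw2, hcw⟩ := (hcent _ htM ht).2
    -- `w` lies in the conjugate of `M`
    have hw' : g⁻¹ * w * g ∈ M := (hcent s hsM hs).1 (by
      rw [Subgroup.mem_centralizer_singleton_iff]
      calc g⁻¹ * w * g * s = g⁻¹ * (w * (g * s * g⁻¹)) * g := by group
        _ = g⁻¹ * ((g * s * g⁻¹) * w) * g := by rw [hcw.eq]
        _ = _ := by group)
    have hw'2 : orderOf (g⁻¹ * w * g) = 2 := by
      have := (SemiconjBy.conj_mk g⁻¹ w).orderOf_eq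
      rw [inv_inv] at this
      exact this.symm.trans hw2
    -- so does the radical
    have hQ : ∀ v ∈ O2 M, g⁻¹ * v * g ∈ M := fun v hv => (hcent _ hw' hw'2).1 (by
      rw [Subgroup.mem_centralizer_singleton_iff]
      calc g⁻¹ * v * g * (g⁻¹ * w * g) = g⁻¹ * (v * w) * g := by group
        _ = g⁻¹ * (w * v) * g := by rw [d.Q_comm hv hw]
        _ = _ := by group)
    have hP : IsPGroup 2 ((O2 M).comap (MulAut.conj g).toMonoidHom) :=
      isPGroup_conjBack (Base.isPGroup_map_pCore 2 M) g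
    obtain ⟨m, hm, hmP⟩ := d.exists_conj_le hP (fun x hx => by
      have := hQ _ (mem_conjBack.1 hx)
      simpa [mul_assoc] using this)
    have h1 : m * g⁻¹ ∈ M := hfix _ fun v hv => by
      have := hmP (g⁻¹ * v * g) (mem_conjBack.2 (by simpa [mul_assoc] using hv))
      simpa [mul_assoc] using this
    exact hg (inv_mem_iff.1 ((mul_mem_cancel_left hm).1 h1))

end Controlled

/-- The radical is not the only elementary abelian subgroup of its order in `T`. -/
theorem exists_elementary (hc : Ctx G) (hSE : SolvableSE G) (hF : 4 ≤ Nat.card F) :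
    ∃ A : Subgroup G, A ≤ T ∧ (∀ a ∈ A, a * a = 1) ∧ Nat.card (O2 M) ≤ Nat.card A ∧
      A ≠ O2 M := by
  by_contra hA
  push Not at hA
  have hfix : ∀ g : G, (∀ v ∈ O2 M, g * v * g⁻¹ ∈ T) → g ∈ M := by
    intro g hg
    have h1 := hA ((O2 M).map (MulAut.conj g).toMonoidHom) (by rintro _ ⟨v, hv, rfl⟩; exact hg v hv)
      (by rintro _ ⟨v, hv, rfl⟩; rw [← map_mul, d.sq_of_mem hv, map_one])
      (le_of_eq (Nat.card_congr
        ((O2 M).equivMapOfInjective _ (MulAut.conj g).injective).toEquiv))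
    exact mem_of_normalizes d.loc fun v hv => h1 ▸ ⟨v, hv, rfl⟩
  refine d.false_of_controlled hfix hc hSE hF fun y hyT hyQ hy => ?_
  by_contra hnot
  obtain ⟨g, hg⟩ := d.exists_into hfix (hc.cit y hy)
  have hyy : y ∈ Subgroup.centralizer ({y} : Set G) := Subgroup.mem_centralizer_singleton_iff.2 rfl
  have hgM : g ∉ M := fun h => hnot fun x hx => by
    simpa [mul_assoc] using mul_mem (mul_mem (inv_mem h) (d.T_le (hg x hx))) h
  obtain ⟨z, hz, hz2⟩ := d.exists_mem_Z
  set z' := g⁻¹ * z * g with hz'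
  have hz'2 : orderOf z' = 2 := by
    have := (SemiconjBy.conj_mk g⁻¹ z).orderOf_eq
    rw [inv_inv] at this
    exact this.symm.trans hz2
  -- `z'` centralises the centraliser of `y`
  have hz'c : ∀ x, g * x * g⁻¹ ∈ T → x * z' = z' * x := fun x hx => by
    calc x * z' = g⁻¹ * ((g * x * g⁻¹) * z) * g := by rw [hz']; group
      _ = g⁻¹ * (z * (g * x * g⁻¹)) * g := by rw [d.commute_of_mem_Z hx hz]
      _ = _ := by rw [hz']; group
  have hz'M : z' ∈ M := by
    obtain ⟨w, hw, hw2⟩ := d.exists_mem_Z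
    refine d.centralizer_le_M hfix hc.cit hw.1 hw2
      (Subgroup.mem_centralizer_singleton_iff.2 (hz'c w (hg w ?_)).symm)
    exact Subgroup.mem_centralizer_singleton_iff.2 (d.commute_of_mem_Z hyT hw).symm
  -- both radicals in the centraliser of an element force `g ∈ M`
  have both : ∀ a ∈ O2 M, orderOf a = 2 → (∀ v ∈ O2 M, g⁻¹ * v * g * a = a * (g⁻¹ * v * g)) →
      g ∈ M := fun a ha ha2 h => by
    have := (d.le_M hfix (hc.cit a ha2) fun w hw =>
      Subgroup.mem_centralizer_singleton_iff.2 (d.Q_comm hw ha)).2 g⁻¹ fun v hv => by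
        rw [inv_inv]
        exact Subgroup.mem_centralizer_singleton_iff.2 (h v hv)
    exact inv_mem_iff.1 this
  by_cases hz'Q : z' ∈ O2 M
  · exact hgM (both z' hz'Q hz'2 fun v hv => hz'c _ (by simpa [mul_assoc] using d.Q_le hv))
  have hP : IsPGroup 2 (Subgroup.zpowers z') := by
    refine IsPGroup.of_card (n := 1) ?_
    rw [Nat.card_zpowers, hz'2, pow_one]
  obtain ⟨m, hm, hmz⟩ := d.exists_conj_le hP (Subgroup.zpowers_le.2 hz'M)
  have hzT := hmz z' (Subgroup.mem_zpowers z')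
  have hzM : ∀ w, w * z = z * w → IsTwo w → w ∈ T := fun w hw _ => by
    have h := d.maxT hfix (hc.cit z hz2) fun t ht =>
      Subgroup.mem_centralizer_singleton_iff.2 (d.commute_of_mem_Z ht hz)
    exact h ▸ Subgroup.mem_centralizer_singleton_iff.2 hw
  -- transport `Z` into `T` outside the radical
  let e : d.Z → G := fun ζ => g * (m⁻¹ * ζ * m) * g⁻¹
  have hmem : ∀ ζ : d.Z, m⁻¹ * (ζ : G) * m ∈ O2 M := fun ζ => by
    simpa using conj_mem_O2 (inv_mem hm) ζ.2.1
  have heT : ∀ ζ : d.Z, e ζ ∈ T := fun ζ => by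
    have h1 : m⁻¹ * (ζ : G) * m * z' = z' * (m⁻¹ * (ζ : G) * m) := by
      calc m⁻¹ * (ζ : G) * m * z' = m⁻¹ * ((ζ : G) * (m * z' * m⁻¹)) * m := by group
        _ = m⁻¹ * ((m * z' * m⁻¹) * ζ) * m := by rw [d.commute_of_mem_Z hzT ζ.2]
        _ = _ := by group
    refine hzM _ ?_ ⟨1, ?_⟩
    · calc e ζ * z = g * ((m⁻¹ * (ζ : G) * m) * z') * g⁻¹ := by simp only [e, hz']; group
        _ = g * (z' * (m⁻¹ * (ζ : G) * m)) * g⁻¹ := by rw [h1]
        _ = _ := by simp only [e, hz']; group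
    · rw [pow_one, pow_two]
      calc e ζ * e ζ = g * ((m⁻¹ * (ζ : G) * m) * (m⁻¹ * (ζ : G) * m)) * g⁻¹ := by
            simp only [e]; group
        _ = 1 := by rw [d.sq_of_mem (hmem ζ), mul_one, mul_inv_cancel]
  have heQ : ∀ ζ : d.Z, e ζ ∈ O2 M → ζ = 1 := fun ζ hζ => by
    by_contra h1
    have h2 : orderOf (m⁻¹ * (ζ : G) * m) = 2 := by
      refine EPPOTwo.orderOf_eq_two (d.sq_of_mem (hmem ζ)) fun h => h1 (Subtype.ext ?_)
      have h' := congrArg (fun x => m * x * m⁻¹) h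
      simpa [mul_assoc] using h'
    refine hgM (both _ (hmem ζ) h2 fun v hv => ?_)
    calc g⁻¹ * v * g * (m⁻¹ * (ζ : G) * m) = g⁻¹ * (v * e ζ) * g := by simp only [e]; group
      _ = g⁻¹ * (e ζ * v) * g := by rw [d.Q_comm hv hζ]
      _ = _ := by simp only [e]; group
  have he1 : ∀ a b : d.Z, e (a * b) = e a * e b := fun a b => by
    simp only [e, Subgroup.coe_mul]; group
  let θ : d.Z × d.Z →* G := MonoidHom.mk' (fun p => (p.1 : G) * e p.2) fun p p' => by
    show ((p.1 * p'.1 : d.Z) : G) * e (p.2 * p'.2) = _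
    rw [he1, Subgroup.coe_mul]
    calc (p.1 : G) * p'.1 * (e p.2 * e p'.2) = p.1 * ((p'.1 : G) * e p.2) * e p'.2 := by group
      _ = p.1 * (e p.2 * p'.1) * e p'.2 := by rw [d.commute_of_mem_Z (heT p.2) p'.1.2]
      _ = _ := by group
  have hθ : Function.Injective θ := (injective_iff_map_eq_one θ).2 fun p hp => by
    have hp' : (p.1 : G) * e p.2 = 1 := hp
    have h2 : p.2 = 1 := heQ _ (by
      rw [show e p.2 = (p.1 : G)⁻¹ from eq_inv_of_mul_eq_one_right hp']
      exact inv_mem p.1.2.1)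
    have h1 : e p.2 = 1 := by simp [e, h2]
    rw [h1, mul_one] at hp'
    exact Prod.ext (Subtype.ext hp') h2
  have hcardE : Nat.card θ.range = Nat.card (O2 M) := by
    rw [← Nat.card_congr (MonoidHom.ofInjective hθ).toEquiv, Nat.card_prod, d.card_Z, d.card_Q,
      ← pow_add, two_mul]
  have hE := hA θ.range (by rintro _ ⟨p, rfl⟩; exact mul_mem (d.Q_le p.1.2.1) (heT p.2))
    (by
      rintro _ ⟨p, rfl⟩
      rw [← map_mul, show p * p = 1 from Prod.ext (Subtype.ext (d.sq_of_mem p.1.2.1))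
        (Subtype.ext (d.sq_of_mem p.2.2.1)), map_one])
    hcardE.ge
  exact ne_of_apply_ne orderOf (by rw [hz2, orderOf_one]; norm_num : orderOf z ≠ orderOf (1 : G))
    (congrArg Subtype.val (heQ ⟨z, hz⟩ (hE ▸ ⟨(1, ⟨z, hz⟩), by
      show ((1 : d.Z) : G) * _ = _
      rw [Subgroup.coe_one, one_mul]⟩)))

end Nat2

end CfsgLib.Recog.CIT.L2
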