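import Cfsg.Agent.Lib.Recog.CIT.LocalL2Two
import Cfsg.Agent.Lib.Recog.SL2Char2
import Cfsg.Agent.Lib.Transfer.ThompsonTransfer
import Cfsg.Agent.Lib.Involutions.StrongEmb

/-!
No element of the group maps the radical to the second elementary abelian subgroup of a Sylow
2-subgroup: the field would have four elements and the Thompson transfer would give a conjugate
of the swapping involution in the centre, which is impossible.
-/

set_option autoImplicit false
set_option linter.style.haveILetI false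
set_option linter.unusedSectionVars false

namespace CfsgLib.Recog.CIT.L2

open Matrix Matrix.SpecialLinearGroup CfsgLib.Classical CfsgLib.LocalEven
open EPPOTwo (O2 IsTwo)

universe u

variable {G : Type u} [Group G] [Finite G]

theorem O2_map_le (g : G) (M : Subgroup G) :
    (O2 M).map (MulAut.conj g).toMonoidHom ≤ O2 (M.map (MulAut.conj g).toMonoidHom) := by
  refine Base.le_map_pCore (Subgroup.map_mono (EPPOTwo.O2_le M)) ?_
    ((Base.isPGroup_map_pCore 2 M).map _)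
  rintro _ ⟨m, hm, rfl⟩
  refine Subgroup.mem_normalizer_fintype ?_
  rintro _ ⟨v, hv, rfl⟩
  exact ⟨m * v * m⁻¹, conj_mem_O2 hm hv, by simp [mul_assoc]⟩

theorem O2_map_eq (g : G) (M : Subgroup G) :
    O2 (M.map (MulAut.conj g).toMonoidHom) = (O2 M).map (MulAut.conj g).toMonoidHom := by
  refine le_antisymm (fun x hx => ?_) (O2_map_le g M)
  have hM : (M.map (MulAut.conj g).toMonoidHom).map (MulAut.conj g⁻¹).toMonoidHom = M := by
    ext y
    simp [mul_assoc]
  have h1 : g⁻¹ * x * g⁻¹⁻¹ ∈ O2 M := hM ▸ O2_map_le g⁻¹ _ ⟨x, hx, rfl⟩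
  exact ⟨g⁻¹ * x * g⁻¹⁻¹, h1, by simp [mul_assoc]⟩

theorem loc_map {M : Subgroup G} (hM : Loc M) (g : G) :
    Loc (M.map (MulAut.conj g).toMonoidHom) := by
  refine ⟨fun e => hM.nt ?_, fun K hK hnt => ?_⟩
  · rw [O2_map_eq] at e
    exact (Subgroup.map_eq_bot_iff_of_injective _ (MulEquiv.injective _)).1 e
  · have h1 : K.map (MulAut.conj g⁻¹).toMonoidHom = M := by
      refine hM.max _ (fun m hm => ⟨g * m * g⁻¹, hK ⟨m, hm, rfl⟩, by simp [mul_assoc]⟩) fun e => ?_
      rw [O2_map_eq] at e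
      exact hnt ((Subgroup.map_eq_bot_iff_of_injective _ (MulEquiv.injective _)).1 e)
    rw [← h1]
    ext y
    simp [mul_assoc]

/-- Transport of coordinates along a conjugation fixing `T`. -/
def Nat2.transport {M T : Subgroup G} {F : Type} [Field F] {k : ℕ} (d : Nat2 M T F k) (s : G)
    (hs : ∀ t : G, s⁻¹ * t * s ∈ T ↔ t ∈ T) :
    Nat2 (M.map (MulAut.conj s).toMonoidHom) T F k where
  r g := d.r (s⁻¹ * g * s)
  f g := d.f (s⁻¹ * g * s)
  loc := loc_map d.loc s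
  r_mul {a b} ha hb := by
    rw [← d.r_mul (Involutions.mem_conj_map.1 ha) (Involutions.mem_conj_map.1 hb)]
    congr 1
    group
  r_surj g := by
    obtain ⟨m, hm, rfl⟩ := d.r_surj g
    exact ⟨s * m * s⁻¹, ⟨m, hm, rfl⟩, congrArg d.r (by group)⟩
  r_eq_one {m} hm := by
    rw [d.r_eq_one (Involutions.mem_conj_map.1 hm), O2_map_eq, Involutions.mem_conj_map]
  f_mul {v w} hv hw := by
    rw [O2_map_eq, Involutions.mem_conj_map] at hv hw
    rw [← d.f_mul hv hw]
    congr 1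
    group
  f_inj {v w} hv hw h := by
    rw [O2_map_eq, Involutions.mem_conj_map] at hv hw
    exact mul_left_cancel (mul_right_cancel (d.f_inj hv hw h))
  f_surj c := by
    obtain ⟨v, hv, rfl⟩ := d.f_surj c
    exact ⟨s * v * s⁻¹, O2_map_le s M ⟨v, hv, rfl⟩, congrArg d.f (by group)⟩
  act {m v} hm hv i := by
    rw [O2_map_eq, Involutions.mem_conj_map] at hv
    show d.f (s⁻¹ * (m * v * m⁻¹) * s) i = _
    rw [← d.act (Involutions.mem_conj_map.1 hm) hv]
    refine congrArg (fun z => d.f z i) ?_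
    group
  mem_T {m} := by
    rw [← hs, d.mem_T, Involutions.mem_conj_map]

theorem mem_conj_of_mem {T : Subgroup G} {s : G} (hs : ∀ t ∈ T, s * t * s⁻¹ ∈ T) (t : G) :
    s⁻¹ * t * s ∈ T ↔ t ∈ T := by
  refine ⟨fun h => ?_, fun h => ?_⟩
  · simpa [mul_assoc] using hs _ h
  · have h1 := inv_mem (Subgroup.mem_normalizer_fintype (S := (T : Set G)) hs)
    simpa using (Subgroup.mem_normalizer_iff.1 h1 t).1 h

variable {M T : Subgroup G} {F : Type} [Field F] [Finite F] [CharP F 2] {d : Nat2 M T F 1}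
  {A : Subgroup G}

theorem Nat2.card_T (d : Nat2 M T F 1) : Nat.card T = Nat.card (O2 M) * Nat.card F := by
  let φ : T →* Matrix.SpecialLinearGroup (Fin 2) F :=
    MonoidHom.mk' (fun x => d.r x.1) fun a b => d.r_mul (d.T_le a.2) (d.T_le b.2)
  have hker : φ.ker = (O2 M).subgroupOf T := by
    ext x
    rw [MonoidHom.mem_ker, Subgroup.mem_subgroupOf, ← d.r_eq_one (d.T_le x.2)]
    rfl
  have hrange : φ.range = uSubgroup F := by
    ext g
    rw [mem_uSubgroup_iff]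
    constructor
    · rintro ⟨x, rfl⟩
      obtain ⟨-, a, ha⟩ := d.mem_T.1 x.2
      exact ⟨a, ha.symm⟩
    · rintro ⟨a, rfl⟩
      obtain ⟨m, hm, hr⟩ := d.r_surj (uSL a)
      exact ⟨⟨m, d.mem_T.2 ⟨hm, a, hr⟩⟩, hr⟩
  rw [← φ.ker.card_mul_index, Subgroup.index_ker, hrange, card_uSubgroup, hker,
    Nat.card_congr (Subgroup.subgroupOfEquivOfLe d.Q_le).toEquiv]

/-- Conjugation by `M` is transitive on the nontrivial elements of the radical. -/
theorem Nat2.transQ (d : Nat2 M T F 1) {u v : G} (hu : u ∈ O2 M) (hv : v ∈ O2 M) (hu1 : u ≠ 1)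
    (hv1 : v ≠ 1) : ∃ g ∈ M, g * u * g⁻¹ = v := by
  have key : ∀ w ∈ O2 M, w ≠ 1 → ∃ g : Matrix.SpecialLinearGroup (Fin 2) F,
      g.1.mulVec ![1, 0] = d.f w 0 := by
    intro w hw hw1
    by_cases h0 : d.f w 0 0 = 0
    · have h1 : d.f w 0 1 ≠ 0 := fun h1 => hw1 (d.f_eq_zero hw (funext fun i => funext fun j => by
        fin_cases i
        fin_cases j
        · exact h0
        · exact h1))
      refine ⟨⟨!![0, (d.f w 0 1)⁻¹; d.f w 0 1, 0], by
        simp [Matrix.det_fin_two, h1, CharTwo.neg_eq]⟩, ?_⟩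
      ext j
      fin_cases j <;> simp [Matrix.mulVec, dotProduct, Fin.sum_univ_two, h0]
    · refine ⟨⟨!![d.f w 0 0, 0; d.f w 0 1, (d.f w 0 0)⁻¹], by simp [Matrix.det_fin_two, h0]⟩, ?_⟩
      ext j
      fin_cases j <;> simp [Matrix.mulVec, dotProduct, Fin.sum_univ_two]
  obtain ⟨a, ha⟩ := key u hu hu1
  obtain ⟨b, hb⟩ := key v hv hv1
  obtain ⟨g, hgM, hg⟩ := d.r_surj (b * a⁻¹)
  refine ⟨g, hgM, d.f_inj (conj_mem_O2 hgM hu) hv (funext fun i => ?_)⟩
  obtain rfl : i = 0 := Subsingleton.elim _ _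
  rw [d.act hgM hu, hg, ← ha, Matrix.mulVec_mulVec, ← coe_mul, inv_mul_cancel_right, hb]

namespace Two

variable (h : Two d A)
include h

theorem card_T_le : Nat.card T = Nat.card F ^ 3 := by
  rw [d.card_T, d.card_Q, mul_one, ← pow_succ]

theorem conj_mem_A {t a : G} (ht : t ∈ T) (ha : a ∈ A) : t * a * t⁻¹ ∈ A := by
  obtain ⟨e, he, v, hv, rfl⟩ := h.exists_mul ht
  suffices hva : v * a * v⁻¹ ∈ A by
    rw [show e * v * a * (e * v)⁻¹ = e * (v * a * v⁻¹) * e⁻¹ by group]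
    exact mul_mem (mul_mem he hva) (inv_mem he)
  by_cases haQ : a ∈ O2 M
  · rwa [d.Q_comm hv haQ, mul_inv_cancel_right]
  have hai : a⁻¹ = a := inv_eq_of_mul_eq_one_right (h.sq a ha)
  have hvi : v⁻¹ = v := inv_eq_of_mul_eq_one_right (d.sq_of_mem hv)
  have hw : a * v * a ∈ O2 M := by
    have := conj_mem_O2 (d.T_le (h.le ha)) hv
    rwa [hai] at this
  have hc : v * (a * v * a) ∈ d.Z := d.mem_Z_of_commute (h.le ha) haQ (mul_mem hv hw) (by
    calc a * (v * (a * v * a)) = (a * v * a) * v * a := by group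
      _ = v * (a * v * a) * a := by rw [d.Q_comm hw hv])
  have := mul_mem (h.Z_le hc) ha
  rw [show v * (a * v * a) * a = v * a * v * (a * a) by group, h.sq a ha, mul_one] at this
  rwa [hvi]

theorem mul_mem_of_conj {s : G} (hsT : ∀ t ∈ T, s * t * s⁻¹ ∈ T) {g : G}
    (hg : ∀ v ∈ O2 M, g * v * g⁻¹ ∈ T) (hg' : ∀ a ∈ A, g * a * g⁻¹ ∈ T) {t : G} (ht : t ∈ T) :
    s * (g * t * g⁻¹) * s⁻¹ ∈ T := by
  obtain ⟨e, he, v, hv, rfl⟩ := h.exists_mul ht
  refine hsT _ ?_
  rw [show g * (e * v) * g⁻¹ = g * e * g⁻¹ * (g * v * g⁻¹) by group]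
  exact mul_mem (hg' e he) (hg v hv)

/-- An elementary abelian subgroup of `T` centralised by a swap is small. -/
theorem le_Z_of_swap {s : G} (hsQ : (O2 M).map (MulAut.conj s).toMonoidHom = A)
    (hsA : A.map (MulAut.conj s).toMonoidHom = O2 M) {E : Subgroup G} (hE : E ≤ T)
    (hE2 : ∀ a ∈ E, a * a = 1) (hc : ∀ a ∈ E, s * a * s⁻¹ = a) : E ≤ d.Z := by
  intro a ha
  have hfix := hc a ha
  rcases h.le_or_le hE hE2 with hle | hle
  · have : a ∈ A := hfix ▸ hsQ ▸ ⟨a, hle ha, rfl⟩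
    exact h.inf a this (hle ha)
  · have : a ∈ O2 M := hfix ▸ hsA ▸ ⟨a, hle ha, rfl⟩
    exact h.inf a (hle ha) this

/-- Nothing maps the radical to `A`. -/
theorem not_conj (hc : Ctx G) (hF : 4 ≤ Nat.card F) (g : G) :
    (O2 M).map (MulAut.conj g).toMonoidHom ≠ A := by
  classical
  intro hg
  haveI : Fact (Nat.Prime 2) := ⟨Nat.prime_two⟩
  haveI : Fact (Nat.Prime 3) := ⟨Nat.prime_three⟩
  haveI := hc.simple
  -- replace `g` by an element normalising `T`
  have hgT : ∀ t ∈ T, g⁻¹ * t * g ∈ M := fun t ht => mem_of_normalizes d.loc fun v hv => by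
    have h1 : t * (g * v * g⁻¹) * t⁻¹ ∈ A := h.conj_mem_A ht (hg ▸ ⟨v, hv, rfl⟩)
    obtain ⟨w, hw, hwe⟩ := (hg.symm ▸ h1 : t * (g * v * g⁻¹) * t⁻¹ ∈ (O2 M).map (MulAut.conj g).toMonoidHom)
    simp only [MulEquiv.coe_toMonoidHom, MulAut.conj_apply] at hwe
    rw [show g⁻¹ * t * g * v * (g⁻¹ * t * g)⁻¹ = g⁻¹ * (t * (g * v * g⁻¹) * t⁻¹) * g by group,
      ← hwe]
    simpa [mul_assoc] using hw
  obtain ⟨m, hmM, hm⟩ := d.exists_conj_le (isPGroup_conjBack d.isPGroup_T g) (fun x hx => by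
    have := hgT _ (mem_conjBack.1 hx)
    simpa [mul_assoc] using this)
  obtain ⟨s₀, hs₀T, hs₀Q⟩ : ∃ s₀ : G, (∀ t ∈ T, s₀ * t * s₀⁻¹ ∈ T) ∧
      (O2 M).map (MulAut.conj s₀).toMonoidHom = A := by
    have h1 : ∀ t ∈ T, (g * m⁻¹)⁻¹ * t * (g * m⁻¹) ∈ T := fun t ht => by
      have := hm (g⁻¹ * t * g) (mem_conjBack.2 (by simpa [mul_assoc] using ht))
      simpa [mul_assoc] using this
    have h2 : (g * m⁻¹)⁻¹ ∈ Subgroup.normalizer (T : Set G) :=
      Subgroup.mem_normalizer_fintype (by simpa using h1)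
    refine ⟨g * m⁻¹, fun t ht => (Subgroup.mem_normalizer_iff.1 (inv_mem_iff.1 h2) t).1 ht, ?_⟩
    rw [← hg]
    ext x
    simp only [Involutions.mem_conj_map]
    rw [show (g * m⁻¹)⁻¹ * x * (g * m⁻¹) = m * (g⁻¹ * x * g) * m⁻¹ by group]
    exact ⟨fun hx => by simpa [mul_assoc] using conj_mem_O2 (inv_mem hmM) hx,
      fun hx => conj_mem_O2 hmM hx⟩
  have hs₀A : A.map (MulAut.conj s₀).toMonoidHom = O2 M := by
    refine (h.map_eq (Or.inr rfl) fun v hv => hs₀T v (h.le hv)).resolve_right fun h' => h.not_le ?_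
    exact le_of_eq (Subgroup.map_injective (MulAut.conj s₀).injective (h'.trans hs₀Q.symm))
  -- the field has four elements
  let d₀ := d.transport s₀ (mem_conj_of_mem hs₀T)
  have hq : Nat.card F = 4 := le_antisymm
    (h.card_le_four d₀ (by rw [O2_map_eq, hs₀Q])) hF
  -- a torus element of order three
  haveI := Fintype.ofFinite F
  obtain ⟨l, hl0, hl1⟩ : ∃ l : F, l ≠ 0 ∧ l ≠ 1 :=
    SL2Higman.exists_ne_zero_one (n := 2) le_rfl (by rw [← Nat.card_eq_fintype_card, hq]; rfl)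
  have hcub : ∀ x : F, x ≠ 0 → x ^ 3 = 1 := fun x hx => by
    have h1 : x ^ Fintype.card F = x := FiniteField.pow_card x
    rw [← Nat.card_eq_fintype_card, hq, pow_succ] at h1
    exact mul_right_cancel₀ hx (h1.trans (one_mul x).symm)
  obtain ⟨δ, hδM, hδr⟩ := d.r_surj (SL2Natural.hSL l)
  have hδ3 : δ ^ 3 = 1 := by
    have hmem : δ ^ 3 ∈ O2 M := (d.r_eq_one (pow_mem hδM 3)).1 (by
      rw [d.r_pow hδM, hδr, pow_succ, pow_two, SL2Natural.hSL_mul hl0 hl0,
        SL2Natural.hSL_mul (mul_ne_zero hl0 hl0) hl0, show l * l * l = l ^ 3 by ring, hcub l hl0,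
        SL2Fpf.hSL_one])
    refine d.f_eq_zero hmem (funext fun i => ?_)
    have h1 := d.act hδM hmem i
    rw [show δ * δ ^ 3 * δ⁻¹ = δ ^ 3 by group, hδr, SL2Natural.hSL_coe hl0] at h1
    have e0 := congrFun h1 0
    have e1 := congrFun h1 1
    simp [Matrix.mulVec, dotProduct, Fin.sum_univ_two] at e0 e1
    ext j
    fin_cases j
    · by_contra hne
      exact hl1 (mul_right_cancel₀ hne (e0.symm.trans (one_mul _).symm))
    · by_contra hne
      exact hl1 (inv_eq_one.1 (mul_right_cancel₀ hne (e1.symm.trans (one_mul _).symm)))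
  have hδ1 : δ ≠ 1 := fun e => hl1 (by
    rw [e, d.r_one] at hδr
    have := congrArg (fun z : Matrix.SpecialLinearGroup (Fin 2) F => z.1 0 0) hδr
    simpa [SL2Natural.hSL_coe hl0] using this.symm)
  have hδo : orderOf δ = 3 := orderOf_eq_prime hδ3 hδ1
  have hδodd : Odd (orderOf δ) := by rw [hδo]; decide
  have hδT : ∀ t ∈ T, δ * t * δ⁻¹ ∈ T := fun t ht => by
    obtain ⟨htM, a, ha⟩ := d.mem_T.1 ht
    refine d.mem_T.2 ⟨mul_mem (mul_mem hδM htM) (inv_mem hδM), l ^ 2 * a, ?_⟩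
    rw [d.r_conj hδM htM, hδr, ha, SL2Natural.hSL_mul_uSL hl0, mul_inv_cancel_right]
  -- the normaliser of `T` inside `M`
  set K := M ⊓ Subgroup.normalizer (T : Set G) with hK
  have hKT : ∀ x ∈ K, ∃ t ∈ T, ∃ j : ℕ, x = t * δ ^ j := by
    intro x hx
    obtain ⟨hxM, hxn⟩ := hx
    obtain ⟨y, hy⟩ : ∃ y, d.r x * uSL 1 = uSL y * d.r x := by
      obtain ⟨e, he, hr⟩ := h.full 1
      obtain ⟨-, y, hy⟩ := d.mem_T.1 ((Subgroup.mem_normalizer_iff.1 hxn e).1 (h.le he))
      exact ⟨y, by rw [← hy, d.r_conj hxM (d.T_le (h.le he)), hr, inv_mul_cancel_right]⟩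
    have h10 : (d.r x).1 1 0 = 0 := by
      have := congrArg (fun z : Matrix.SpecialLinearGroup (Fin 2) F => z.1 1 1) hy
      simpa [uSL_coe, Matrix.mul_apply, Fin.sum_univ_two] using this
    have hdet := (d.r x).2
    rw [Matrix.det_fin_two, h10, mul_zero, sub_zero] at hdet
    have h00 : (d.r x).1 0 0 ≠ 0 := left_ne_zero_of_mul_eq_one hdet
    -- the diagonal is a power of `l`
    obtain ⟨j, hj⟩ : ∃ j : ℕ, (d.r x).1 0 0 = l ^ j := by
      by_cases e1 : (d.r x).1 0 0 = 1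
      · exact ⟨0, by rw [e1, pow_zero]⟩
      by_cases e2 : (d.r x).1 0 0 = l
      · exact ⟨1, by rw [e2, pow_one]⟩
      refine ⟨2, ?_⟩
      have h2 : (2 : F) = 0 := CharP.cast_eq_zero F 2
      have p1 : l ^ 2 + l + 1 = 0 := mul_left_cancel₀ (sub_ne_zero.2 hl1)
        (show (l - 1) * (l ^ 2 + l + 1) = (l - 1) * 0 by linear_combination hcub l hl0)
      have p2 : (d.r x).1 0 0 ^ 2 + (d.r x).1 0 0 + 1 = 0 := mul_left_cancel₀ (sub_ne_zero.2 e1)
        (show ((d.r x).1 0 0 - 1) * ((d.r x).1 0 0 ^ 2 + (d.r x).1 0 0 + 1) =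
          ((d.r x).1 0 0 - 1) * 0 by linear_combination hcub _ h00)
      have p3 : ((d.r x).1 0 0 - l) * ((d.r x).1 0 0 - l ^ 2) = 0 := by
        linear_combination p2 - (d.r x).1 0 0 * p1 + hcub l hl0
      exact sub_eq_zero.1 ((mul_eq_zero.1 p3).resolve_left (sub_ne_zero.2 e2))
    refine ⟨x * (δ ^ j)⁻¹, d.mem_T.2 ⟨mul_mem hxM (inv_mem (pow_mem hδM j)),
      (d.r x).1 0 1 * (d.r x).1 0 0, ?_⟩, j, by group⟩
    have hpow : ∀ i : ℕ, (d.r (δ ^ i)).1 = !![l ^ i, 0; 0, (l ^ i)⁻¹] := by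
      intro i
      induction i with
      | zero => simp [d.r_one, Matrix.one_fin_two]
      | succ i ih =>
        rw [pow_succ, d.r_mul (pow_mem hδM i) hδM, coe_mul, ih, hδr, SL2Natural.hSL_coe hl0]
        ext a b
        fin_cases a <;> fin_cases b <;> simp [Matrix.mul_apply, Fin.sum_univ_two, pow_succ, mul_comm]
    rw [d.r_mul hxM (inv_mem (pow_mem hδM j)), d.r_inv (pow_mem hδM j), mul_inv_eq_iff_eq_mul]
    refine Subtype.ext ?_
    rw [coe_mul, hpow, uSL_coe, ← hj]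
    ext a b
    fin_cases a <;> fin_cases b <;> simp [Matrix.mul_apply, Fin.sum_univ_two, h10, h00]
    exact eq_inv_of_mul_eq_one_right hdet
  -- every element of order three of `K` is conjugate under `T` to a power of `δ`
  have hconj : ∃ t ∈ T, ∃ j : ℕ, t⁻¹ * (s₀ * δ * s₀⁻¹) * t = δ ^ j := by
    have hs₀n : s₀ ∈ Subgroup.normalizer (T : Set G) := Subgroup.mem_normalizer_fintype hs₀T
    have hδn : δ ∈ Subgroup.normalizer (T : Set G) := Subgroup.mem_normalizer_fintype hδT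
    have hn := mul_mem (mul_mem hs₀n hδn) (inv_mem hs₀n)
    have hM : s₀ * δ * s₀⁻¹ ∈ M := by
      refine mem_of_normalizes d.loc fun v hv => ?_
      have h1 : (O2 M).map (MulAut.conj (δ : G)).toMonoidHom = O2 M :=
        Subgroup.eq_of_le_of_card_ge (by rintro _ ⟨w, hw, rfl⟩; exact conj_mem_O2 hδM hw)
          (Nat.card_congr ((O2 M).equivMapOfInjective _ (MulAut.conj δ).injective).toEquiv).le
      have hδA : A.map (MulAut.conj δ).toMonoidHom = A := by
        refine (h.map_eq (Or.inr rfl) fun w hw => hδT w (h.le hw)).resolve_left fun h' => h.not_le ?_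
        exact le_of_eq (Subgroup.map_injective (MulAut.conj δ).injective (h'.trans h1.symm))
      obtain ⟨a, ha, hae⟩ := (hs₀A.symm ▸ hv : v ∈ A.map (MulAut.conj s₀).toMonoidHom)
      have h2 : δ * a * δ⁻¹ ∈ A := hδA ▸ ⟨a, ha, rfl⟩
      rw [← hs₀A]
      exact ⟨δ * a * δ⁻¹, h2, by
        rw [← hae]; simp only [MulEquiv.coe_toMonoidHom, MulAut.conj_apply]; group⟩
    have hδK : δ ∈ K := ⟨hδM, hδn⟩
    have hxK : s₀ * δ * s₀⁻¹ ∈ K := ⟨hM, hn⟩
    -- a Sylow 3-subgroup of `K`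
    have hS3 : IsPGroup 3 ((Subgroup.zpowers δ).subgroupOf K) := by
      refine IsPGroup.comap_of_injective ?_ _ K.subtype_injective
      exact IsPGroup.of_card (n := 1) (by rw [Nat.card_zpowers, hδo, pow_one])
    have hmax : ∀ {P : Subgroup K}, IsPGroup 3 P → (Subgroup.zpowers δ).subgroupOf K ≤ P →
        P = (Subgroup.zpowers δ).subgroupOf K := fun {P} hP hle => by
      refine le_antisymm (fun p hp => ?_) hle
      obtain ⟨t, ht, j, hj⟩ := hKT p p.2
      have h1 : (⟨δ ^ j, pow_mem hδK j⟩ : K) ∈ P := hle (Subgroup.npow_mem_zpowers δ j)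
      have h2 := mul_mem hp (inv_mem h1)
      obtain ⟨i, hi⟩ := hP ⟨_, h2⟩
      obtain ⟨k, hk⟩ := d.isPGroup_T ⟨t, ht⟩
      have e1 : t ^ 3 ^ i = 1 := by
        have := congrArg (fun z : P => ((z : K) : G)) hi
        simp only [SubmonoidClass.coe_pow, Subgroup.coe_mul, Subgroup.coe_inv, OneMemClass.coe_one] at this
        rwa [hj, mul_inv_cancel_right] at this
      have e2 : t = 1 := orderOf_eq_one_iff.1 (Nat.eq_one_of_dvd_coprimes
        (((Nat.coprime_primes Nat.prime_three Nat.prime_two).2 (by norm_num)).pow i k)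
        (orderOf_dvd_of_pow_eq_one e1) (orderOf_dvd_of_pow_eq_one (congrArg Subtype.val hk)))
      rw [Subgroup.mem_subgroupOf, hj, e2, one_mul]
      exact Subgroup.npow_mem_zpowers δ j
    let S3 : Sylow 3 K := ⟨_, hS3, hmax⟩
    have hx3 : IsPGroup 3 (Subgroup.zpowers (⟨_, hxK⟩ : K)) := by
      refine IsPGroup.of_card (n := 1) ?_
      rw [Nat.card_zpowers, ← Subgroup.orderOf_coe, pow_one]
      exact (SemiconjBy.conj_mk s₀ δ).orderOf_eq.symm.trans hδo
    obtain ⟨S, hS⟩ := hx3.exists_le_sylow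
    obtain ⟨k, hk⟩ := MulAction.exists_smul_eq K S S3
    have h1 : k * ⟨_, hxK⟩ * k⁻¹ ∈ ((k • S : Sylow 3 K) : Subgroup K) := by
      rw [Sylow.coe_subgroup_smul]
      exact ⟨_, hS (Subgroup.mem_zpowers _), rfl⟩
    rw [hk] at h1
    obtain ⟨j, hj⟩ := mem_powers_iff_mem_zpowers.2
      (show (k : G) * (s₀ * δ * s₀⁻¹) * (k : G)⁻¹ ∈ Subgroup.zpowers δ from h1)
    obtain ⟨t, ht, i, hi⟩ := hKT _ (inv_mem k.2)
    refine ⟨t, ht, j, ?_⟩
    have hi' : t = (k : G)⁻¹ * (δ ^ i)⁻¹ := by rw [hi, mul_inv_cancel_right]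
    have hj' : (k : G) * (s₀ * δ * s₀⁻¹) * (k : G)⁻¹ = δ ^ j := hj.symm
    calc t⁻¹ * (s₀ * δ * s₀⁻¹) * t = δ ^ i * ((k : G) * (s₀ * δ * s₀⁻¹) * (k : G)⁻¹) * (δ ^ i)⁻¹ := by
          rw [hi']; group
      _ = δ ^ i * δ ^ j * (δ ^ i)⁻¹ := by rw [hj']
      _ = δ ^ j := by rw [← pow_add, add_comm, pow_add, mul_inv_cancel_right]
  obtain ⟨t₁, ht₁, j, hj⟩ := hconj
  -- the swapping involution
  set s := t₁⁻¹ * s₀ with hs
  have hsT : ∀ t ∈ T, s * t * s⁻¹ ∈ T := fun t ht => by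
    rw [hs, show t₁⁻¹ * s₀ * t * (t₁⁻¹ * s₀)⁻¹ = t₁⁻¹ * (s₀ * t * s₀⁻¹) * t₁ by group]
    exact mul_mem (mul_mem (inv_mem ht₁) (hs₀T t ht)) ht₁
  have hsQ : (O2 M).map (MulAut.conj s).toMonoidHom = A := by
    refine (h.map_eq (Or.inl rfl) fun v hv => hsT v (d.Q_le hv)).resolve_left fun h' => h.not_le ?_
    intro a ha
    obtain ⟨v, hv, hve⟩ := (hs₀Q.symm ▸ ha : a ∈ (O2 M).map (MulAut.conj s₀).toMonoidHom)
    simp only [MulEquiv.coe_toMonoidHom, MulAut.conj_apply] at hve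
    have h1 : t₁⁻¹ * a * t₁ ∈ O2 M := h' ▸ ⟨v, hv, by simp [hs, ← hve, mul_assoc]⟩
    simpa [mul_assoc] using conj_mem_O2 (d.T_le ht₁) h1
  have hsA : A.map (MulAut.conj s).toMonoidHom = O2 M := by
    refine (h.map_eq (Or.inr rfl) fun v hv => hsT v (h.le hv)).resolve_right fun h' => h.not_le ?_
    exact le_of_eq (Subgroup.map_injective (MulAut.conj s).injective (h'.trans hsQ.symm))
  have hsM : s ∉ M := fun hsM => h.not_le (hsQ ▸ (by
    rintro _ ⟨v, hv, rfl⟩
    exact conj_mem_O2 hsM hv))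
  have hsδ : s * δ * s⁻¹ = δ ^ j := by rw [hs, ← hj]; group
  have hδpow : ∀ a : ℕ, a % 3 = 0 → δ ^ a = 1 := fun a ha =>
    orderOf_dvd_iff_pow_eq_one.1 (hδo.symm ▸ Nat.dvd_of_mod_eq_zero ha)
  have hs2M : s * s ∈ M := by
    have hmem : ∀ v ∈ O2 M, s * s * v * (s * s)⁻¹ ∈ O2 M := fun v hv => by
      have h1 : s * v * s⁻¹ ∈ A := hsQ ▸ ⟨v, hv, rfl⟩
      have h2 : s * (s * v * s⁻¹) * s⁻¹ ∈ O2 M := hsA ▸ ⟨_, h1, rfl⟩
      rwa [show s * s * v * (s * s)⁻¹ = s * (s * v * s⁻¹) * s⁻¹ by group]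
    exact mem_of_normalizes d.loc hmem
  -- `s` has 2-power square centralising `δ`, so is an involution
  have hsinv : s * s = 1 ∧ s * δ * s⁻¹ = δ⁻¹ := by
    have hss : Commute (s * s) δ := by
      have h1 : s * s * δ * (s * s)⁻¹ = δ ^ (j * j) := by
        rw [show s * s * δ * (s * s)⁻¹ = s * (s * δ * s⁻¹) * s⁻¹ by group, hsδ, ← conj_pow, hsδ,
          ← pow_mul]
      have hj3 : j * j % 3 = 1 := by
        have hj0 : j % 3 ≠ 0 := fun e => hδ1 (by
          rw [hδpow j e, conj_eq_one_iff] at hsδ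
          exact hsδ)
        rw [Nat.mul_mod]
        have := Nat.mod_lt j (show 0 < 3 by norm_num)
        interval_cases (j % 3) <;> simp_all
      have h2 : δ ^ (j * j) = δ := by rw [← pow_mod_orderOf, hδo, hj3, pow_one]
      rw [h2] at h1
      exact mul_inv_eq_iff_eq_mul.1 h1
    obtain ⟨t, ht, i, hi⟩ := hKT _ ⟨hs2M, mul_mem (Subgroup.mem_normalizer_fintype hsT)
      (Subgroup.mem_normalizer_fintype hsT)⟩
    have htc : Commute t δ := by
      have : t = s * s * (δ ^ i)⁻¹ := by rw [hi, mul_inv_cancel_right]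
      rw [this]
      exact hss.mul_left ((Commute.refl δ).pow_left i).inv_left
    have ht1 := hc.cit.eq_one_of_commute hδodd hδ1 (EPPOTwo.isTwo_of_mem d.isPGroup_T ht) htc.symm
    rw [ht1, one_mul] at hi
    -- a swap centralising `δ` would give an involution doing so
    have hnc : ¬ Commute s δ := fun hcs => by
      have h6 : s ^ 6 = 1 := by
        rw [show 6 = 2 * 3 by rfl, pow_mul, pow_two, hi, ← pow_mul, hδpow _ (by omega)]
      have h3 : s ^ 3 ≠ 1 := fun e => hsM (by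
        rw [show s = s ^ 3 * (s * s)⁻¹ by group, e, one_mul]
        exact inv_mem hs2M)
      exact h3 (hc.cit.eq_one_of_commute hδodd hδ1
        (EPPOTwo.isTwo_of_sq (by rw [← pow_add]; exact h6)) ((hcs.pow_left 3).symm))
    have hsd : s * δ * s⁻¹ = δ⁻¹ := by
      have hj0 : j % 3 ≠ 0 := fun e => hδ1 (by
        rw [hδpow j e, conj_eq_one_iff] at hsδ
        exact hsδ)
      have hj1 : j % 3 ≠ 1 := fun e => hnc (mul_inv_eq_iff_eq_mul.1 (by
        rw [hsδ, ← pow_mod_orderOf, hδo, e, pow_one]))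
      rw [hsδ, ← pow_mod_orderOf, hδo, show j % 3 = 2 by omega]
      refine eq_inv_of_mul_eq_one_left ?_
      rw [← pow_succ, hδ3]
    refine ⟨?_, hsd⟩
    rw [hi]
    have h1 : s * (δ ^ i) * s⁻¹ = δ ^ i := by rw [← hi]; group
    rw [← conj_pow, hsd, inv_pow] at h1
    have h2 : δ ^ (i + i) = 1 := by
      rw [pow_add]
      conv_lhs => arg 1; rw [← h1]
      rw [inv_mul_cancel]
    refine hδpow i ?_
    have := Nat.mod_eq_zero_of_dvd (hδo ▸ orderOf_dvd_of_pow_eq_one h2 : 3 ∣ i + i)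
    omega
  obtain ⟨hss, hsd⟩ := hsinv
  have hsi : s⁻¹ = s := inv_eq_of_mul_eq_one_right hss
  have hso : orderOf s = 2 := EPPOTwo.orderOf_eq_two hss fun e => hsM (e ▸ one_mem M)
  have hsT' : ∀ t ∈ T, s * t * s ∈ T := fun t ht => by
    have := hsT t ht
    rwa [hsi] at this
  -- the Sylow 2-subgroup `P`
  let P : Subgroup G :=
    { carrier := {x | x ∈ T ∨ x * s ∈ T}
      one_mem' := Or.inl (one_mem T)
      mul_mem' := fun {a b} ha hb => by
        rcases ha with ha | ha <;> rcases hb with hb | hb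
        · exact Or.inl (mul_mem ha hb)
        · exact Or.inr (by rw [mul_assoc]; exact mul_mem ha hb)
        · refine Or.inr ?_
          rw [show a * b * s = a * s * (s⁻¹ * b * s) by group, hsi]
          exact mul_mem ha (hsT' b hb)
        · refine Or.inl ?_
          rw [show a * b = a * s * (s⁻¹ * (b * s) * s⁻¹) by group, hsi]
          exact mul_mem ha (hsT' _ hb)
      inv_mem' := fun {a} ha => by
        rcases ha with ha | ha
        · exact Or.inl (inv_mem ha)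
        · refine Or.inr ?_
          rw [show a⁻¹ * s = s * (a * s)⁻¹ * s by rw [_root_.mul_inv_rev, hsi]; group; simp [hss]]
          exact hsT' _ (inv_mem ha) }
  have hTP : T ≤ P := fun t ht => Or.inl ht
  have hsP : s ∈ P := Or.inr (by rw [hss]; exact one_mem T)
  have hidx : T.relIndex P = 2 := by
    rw [Subgroup.relIndex, Subgroup.index_eq_two_iff]
    refine ⟨⟨s, hsP⟩, fun b => ?_⟩
    simp only [Subgroup.mem_subgroupOf, Subgroup.coe_mul]
    have hsT1 : s ∉ T := fun hh => hsM (d.T_le hh)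
    rcases (show (b : G) ∈ T ∨ (b : G) * s ∈ T from b.2) with hb | hb
    · exact Or.inr ⟨hb, fun h2 => hsT1 ((mul_mem_cancel_left hb).1 h2)⟩
    · exact Or.inl ⟨hb, fun h2 => hsT1 ((mul_mem_cancel_left h2).1 hb)⟩
  have hPp : IsPGroup 2 P := EPPOTwo.isPGroup_of_isTwo fun x hx => by
    have hx2 : x * x ∈ T := by
      rcases (show x ∈ T ∨ x * s ∈ T from hx) with h1 | h1
      · exact mul_mem h1 h1
      · rw [show x * x = x * s * (s⁻¹ * (x * s) * s⁻¹) by group, hsi]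
        exact mul_mem h1 (hsT' _ h1)
    obtain ⟨k, hk⟩ := EPPOTwo.isTwo_of_mem d.isPGroup_T hx2
    exact ⟨k + 1, by rw [pow_succ', pow_mul, pow_two, hk]⟩
  -- elements of `P` outside `T` swap the two subgroups
  have hswap : ∀ y ∈ P, y ∉ T → (O2 M).map (MulAut.conj y).toMonoidHom = A ∧
      A.map (MulAut.conj y).toMonoidHom = O2 M := by
    intro y hy hyT
    have hys : y * s ∈ T := hy.resolve_left hyT
    constructor
    · refine (h.map_eq (Or.inl rfl) fun v hv => ?_).resolve_left fun h' => h.not_le ?_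
      · rw [show y * v * y⁻¹ = y * s * (s⁻¹ * v * s) * (y * s)⁻¹ by group, hsi]
        exact mul_mem (mul_mem hys (hsT' v (d.Q_le hv))) (inv_mem hys)
      · intro a ha
        obtain ⟨v, hv, hve⟩ := (hsQ.symm ▸ ha : a ∈ (O2 M).map (MulAut.conj s).toMonoidHom)
        simp only [MulEquiv.coe_toMonoidHom, MulAut.conj_apply] at hve
        have h1 : y * v * y⁻¹ ∈ O2 M := h' ▸ ⟨v, hv, rfl⟩
        have h2 := conj_mem_O2 (inv_mem (d.T_le hys)) h1
        rw [← hve, hsi]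
        rw [show (y * s)⁻¹ * (y * v * y⁻¹) * (y * s)⁻¹⁻¹ = s⁻¹ * v * s by group, hsi] at h2
        exact h2
    · refine (h.map_eq (Or.inr rfl) fun v hv => ?_).resolve_right fun h' => h.not_le ?_
      · rw [show y * v * y⁻¹ = y * s * (s⁻¹ * v * s) * (y * s)⁻¹ by group, hsi]
        exact mul_mem (mul_mem hys (hsT' v (h.le hv))) (inv_mem hys)
      · intro a ha
        have h1 : y * a * y⁻¹ ∈ A := h' ▸ ⟨a, ha, rfl⟩
        have h2 := h.conj_mem_A (inv_mem hys) h1
        rw [show (y * s)⁻¹ * (y * a * y⁻¹) * (y * s)⁻¹⁻¹ = s⁻¹ * a * s by group, hsi] at h2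
        have h3 : s * (s * a * s) * s⁻¹ ∈ O2 M := hsA ▸ ⟨_, h2, rfl⟩
        rwa [show s * (s * a * s) * s⁻¹ = (s * s) * a by group, hss, one_mul] at h3
  -- no elementary subgroup of order sixteen meets `P \ T`
  have hel : ∀ E : Subgroup G, E ≤ P → (∀ a ∈ E, a * a = 1) → Nat.card E = 16 → E ≤ T := by
    intro E hEP hE2 hE16
    by_contra hnot
    obtain ⟨e, he, heT⟩ := SetLike.not_le_iff_exists.1 hnot
    obtain ⟨h1, h2⟩ := hswap e (hEP he) heT
    have hsub : E ⊓ T ≤ d.Z := h.le_Z_of_swap h1 h2 inf_le_right (fun a ha => hE2 a ha.1)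
      fun a ha => by rw [commute_of_sq hE2 he ha.1, mul_inv_cancel_right]
    have h3 : T.relIndex E ∣ 2 ∨ T.relIndex E ≤ 2 := Or.inr (hidx ▸
      Subgroup.relIndex_le_of_le_right hEP (by rw [hidx]; norm_num))
    have h4 : Nat.card ↥(E ⊓ T) * T.relIndex E = 16 := by
      rw [← hE16, ← Subgroup.inf_relIndex_left E T, ← Subgroup.relIndex_bot_left,
        ← Subgroup.relIndex_bot_left, Subgroup.relIndex_mul_relIndex _ _ _ bot_le inf_le_left]
    have h5 := Subgroup.card_le_of_le hsub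
    rw [d.card_Z, hq, pow_one] at h5
    rcases h3 with h3 | h3
    · have := Nat.le_of_dvd (by norm_num) h3
      nlinarith
    · nlinarith
  have hcardQ : Nat.card (O2 M) = 16 := by rw [d.card_Q, hq]; rfl
  have hPn : ∀ p : G, (∀ x ∈ P, p * x * p⁻¹ ∈ P) → ∀ t ∈ T, p * t * p⁻¹ ∈ T := by
    intro p hp t ht
    have hmap : ∀ E : Subgroup G, E ≤ T → (∀ a ∈ E, a * a = 1) → Nat.card E = 16 →
        ∀ a ∈ E, p * a * p⁻¹ ∈ T := fun E hET hE2 hE16 a ha =>
      hel (E.map (MulAut.conj p).toMonoidHom)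
        (by rintro _ ⟨x, hx, rfl⟩; exact hp x (hTP (hET hx)))
        (by rintro _ ⟨x, hx, rfl⟩; rw [← map_mul, hE2 x hx, map_one])
        (by rw [← Nat.card_congr (E.equivMapOfInjective _ (MulAut.conj p).injective).toEquiv, hE16])
        ⟨a, ha, rfl⟩
    have := h.mul_mem_of_conj (s := 1) (fun x hx => by simpa using hx)
      (hmap _ d.Q_le (fun a ha => d.sq_of_mem ha) hcardQ)
      (hmap A h.le h.sq (by rw [← h.card_Q_eq, hcardQ])) ht
    simpa using this
  -- it is a Sylow 2-subgroup of the group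
  have hPmax : ∀ {R : Subgroup G}, IsPGroup 2 R → P ≤ R → R = P := by
    intro R hR hle
    by_contra hne
    haveI := hR.isNilpotent
    have hlt : P.subgroupOf R < ⊤ := lt_top_iff_ne_top.2 fun h' =>
      hne (le_antisymm (Subgroup.subgroupOf_eq_top.1 h') hle)
    obtain ⟨⟨p, hp⟩, hpn, hpP⟩ :=
      SetLike.exists_of_lt (Group.normalizerCondition_of_isNilpotent _ hlt)
    have hpP' : ∀ x ∈ P, p * x * p⁻¹ ∈ P := fun x hx =>
      (Subgroup.mem_normalizer_iff.1 hpn ⟨x, hle hx⟩).1 hx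
    have hpT := hPn p hpP'
    rcases h.map_eq (Or.inl rfl) (fun v hv => hpT v (d.Q_le hv)) with h1 | h1
    · have hpM : p ∈ M := mem_of_normalizes d.loc fun v hv => h1 ▸ ⟨v, hv, rfl⟩
      have := d.T_max (hR.to_le (sup_le (hTP.trans hle) (Subgroup.zpowers_le.2 hp)))
        le_sup_left (sup_le d.T_le (Subgroup.zpowers_le.2 hpM))
      exact hpP (hTP (this ▸ (le_sup_right : _ ≤ T ⊔ Subgroup.zpowers p) (Subgroup.mem_zpowers p)))
    · have hpsM : p * s ∈ M := mem_of_normalizes d.loc fun v hv => by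
        have h2 : s * v * s⁻¹ ∈ A := hsQ ▸ ⟨v, hv, rfl⟩
        obtain ⟨a, ha, hae⟩ : ∃ a ∈ A, a = s * v * s⁻¹ := ⟨_, h2, rfl⟩
        have h3 : A.map (MulAut.conj p).toMonoidHom = O2 M :=
          (h.map_eq (Or.inr rfl) fun w hw => hpT w (h.le hw)).resolve_right fun h' => h.not_le
            (le_of_eq (Subgroup.map_injective (MulAut.conj p).injective (h'.trans h1.symm)))
        rw [show p * s * v * (p * s)⁻¹ = p * (s * v * s⁻¹) * p⁻¹ by group, ← hae]
        exact h3 ▸ ⟨a, ha, rfl⟩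
      have := d.T_max (hR.to_le (sup_le (hTP.trans hle) (Subgroup.zpowers_le.2 (mul_mem hp (hle hsP)))))
        le_sup_left (sup_le d.T_le (Subgroup.zpowers_le.2 hpsM))
      have hps : p * s ∈ T := this ▸
        (le_sup_right : _ ≤ T ⊔ Subgroup.zpowers (p * s)) (Subgroup.mem_zpowers (p * s))
      exact hpP (Or.inr hps)
  let SP : Sylow 2 G := ⟨P, hPp, hPmax⟩
  -- the fixed point of `s` in the centre
  have hsZ : ∀ z ∈ d.Z, s * z * s⁻¹ ∈ d.Z := fun z hz => h.inf _ (hsQ ▸ ⟨z, hz.1, rfl⟩)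
    (hsA ▸ ⟨z, h.Z_le hz, rfl⟩)
  obtain ⟨z₁, hz₁, hz₁1⟩ := d.exists_mem_Z
  obtain ⟨z₀, hz₀, hz₀1, hz₀s⟩ : ∃ z₀ ∈ d.Z, z₀ ≠ 1 ∧ s * z₀ * s⁻¹ = z₀ := by
    by_cases e : s * z₁ * s⁻¹ = z₁
    · exact ⟨z₁, hz₁, fun e1 => by simp [e1] at hz₁1, e⟩
    · refine ⟨z₁ * (s * z₁ * s⁻¹), mul_mem hz₁ (hsZ _ hz₁), fun e1 => e ?_, ?_⟩
      · rw [← mul_left_cancel_iff (a := z₁), e1, d.sq_of_mem hz₁.1]
      · rw [show s * (z₁ * (s * z₁ * s⁻¹)) * s⁻¹ = s * z₁ * s⁻¹ * (s * (s * z₁ * s⁻¹) * s⁻¹) by group,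
          show s * (s * z₁ * s⁻¹) * s⁻¹ = z₁ by simp [hsi, hss, mul_assoc]; rw [← mul_assoc, hss, one_mul],
          d.Q_comm (hsZ _ hz₁).1 hz₁.1]
  have hz₀o : orderOf z₀ = 2 := EPPOTwo.orderOf_eq_two (d.sq_of_mem hz₀.1) hz₀1
  have hsz : s * z₀ = z₀ * s := mul_inv_eq_iff_eq_mul.1 hz₀s
  have hz₀P : ∀ x ∈ P, x * z₀ = z₀ * x := fun x hx => by
    rcases (show x ∈ T ∨ x * s ∈ T from hx) with h1 | h1
    · exact d.commute_of_mem_Z h1 hz₀
    · calc x * z₀ = x * s * (s⁻¹ * z₀) := by group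
        _ = x * s * (z₀ * s⁻¹) := by rw [hsi, hsz]
        _ = z₀ * x := by rw [← mul_assoc, d.commute_of_mem_Z h1 hz₀]; group
  have hCP : ∀ x, x * z₀ = z₀ * x → x ∈ P := fun x hx => by
    have := hPmax (hc.cit z₀ hz₀o) fun y hy =>
      Subgroup.mem_centralizer_singleton_iff.2 (hz₀P y hy)
    exact this ▸ Subgroup.mem_centralizer_singleton_iff.2 hx
  -- `s` is conjugate to `z₀`
  obtain ⟨k, hk⟩ : ∃ k : G, k * s * k⁻¹ = z₀ := by
    by_cases hex : ∃ k : G, k * s * k⁻¹ ∈ T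
    · obtain ⟨k, hk⟩ := hex
      have hko : k * s * k⁻¹ ≠ 1 := fun e => hsM (conj_eq_one_iff.1 e ▸ one_mem M)
      have hk2 : k * s * k⁻¹ * (k * s * k⁻¹) = 1 := by
        rw [show k * s * k⁻¹ * (k * s * k⁻¹) = k * (s * s) * k⁻¹ by group, hss, mul_one, mul_inv_cancel]
      obtain ⟨k', hk'Q⟩ : ∃ k' : G, k' * s * k'⁻¹ ∈ O2 M := by
        rcases h.invol _ hk hk2 with hQ | hA
        · exact ⟨k, hQ⟩
        · refine ⟨s * k, ?_⟩
          rw [show s * k * s * (s * k)⁻¹ = s * (k * s * k⁻¹) * s⁻¹ by group]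
          exact hsA ▸ ⟨_, hA, rfl⟩
      obtain ⟨m', -, hm'⟩ := d.transQ hk'Q hz₀.1 (fun e => hsM (conj_eq_one_iff.1 e ▸ one_mem M)) hz₀1
      exact ⟨m' * k', by rw [← hm']; group⟩
    · push Not at hex
      obtain ⟨L, hLn, hLi, -⟩ :=
        Transfer.exists_index_two_of_not_conj_mem SP hTP hidx hso hex
      rcases hLn.eq_bot_or_eq_top with e | e
      · rw [e, Subgroup.index_bot] at hLi
        have h1 := Subgroup.card_le_card_group P
        have h2 : Nat.card (O2 M) ≤ Nat.card P := Subgroup.card_le_of_le (d.Q_le.trans hTP)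
        omega
      · rw [e, Subgroup.index_top] at hLi
        omega
  -- the image of `z₀`
  set y := k * z₀ * k⁻¹ with hy
  have hy2 : y * y = 1 := by
    rw [hy, show k * z₀ * k⁻¹ * (k * z₀ * k⁻¹) = k * (z₀ * z₀) * k⁻¹ by group, d.sq_of_mem hz₀.1,
      mul_one, mul_inv_cancel]
  have hyP : y ∈ P := hCP _ (by
    rw [hy]
    conv_lhs => arg 2; rw [← hk]
    conv_rhs => arg 1; rw [← hk]
    calc k * z₀ * k⁻¹ * (k * s * k⁻¹) = k * (z₀ * s) * k⁻¹ := by group
      _ = k * (s * z₀) * k⁻¹ := by rw [hsz]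
      _ = _ := by group)
  -- elements of `P` commuting with `y` come from elements of `P` commuting with `s`
  have hback : ∀ x ∈ P, x * y = y * x → k⁻¹ * x * k ∈ P ∧ k⁻¹ * x * k * s = s * (k⁻¹ * x * k) := by
    intro x hx hxy
    constructor
    · refine hCP _ ?_
      calc k⁻¹ * x * k * z₀ = k⁻¹ * (x * y) * k := by rw [hy]; group
        _ = k⁻¹ * (y * x) * k := by rw [hxy]
        _ = _ := by rw [hy]; group
    · calc k⁻¹ * x * k * s = k⁻¹ * (x * (k * s * k⁻¹)) * k := by group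
        _ = k⁻¹ * ((k * s * k⁻¹) * x) * k := by rw [hk, hz₀P x hx]
        _ = _ := by group
  by_cases hyT : y ∈ T
  · -- a group of order sixteen would centralise the swap
    obtain ⟨E, hET, hE2, hE16, hyE⟩ : ∃ E : Subgroup G, E ≤ T ∧ (∀ a ∈ E, a * a = 1) ∧
        Nat.card E = 16 ∧ y ∈ E := by
      rcases h.invol y hyT hy2 with e | e
      · exact ⟨O2 M, d.Q_le, fun a ha => d.sq_of_mem ha, hcardQ, e⟩
      · exact ⟨A, h.le, h.sq, by rw [← h.card_Q_eq, hcardQ], e⟩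
    set E' := E.map (MulAut.conj k⁻¹).toMonoidHom with hE'
    have hcard' : Nat.card E' = 16 := by
      rw [hE', ← Nat.card_congr (E.equivMapOfInjective _ (MulAut.conj k⁻¹).injective).toEquiv, hE16]
    have hmem : ∀ a ∈ E', a ∈ P ∧ a * s = s * a := by
      rintro _ ⟨a, ha, rfl⟩
      have := hback a (hTP (hET ha)) (commute_of_sq hE2 ha hyE)
      simpa using this
    have hE'2 : ∀ a ∈ E', a * a = 1 := by
      rintro _ ⟨a, ha, rfl⟩
      rw [← map_mul, hE2 a ha, map_one]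
    have h1 := h.le_Z_of_swap hsQ hsA (hel E' (fun a ha => (hmem a ha).1) hE'2 hcard') hE'2
      fun a ha => by rw [← (hmem a ha).2, mul_inv_cancel_right]
    have h2 := Subgroup.card_le_of_le h1
    rw [hcard', d.card_Z, hq] at h2
    omega
  · -- the centraliser of `s` in `T` would be elementary
    obtain ⟨hyQ, hyA⟩ := hswap y hyP hyT
    have hys := hyP.resolve_left hyT
    have hfixs : ∀ z ∈ d.Z, s * z * s⁻¹ = z → z = 1 ∨ z = z₀ := by
      intro z hz hzs
      rcases eq_or_ne z 1 with e | hz1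
      · exact Or.inl e
      right
      -- `z` is a conjugate of `z₀` under the powers of `δ`
      have hc0 : ∀ w ∈ d.Z, w ≠ 1 → d.f w 0 0 ≠ 0 := fun w hw hw1 e => hw1 (d.f_eq_zero hw.1
        (funext fun i => funext fun j => by fin_cases i; fin_cases j; exacts [e, hw.2 0]))
      obtain ⟨i, hi⟩ : ∃ i : ℕ, δ ^ i * z₀ * (δ ^ i)⁻¹ = z := by
        have hstep : ∀ i : ℕ, δ ^ i * z₀ * (δ ^ i)⁻¹ ∈ O2 M ∧
            d.f (δ ^ i * z₀ * (δ ^ i)⁻¹) 0 = ![l ^ i * d.f z₀ 0 0, 0] := by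
          intro i
          induction i with
          | zero =>
            simp only [pow_zero, one_mul, inv_one, mul_one]
            refine ⟨hz₀.1, funext fun j => ?_⟩
            fin_cases j <;> simp [hz₀.2 0]
          | succ i ih =>
            rw [show δ ^ (i + 1) * z₀ * (δ ^ (i + 1))⁻¹ = δ * (δ ^ i * z₀ * (δ ^ i)⁻¹) * δ⁻¹ by
              rw [pow_succ']; group]
            refine ⟨conj_mem_O2 hδM ih.1, ?_⟩
            rw [d.act hδM ih.1, ih.2, hδr, SL2Natural.hSL_coe hl0]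
            ext j
            fin_cases j <;> simp [Matrix.mulVec, dotProduct, Fin.sum_univ_two, pow_succ']
            ring
        set c := d.f z 0 0 / d.f z₀ 0 0 with hcdef
        have hc' : c ≠ 0 := div_ne_zero (hc0 z hz hz1) (hc0 z₀ hz₀ hz₀1)
        obtain ⟨i, hi⟩ : ∃ i : ℕ, c = l ^ i := by
          by_cases e1 : c = 1
          · exact ⟨0, by rw [e1, pow_zero]⟩
          by_cases e2 : c = l
          · exact ⟨1, by rw [e2, pow_one]⟩
          refine ⟨2, ?_⟩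
          have p1 : l ^ 2 + l + 1 = 0 := mul_left_cancel₀ (sub_ne_zero.2 hl1)
            (show (l - 1) * (l ^ 2 + l + 1) = (l - 1) * 0 by linear_combination hcub l hl0)
          have p2 : c ^ 2 + c + 1 = 0 := mul_left_cancel₀ (sub_ne_zero.2 e1)
            (show (c - 1) * (c ^ 2 + c + 1) = (c - 1) * 0 by linear_combination hcub c hc')
          have p3 : (c - l) * (c - l ^ 2) = 0 := by
            linear_combination p2 - c * p1 + hcub l hl0
          exact sub_eq_zero.1 ((mul_eq_zero.1 p3).resolve_left (sub_ne_zero.2 e2))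
        refine ⟨i, d.f_inj (hstep i).1 hz.1 (funext fun a => ?_)⟩
        obtain rfl : a = 0 := Subsingleton.elim _ _
        rw [(hstep i).2, ← hi, hcdef, div_mul_cancel₀ _ (hc0 z₀ hz₀ hz₀1)]
        ext j
        fin_cases j <;> simp [hz.2 0]
      have h1 : s * δ ^ i * s⁻¹ = (δ ^ i)⁻¹ := by rw [← conj_pow, hsd, inv_pow]
      have h2 : (δ ^ i)⁻¹ * z₀ * δ ^ i = δ ^ i * z₀ * (δ ^ i)⁻¹ := by
        rw [hi]
        calc (δ ^ i)⁻¹ * z₀ * δ ^ i = (s * δ ^ i * s⁻¹) * (s * z₀ * s⁻¹) * (s * δ ^ i * s⁻¹)⁻¹ := by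
              rw [h1, hz₀s, inv_inv]
          _ = s * (δ ^ i * z₀ * (δ ^ i)⁻¹) * s⁻¹ := by group
          _ = z := by rw [hi, hzs]
      have h3 : Commute (δ ^ i * δ ^ i) z₀ := by
        calc δ ^ i * δ ^ i * z₀ = δ ^ i * (δ ^ i * z₀ * (δ ^ i)⁻¹) * δ ^ i := by group
          _ = δ ^ i * ((δ ^ i)⁻¹ * z₀ * δ ^ i) * δ ^ i := by rw [h2]
          _ = _ := by group
      have h4 : δ ^ (i + i) = 1 := by
        by_contra hne
        rw [pow_add] at hne
        refine hz₀1 (hc.cit.eq_one_of_commute ?_ hne (EPPOTwo.isTwo_of_sq (d.sq_of_mem hz₀.1)) h3)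
        rw [← pow_add]
        exact hδodd.of_dvd_nat (orderOf_pow_dvd _)
      have h5 : i % 3 = 0 := by
        have := Nat.mod_eq_zero_of_dvd (hδo ▸ orderOf_dvd_of_pow_eq_one h4 : 3 ∣ i + i)
        omega
      rw [← hi, hδpow i h5]
      simp
    have hfixZ : ∀ z ∈ d.Z, y * z * y⁻¹ = z → z = 1 ∨ z = z₀ := by
      intro z hz hzy
      refine hfixs z hz ?_
      have h1 := d.commute_of_mem_Z hys (hsZ z hz)
      calc s * z * s⁻¹ = (y * s) * (s * z * s⁻¹) * (y * s)⁻¹ := by rw [h1, mul_inv_cancel_right]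
        _ = y * ((s * s) * z * (s * s)⁻¹) * y⁻¹ := by group
        _ = z := by rw [hss, one_mul, inv_one, mul_one, hzy]
    -- squares in the centraliser of `s` in `T` are trivial
    have hsq : ∀ x ∈ T, x * s = s * x → x * x = 1 := by
      intro x hx hxs
      set x' := k * x * k⁻¹ with hx'
      have hx'P : x' ∈ P := hCP _ (by
        rw [hx', ← hk]
        calc k * x * k⁻¹ * (k * s * k⁻¹) = k * (x * s) * k⁻¹ := by group
          _ = k * (s * x) * k⁻¹ := by rw [hxs]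
          _ = _ := by group)
      have hx'y : x' * y = y * x' := by
        rw [hx', hy]
        calc k * x * k⁻¹ * (k * z₀ * k⁻¹) = k * (x * z₀) * k⁻¹ := by group
          _ = k * (z₀ * x) * k⁻¹ := by rw [d.commute_of_mem_Z hx hz₀]
          _ = _ := by group
      obtain ⟨τ, hτT, hτy, hττ⟩ : ∃ τ ∈ T, τ * y = y * τ ∧ x' * x' = τ * τ := by
        rcases (show x' ∈ T ∨ x' * s ∈ T from hx'P) with e | e
        · exact ⟨x', e, hx'y, rfl⟩
        · refine ⟨x' * y, ?_, ?_, ?_⟩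
          · rw [show x' * y = (x' * s) * (s⁻¹ * (y * s) * s⁻¹) by group, hsi]
            exact mul_mem e (hsT' _ (hyP.resolve_left hyT))
          · rw [mul_assoc, hy2, mul_one, hx'y, ← mul_assoc, hy2, one_mul]
          · calc x' * x' = x' * (x' * (y * y)) := by rw [hy2, mul_one]
              _ = x' * (x' * y * y) := by group
              _ = x' * (y * x' * y) := by rw [hx'y]
              _ = _ := by group
      obtain ⟨hτM, a, ha⟩ := d.mem_T.1 hτT
      have hτQ : τ * τ ∈ O2 M := (d.r_eq_one (mul_mem hτM hτM)).1 (by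
        rw [d.r_mul hτM hτM, ha, ← SL2Natural.uSL_add, CharTwo.add_self_eq_zero,
          SL2Natural.uSL_zero])
      have hτf : y * (τ * τ) * y⁻¹ = τ * τ := by
        rw [show y * (τ * τ) = τ * τ * y by rw [← mul_assoc, ← hτy, mul_assoc, ← hτy, mul_assoc],
          mul_inv_cancel_right]
      have hτZ : τ * τ ∈ d.Z := h.inf _ (hyQ ▸ ⟨_, hτQ, by simpa using hτf⟩) hτQ
      rw [← hττ] at hτZ hτf
      have hxx : x * x = k⁻¹ * (x' * x') * k := by rw [hx']; group
      rcases hfixZ _ hτZ hτf with e | e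
      · rw [hxx, e]; group
      · exfalso
        have hxs' : x * x = s := by rw [hxx, e, ← hk]; group
        exact hsM (hxs' ▸ d.T_le (mul_mem hx hx))
    -- but there is an element of that centraliser outside the centre
    obtain ⟨v, hv, hvZ⟩ : ∃ v ∈ O2 M, v ∉ d.Z := by
      by_contra hall
      push Not at hall
      have := Subgroup.card_le_of_le hall
      rw [hcardQ, d.card_Z, hq] at this
      omega
    have hv' : s * v * s⁻¹ ∈ A := hsQ ▸ ⟨v, hv, rfl⟩
    set x := v * (s * v * s⁻¹) with hx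
    have hxT : x ∈ T := mul_mem (d.Q_le hv) (h.le hv')
    set c := (s * x * s⁻¹)⁻¹ * x with hcdef
    have hvv := d.sq_of_mem hv
    have hvv' := h.sq _ hv'
    have hsxs : s * x * s⁻¹ = (s * v * s⁻¹) * v := by
      rw [hx, show s * (v * (s * v * s⁻¹)) * s⁻¹ = s * v * s⁻¹ * ((s * s) * v * (s * s)⁻¹) by group,
        hss, one_mul, inv_one, mul_one]
    have hcZ : c ∈ d.Z := by
      have e1 : c = v⁻¹ * ((s * v * s⁻¹)⁻¹ * v * (s * v * s⁻¹)) := by
        rw [hcdef, hsxs, hx]; group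
      have e2 : c = (v⁻¹ * (s * v * s⁻¹)⁻¹ * v) * (s * v * s⁻¹) := by
        rw [e1]; group
      refine h.inf _ (e2 ▸ mul_mem ?_ hv') (e1 ▸ mul_mem (inv_mem hv) ?_)
      · simpa using h.conj_mem_A (inv_mem (d.Q_le hv)) (inv_mem hv')
      · simpa using conj_mem_O2 (inv_mem (d.T_le (h.le hv'))) hv
    have hxc : s * x * s⁻¹ = x * c⁻¹ := by rw [hcdef]; group
    have hci : c⁻¹ = c := inv_eq_of_mul_eq_one_right (d.sq_of_mem hcZ.1)
    rw [hci] at hxc
    have hcs : s * c * s⁻¹ = c := by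
      have e : x = x * c * (s * c * s⁻¹) := by
        calc x = (s * s) * x * (s * s)⁻¹ := by rw [hss]; group
          _ = s * (s * x * s⁻¹) * s⁻¹ := by group
          _ = s * (x * c) * s⁻¹ := by rw [hxc]
          _ = (s * x * s⁻¹) * (s * c * s⁻¹) := by group
          _ = _ := by rw [hxc]
      rw [mul_assoc, left_eq_mul] at e
      exact (inv_eq_of_mul_eq_one_right e).symm.trans hci
    -- adjust by an element of the centre
    obtain ⟨z, hz, hzc⟩ : ∃ z ∈ d.Z, s * z * s⁻¹ = c * z := by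
      rcases hfixs c hcZ hcs with e | e
      · exact ⟨1, one_mem _, by simp [e]⟩
      set z := δ * z₀ * δ⁻¹ with hzdef
      have hz : z ∈ d.Z := ⟨conj_mem_O2 hδM hz₀.1, fun i => by
        rw [hzdef, d.act hδM hz₀.1, hδr, SL2Natural.hSL_coe hl0]
        simp [Matrix.mulVec, dotProduct, Fin.sum_univ_two, hz₀.2]⟩
      refine ⟨z, hz, ?_⟩
      have h1 := hfixs _ (mul_mem hz (hsZ z hz)) (by
        rw [show s * (z * (s * z * s⁻¹)) * s⁻¹ = s * z * s⁻¹ * ((s * s) * z * (s * s)⁻¹) by group,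
          hss, one_mul, inv_one, mul_one, d.Q_comm (hsZ z hz).1 hz.1])
      have hzz := d.sq_of_mem hz.1
      rcases h1 with h1 | h1
      · exfalso
        have h2 : s * z * s⁻¹ = z := by
          rw [← mul_left_cancel_iff (a := z), h1, hzz]
        have h3 : δ⁻¹ * z₀ * δ = z := by
          calc δ⁻¹ * z₀ * δ = (s * δ * s⁻¹) * (s * z₀ * s⁻¹) * (s * δ * s⁻¹)⁻¹ := by
                rw [hsd, hz₀s, inv_inv]
            _ = s * (δ * z₀ * δ⁻¹) * s⁻¹ := by group
            _ = z := h2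
        refine hz₀1 (hc.cit.eq_one_of_commute (x := δ * δ) ?_ ?_
          (EPPOTwo.isTwo_of_sq (d.sq_of_mem hz₀.1)) ?_)
        · rw [← pow_two]; exact hδodd.of_dvd_nat (orderOf_pow_dvd _)
        · intro e'
          exact hδ1 (eq_one_of_odd_isTwo hδodd (EPPOTwo.isTwo_of_sq e'))
        · calc δ * δ * z₀ = δ * (δ * z₀ * δ⁻¹) * δ := by group
            _ = δ * (δ⁻¹ * z₀ * δ) * δ := by rw [h3, hzdef]
            _ = _ := by group
      · rw [e, ← h1, d.Q_comm hz.1 (hsZ z hz).1, mul_assoc (s * z * s⁻¹) z z, hzz, mul_one]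
    have hxz : s * (x * z) * s⁻¹ = x * z := by
      rw [show s * (x * z) * s⁻¹ = s * x * s⁻¹ * (s * z * s⁻¹) by group, hxc, hzc]
      rw [← mul_assoc, mul_assoc x, d.sq_of_mem hcZ.1, mul_one]
    have hxzT : x * z ∈ T := mul_mem hxT (d.Q_le hz.1)
    have hxz2 := hsq _ hxzT (mul_inv_eq_iff_eq_mul.1 hxz).symm
    have hxZ : x * z ∈ d.Z := by
      refine h.le_Z_of_swap hsQ hsA (Subgroup.zpowers_le.2 hxzT) ?_ ?_ (Subgroup.mem_zpowers _)
      · intro a ha
        obtain ⟨i, rfl⟩ := Subgroup.mem_zpowers_iff.1 ha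
        rw [← ((Commute.refl (x * z)).mul_zpow i), hxz2, _root_.one_zpow]
      · intro a ha
        obtain ⟨i, rfl⟩ := Subgroup.mem_zpowers_iff.1 ha
        rw [← conj_zpow, hxz]
    have hxZ' : x ∈ d.Z := by simpa using mul_mem hxZ (inv_mem hz)
    have h1 : s * v * s⁻¹ ∈ d.Z := by
      refine h.inf _ hv' ?_
      rw [show s * v * s⁻¹ = v⁻¹ * x by rw [hx]; group]
      exact mul_mem (inv_mem hv) hxZ'.1
    refine hvZ ?_
    have h2 := hsZ _ h1
    rwa [show s * (s * v * s⁻¹) * s⁻¹ = (s * s) * v * (s * s)⁻¹ by group, hss, one_mul, inv_one,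
      mul_one] at h2

end Two

end CfsgLib.Recog.CIT.L2
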