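import Cfsg.Agent.Lib.Recog.CIT.LocalL2SE

/-!
The second elementary abelian subgroup of a Sylow 2-subgroup; two local subgroups sharing such a
Sylow subgroup force the field to have four elements.
-/

set_option autoImplicit false
set_option linter.style.haveILetI false
set_option linter.unusedSectionVars false

namespace CfsgLib.Recog.CIT.L2

open Matrix Matrix.SpecialLinearGroup CfsgLib.Classical CfsgLib.LocalEven
open EPPOTwo (O2 IsTwo)

universe u

variable {G : Type u} [Group G] [Finite G]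

variable {M T : Subgroup G} {F : Type} [Field F] [Finite F] [CharP F 2]

/-- The shape of a Sylow 2-subgroup: two elementary abelian subgroups of order `q²`. -/
structure Two (d : Nat2 M T F 1) (A : Subgroup G) : Prop where
  le : A ≤ T
  sq : ∀ a ∈ A, a * a = 1
  card : Nat.card A = Nat.card F ^ 2
  Z_le : d.Z ≤ A
  inf : ∀ v ∈ A, v ∈ O2 M → v ∈ d.Z
  full : ∀ a : F, ∃ e ∈ A, d.r e = uSL a
  invol : ∀ t ∈ T, t * t = 1 → t ∈ O2 M ∨ t ∈ A

theorem commute_of_sq {E : Subgroup G} (hE : ∀ a ∈ E, a * a = 1) {a b : G} (ha : a ∈ E)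
    (hb : b ∈ E) : a * b = b * a := by
  have h1 : a⁻¹ = a := inv_eq_of_mul_eq_one_right (hE a ha)
  have h2 : b⁻¹ = b := inv_eq_of_mul_eq_one_right (hE b hb)
  have h3 := inv_eq_of_mul_eq_one_right (hE _ (mul_mem ha hb))
  rw [_root_.mul_inv_rev, h1, h2] at h3
  exact h3.symm

/-- Existence of the second subgroup; the radical is then one natural module. -/
theorem exists_two {k : ℕ} (d : Nat2 M T F k) (hc : Ctx G) (hSE : SolvableSE G)
    (hF : 4 ≤ Nat.card F) : ∃ (d' : Nat2 M T F 1) (A : Subgroup G), Two d' A := by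
  classical
  obtain ⟨A, hAT, hsq, hle, hne⟩ := d.exists_elementary hc hSE hF
  obtain ⟨e, heA, heQ⟩ : ∃ e ∈ A, e ∉ O2 M := by
    by_contra h
    push Not at h
    exact hne (Subgroup.eq_of_le_of_card_ge h hle)
  have hinf : ∀ v ∈ A, v ∈ O2 M → v ∈ d.Z := fun v hv hvQ =>
    d.mem_Z_of_commute (hAT heA) heQ hvQ (commute_of_sq hsq heA hv)
  let ψ : A →* Matrix.SpecialLinearGroup (Fin 2) F :=
    MonoidHom.mk' (fun x => d.r x.1) fun a b => d.r_mul (d.T_le (hAT a.2)) (d.T_le (hAT b.2))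
  have hrange : ψ.range ≤ uSubgroup F := by
    rintro _ ⟨x, rfl⟩
    obtain ⟨-, a, ha⟩ := d.mem_T.1 (hAT x.2)
    exact mem_uSubgroup_iff.2 ⟨a, ha.symm⟩
  have hmul : Nat.card A = Nat.card ψ.ker * Nat.card ψ.range := by
    rw [← Subgroup.index_ker, Subgroup.card_mul_index]
  have hkZ : ∀ x : ψ.ker, ((x : A) : G) ∈ d.Z := fun x =>
    hinf _ (x : A).2 ((d.r_eq_one (d.T_le (hAT (x : A).2))).1 (MonoidHom.mem_ker.1 x.2))
  have hk1 : Nat.card ψ.ker ≤ Nat.card d.Z :=
    Nat.card_le_card_of_injective (fun x => (⟨_, hkZ x⟩ : d.Z)) fun x y h =>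
      Subtype.ext (Subtype.ext (congrArg Subtype.val h :))
  have hr1 : Nat.card ψ.range ≤ Nat.card F := (Subgroup.card_le_of_le hrange).trans_eq card_uSubgroup
  rw [d.card_Q] at hle
  rw [d.card_Z] at hk1
  have hkk : k = 1 := by
    have h1 : Nat.card F ^ (2 * k) ≤ Nat.card F ^ (k + 1) := by
      rw [pow_succ]
      exact hle.trans (hmul ▸ Nat.mul_le_mul hk1 hr1)
    have h2 := (Nat.pow_le_pow_iff_right (by omega : 1 < Nat.card F)).1 h1
    have := d.k_pos
    omega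
  subst hkk
  rw [pow_one] at hk1
  rw [mul_one] at hle
  have hq : 0 < Nat.card F := Nat.card_pos
  have hker : Nat.card ψ.ker = Nat.card F ∧ Nat.card ψ.range = Nat.card F := by
    have h1 : Nat.card F * Nat.card F ≤ Nat.card ψ.ker * Nat.card ψ.range := by
      rw [← pow_two, ← hmul]; exact hle
    constructor
    · refine le_antisymm hk1 (Nat.le_of_mul_le_mul_right (h1.trans ?_) hq)
      exact Nat.mul_le_mul_left _ hr1
    · refine le_antisymm hr1 (Nat.le_of_mul_le_mul_left (h1.trans ?_) hq)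
      exact Nat.mul_le_mul_right _ hk1
  have hZA : d.Z ≤ A := fun z hz => by
    have hbij : Function.Bijective (fun x : ψ.ker => (⟨_, hkZ x⟩ : d.Z)) :=
      (Nat.bijective_iff_injective_and_card _).2 ⟨fun x y h =>
        Subtype.ext (Subtype.ext (congrArg Subtype.val h :)), by rw [d.card_Z, hker.1, pow_one]⟩
    obtain ⟨x, hx⟩ := hbij.2 ⟨z, hz⟩
    have hx' : ((x : A) : G) = z := congrArg Subtype.val hx
    exact hx' ▸ (x : A).2
  have hfull : ∀ a : F, ∃ x ∈ A, d.r x = uSL a := fun a => by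
    have h := Subgroup.eq_of_le_of_card_ge hrange (by rw [card_uSubgroup, hker.2])
    obtain ⟨x, hx⟩ := (h ▸ mem_uSubgroup_iff.2 ⟨a, rfl⟩ : uSL a ∈ ψ.range)
    exact ⟨x, x.2, hx⟩
  refine ⟨d, A, hAT, hsq, by rw [hmul, hker.1, hker.2, pow_two], hZA, hinf, hfull, ?_⟩
  intro t ht htt
  by_cases htQ : t ∈ O2 M
  · exact Or.inl htQ
  refine Or.inr ?_
  obtain ⟨htM, a, ha⟩ := d.mem_T.1 ht
  obtain ⟨x, hxA, hx⟩ := hfull a
  have hxM := d.T_le (hAT hxA)
  have hxQ : x ∉ O2 M := fun h => htQ ((d.r_eq_one htM).1 (by rw [ha, ← hx, d.r_of_mem h]))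
  have hv : x * t ∈ O2 M := (d.r_eq_one (mul_mem hxM htM)).1 (by
    rw [d.r_mul hxM htM, hx, ha, ← SL2Natural.uSL_add, CharTwo.add_self_eq_zero,
      SL2Natural.uSL_zero])
  have hx' : x⁻¹ = x := inv_eq_of_mul_eq_one_right (hsq x hxA)
  have hvZ : x * t ∈ d.Z := d.mem_Z_of_commute (hAT hxA) hxQ hv (by
    have h1 := d.sq_of_mem hv
    calc x * (x * t) = t := by rw [← mul_assoc, hsq x hxA, one_mul]
      _ = t⁻¹ := (inv_eq_of_mul_eq_one_right htt).symm
      _ = (x * t) * x := by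
        rw [show t⁻¹ = (x * t)⁻¹ * x by group, inv_eq_of_mul_eq_one_right h1])
  have := mul_mem hxA (hZA hvZ)
  rwa [← mul_assoc, hsq x hxA, one_mul] at this

namespace Two

variable {d : Nat2 M T F 1} {A : Subgroup G} (h : Two d A)
include h

theorem not_le : ¬ A ≤ O2 M := fun hle => by
  obtain ⟨e, he, hr⟩ := h.full 1
  rw [d.r_of_mem (hle he), ← SL2Natural.uSL_zero] at hr
  exact one_ne_zero (d.uSL_injective hr.symm)

theorem card_Q_eq : Nat.card (O2 M) = Nat.card A := by rw [d.card_Q, h.card, mul_one]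

theorem exists_mul {t : G} (ht : t ∈ T) : ∃ e ∈ A, ∃ v ∈ O2 M, t = e * v := by
  obtain ⟨htM, a, ha⟩ := d.mem_T.1 ht
  obtain ⟨e, he, hea⟩ := h.full a
  have heM := d.T_le (h.le he)
  refine ⟨e, he, e⁻¹ * t, (d.r_eq_one (mul_mem (inv_mem heM) htM)).1 ?_, by group⟩
  rw [d.r_mul (inv_mem heM) htM, d.r_inv heM, hea, ha, inv_mul_cancel]

/-- An elementary abelian subgroup of `T` lies in the radical or in `A`. -/
theorem le_or_le {E : Subgroup G} (hE : E ≤ T) (hE2 : ∀ a ∈ E, a * a = 1) :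
    E ≤ O2 M ∨ E ≤ A := by
  by_contra hn
  obtain ⟨h1, h2⟩ := not_or.1 hn
  obtain ⟨a, ha, haQ⟩ := SetLike.not_le_iff_exists.1 h1
  obtain ⟨b, hb, hbA⟩ := SetLike.not_le_iff_exists.1 h2
  have haA := (h.invol a (hE ha) (hE2 a ha)).resolve_left haQ
  have hbQ := (h.invol b (hE hb) (hE2 b hb)).resolve_right hbA
  rcases h.invol _ (hE (mul_mem ha hb)) (hE2 _ (mul_mem ha hb)) with h' | h'
  · exact haQ ((mul_mem_cancel_right hbQ).1 h')
  · exact hbA ((mul_mem_cancel_left haA).1 h')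

/-- A conjugate of the radical or of `A` inside `T` is one of the two. -/
theorem map_eq {E : Subgroup G} (hE : E = O2 M ∨ E = A) {g : G}
    (hg : ∀ v ∈ E, g * v * g⁻¹ ∈ T) :
    E.map (MulAut.conj g).toMonoidHom = O2 M ∨ E.map (MulAut.conj g).toMonoidHom = A := by
  have hcard : Nat.card (E.map (MulAut.conj g).toMonoidHom) = Nat.card A := by
    rw [← Nat.card_congr (E.equivMapOfInjective _ (MulAut.conj g).injective).toEquiv]
    rcases hE with rfl | rfl
    · exact h.card_Q_eq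
    · rfl
  have hsq : ∀ x ∈ E.map (MulAut.conj g).toMonoidHom, x * x = 1 := by
    rintro _ ⟨v, hv, rfl⟩
    have : v * v = 1 := by
      rcases hE with rfl | rfl
      · exact d.sq_of_mem hv
      · exact h.sq v hv
    rw [← map_mul, this, map_one]
  rcases h.le_or_le (by rintro _ ⟨v, hv, rfl⟩; exact hg v hv) hsq with h' | h'
  · exact Or.inl (Subgroup.eq_of_le_of_card_ge h' (by rw [hcard, h.card_Q_eq]))
  · exact Or.inr (Subgroup.eq_of_le_of_card_ge h' hcard.ge)

/-- Coordinates of a given weight in the first local subgroup. -/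
theorem card_le_four {N : Subgroup G} {F' : Type} [Field F'] [Finite F'] [CharP F' 2]
    (d' : Nat2 N T F' 1) (hN : O2 N = A) : Nat.card F ≤ 4 := by
  classical
  haveI := Fintype.ofFinite F
  obtain ⟨u, hu⟩ := IsCyclic.exists_generator (α := Fˣ)
  set l : F := (u : F) with hl
  have hl0 : l ≠ 0 := u.ne_zero
  obtain ⟨δ, hδM, hδr⟩ := d.r_surj (SL2Natural.hSL l)
  -- `δ` normalises `T`, `A` and so lies in `N`
  have hδT : ∀ t ∈ T, δ * t * δ⁻¹ ∈ T := fun t ht => by
    obtain ⟨htM, a, ha⟩ := d.mem_T.1 ht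
    refine d.mem_T.2 ⟨mul_mem (mul_mem hδM htM) (inv_mem hδM), l ^ 2 * a, ?_⟩
    rw [d.r_conj hδM htM, hδr, ha, SL2Natural.hSL_mul_uSL hl0, mul_inv_cancel_right]
  have hδA : A.map (MulAut.conj δ).toMonoidHom = A := by
    refine (h.map_eq (Or.inr rfl) fun v hv => hδT v (h.le hv)).resolve_left fun h' => h.not_le ?_
    intro a ha
    have h1 : δ * a * δ⁻¹ ∈ O2 M := h' ▸ ⟨a, ha, rfl⟩
    simpa [mul_assoc] using conj_mem_O2 (inv_mem hδM) h1
  have hδN : δ ∈ N := mem_of_normalizes d'.loc fun v hv => by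
    rw [hN] at hv ⊢
    exact hδA ▸ ⟨v, hv, rfl⟩
  -- its upper triangular image
  set g := d'.r δ with hg
  have hconj : ∀ x : F', ∃ y : F', g * uSL x = uSL y * g := fun x => by
    obtain ⟨e, heN, her⟩ := d'.r_surj (uSL x)
    have heT : e ∈ T := d'.mem_T.2 ⟨heN, x, her⟩
    obtain ⟨-, y, hy⟩ := d'.mem_T.1 (hδT e heT)
    exact ⟨y, by rw [← hy, d'.r_conj hδN heN, her, inv_mul_cancel_right]⟩
  have g10 : g.1 1 0 = 0 := by
    obtain ⟨y, hy⟩ := hconj 1
    have := congrArg (fun z : Matrix.SpecialLinearGroup (Fin 2) F' => z.1 1 1) hy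
    simpa [uSL_coe, Matrix.mul_apply, Fin.sum_univ_two] using this
  set μ := g.1 0 0 with hμ
  have g11 : μ * g.1 1 1 = 1 := by
    have := g.2
    rw [Matrix.det_fin_two, g10, mul_zero, sub_zero] at this
    exact this
  have hy' : ∀ {x y : F'}, g * uSL x = uSL y * g → y = μ ^ 2 * x := fun {x y} hy => by
    have h2 := congrArg (fun z : Matrix.SpecialLinearGroup (Fin 2) F' => z.1 0 1) hy
    simp [uSL_coe, Matrix.mul_apply, Fin.sum_univ_two] at h2
    linear_combination -μ * h2 - y * g11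
  -- the lifts
  have hζ : ∀ c : F, ∃ v ∈ O2 M, d.f v = fun _ => ![c, 0] := fun c => d.f_surj _
  choose ζ hζQ hζf using hζ
  have hν : ∀ c : F, ∃ v ∈ O2 M, d.f v = fun _ => ![0, c] := fun c => d.f_surj _
  choose ν hνQ hνf using hν
  have hζZ : ∀ c, ζ c ∈ d.Z := fun c => ⟨hζQ c, fun i => by rw [hζf]; rfl⟩
  have hζN : ∀ c, ζ c ∈ O2 N := fun c => hN.symm ▸ h.Z_le (hζZ c)
  obtain ⟨t, htT, htN⟩ : ∃ t ∈ T, t ∉ O2 N := by
    obtain ⟨e, he, her⟩ := d'.r_surj (uSL 1)
    refine ⟨e, d'.mem_T.2 ⟨he, 1, her⟩, fun h' => one_ne_zero (d'.uSL_injective ?_)⟩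
    rw [SL2Natural.uSL_zero, ← her, d'.r_of_mem h']
  have hζ1 : ∀ c i, d'.f (ζ c) i 1 = 0 := fun c =>
    (d'.mem_Z_of_commute htT htN (hζN c) (d.commute_of_mem_Z htT (hζZ c))).2
  have hζadd : ∀ c c', ζ (c + c') = ζ c * ζ c' := fun c c' =>
    d.f_inj (hζQ _) (mul_mem (hζQ _) (hζQ _)) (by
      rw [d.f_mul (hζQ _) (hζQ _), hζf, hζf, hζf]; funext i; simp)
  have hνadd : ∀ c c', ν (c + c') = ν c * ν c' := fun c c' =>
    d.f_inj (hνQ _) (mul_mem (hνQ _) (hνQ _)) (by
      rw [d.f_mul (hνQ _) (hνQ _), hνf, hνf, hνf]; funext i; simp)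
  have hζl : ∀ c, δ * ζ c * δ⁻¹ = ζ (l * c) := fun c =>
    d.f_inj (conj_mem_O2 hδM (hζQ c)) (hζQ _) (funext fun i => by
      rw [d.act hδM (hζQ c), hζf, hζf, hδr, SL2Natural.hSL_coe hl0]
      ext j
      fin_cases j <;> simp [Matrix.mulVec, dotProduct, Fin.sum_univ_two])
  have hνl : ∀ c, δ * ν c * δ⁻¹ = ν (l⁻¹ * c) := fun c =>
    d.f_inj (conj_mem_O2 hδM (hνQ c)) (hνQ _) (funext fun i => by
      rw [d.act hδM (hνQ c), hνf, hνf, hδr, SL2Natural.hSL_coe hl0]
      ext j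
      fin_cases j <;> simp [Matrix.mulVec, dotProduct, Fin.sum_univ_two])
  let φ : F → F' := fun c => d'.f (ζ c) 0 0
  let ψ : F → F' := fun c => (d'.r (ν c)).1 0 1
  have hνN : ∀ c, ν c ∈ N := fun c => d'.T_le (d.Q_le (hνQ c))
  have hψ : ∀ c, d'.r (ν c) = uSL (ψ c) := fun c => by
    obtain ⟨-, a, ha⟩ := d'.mem_T.1 (d.Q_le (hνQ c))
    rw [ha]
    congr 1
    simp [ψ, ha, uSL_coe]
  have φadd : ∀ c c', φ (c + c') = φ c + φ c' := fun c c' => by
    simp only [φ]; rw [hζadd, d'.f_mul (hζN c) (hζN c')]; rfl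
  have ψadd : ∀ c c', ψ (c + c') = ψ c + ψ c' := fun c c' => d'.uSL_injective (by
    rw [← hψ, hνadd, d'.r_mul (hνN c) (hνN c'), hψ, hψ, SL2Natural.uSL_add])
  have φinj : ∀ {c}, φ c = 0 → c = 0 := fun {c} h0 => by
    have h1 : ζ c = 1 := d'.f_eq_zero (hζN c) (funext fun i => funext fun j => by
      fin_cases i
      fin_cases j
      · exact h0
      · exact hζ1 c 0)
    have h2 := congrFun (congrFun (hζf c) 0) 0
    rw [h1, d.f_one] at h2
    simpa using h2.symm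
  have ψinj : ∀ {c}, ψ c = 0 → c = 0 := fun {c} h0 => by
    have h1 : ν c ∈ A := hN ▸ (d'.r_eq_one (hνN c)).1 (by rw [hψ, h0, SL2Natural.uSL_zero])
    have h2 := (h.inf _ h1 (hνQ c)).2 0
    rw [hνf] at h2
    simpa using h2
  have φl : ∀ c, φ (l * c) = μ * φ c := fun c => by
    show d'.f (ζ (l * c)) 0 0 = _
    rw [← hζl, d'.act hδN (hζN c)]
    simp [Matrix.mulVec, dotProduct, Fin.sum_univ_two, hζ1, ← hg, ← hμ, φ]
  have ψl : ∀ c, ψ (l⁻¹ * c) = μ ^ 2 * ψ c := fun c => by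
    refine hy' ?_
    rw [← hψ, ← hψ, ← hνl, d'.r_conj hδN (hνN c), inv_mul_cancel_right]
  have φ1 : φ 1 ≠ 0 := fun h0 => one_ne_zero (φinj h0)
  -- the two weights give an additive inversion
  have key : ∀ x : F, ψ x⁻¹ * φ 1 ^ 2 = φ x ^ 2 * ψ 1 := by
    intro x
    rcases eq_or_ne x 0 with rfl | hx
    · have h1 := φadd 0 0
      have h2 := ψadd 0 0
      rw [add_zero, CharTwo.add_self_eq_zero] at h1 h2
      rw [_root_.inv_zero, h1, h2]; ring
    obtain ⟨j, hj⟩ := (mem_powers_iff_mem_zpowers.2 (hu (Units.mk0 x hx)))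
    have hjx : x = l ^ j := by
      have := congrArg Units.val hj
      simpa [hl] using this.symm
    subst hjx
    clear hj hx
    induction j with
    | zero => simp; ring
    | succ j ih =>
      rw [pow_succ', φl, mul_inv, ψl]
      linear_combination μ ^ 2 * ih
  have hinv : ∀ x y : F, (x + y)⁻¹ = x⁻¹ + y⁻¹ := fun x y => by
    have h0 : ψ ((x + y)⁻¹ + (x⁻¹ + y⁻¹)) * φ 1 ^ 2 = 0 := by
      rw [ψadd, ψadd, add_mul, add_mul, key, key, key, φadd, CharTwo.add_sq, add_mul,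
        CharTwo.add_self_eq_zero]
    have h1 := ψinj ((mul_eq_zero.1 h0).resolve_right (pow_ne_zero _ φ1))
    exact CharTwo.add_eq_zero.1 h1
  -- so every element satisfies a fixed polynomial of degree four
  have hroot : ∀ x : F, x ^ 4 = x := fun x => by
    rcases eq_or_ne x 0 with rfl | hx0
    · simp
    rcases eq_or_ne x 1 with rfl | hx1
    · simp
    have hx2 : x + 1 ≠ 0 := fun e => hx1 (CharTwo.add_eq_zero.1 e)
    have h1 := hinv x 1
    rw [inv_one] at h1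
    field_simp at h1
    have h2 : (2 : F) = 0 := CharP.cast_eq_zero F 2
    have h3 : x ^ 2 + x + 1 = 0 := by linear_combination -h1
    linear_combination (x ^ 2 - x) * h3
  by_contra hgt
  push Not at hgt
  rw [Nat.card_eq_fintype_card] at hgt
  obtain ⟨g', hg'⟩ := IsCyclic.exists_generator (α := Fˣ)
  have h3 : orderOf g' ∣ 3 := orderOf_dvd_of_pow_eq_one (Units.ext (by
    have := hroot g'
    have h4 : (g' : F) ^ 3 * g' = 1 * g' := by rw [one_mul, ← pow_succ]; exact this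
    simpa using mul_right_cancel₀ g'.ne_zero h4))
  have := Nat.le_of_dvd (by norm_num) h3
  rw [orderOf_eq_card_of_forall_mem_zpowers hg', Nat.card_units, Nat.card_eq_fintype_card] at this
  omega

end Two

end CfsgLib.Recog.CIT.L2
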