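import Cfsg.Agent.Lib.Recog.CIT.Defs
import Cfsg.Agent.Lib.Recog.EPPOTwo.Embedded

/-!
General facts for the Suzuki case of the local analysis: fixed points of elements of a local
subgroup on an elementary abelian normal 2-subgroup, and elementary abelian subgroups of largest
order.
-/

set_option autoImplicit false
set_option linter.style.haveILetI false
set_option linter.unusedSectionVars false

namespace CfsgLib.Recog.CIT.SzLocal

open EPPOTwo (O2 OZ ZC IsTwo TSyl JE MaxEl Elem IsFullTwo CaseA mem_OZ mem_ZC)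

universe u

variable {G : Type u} [Group G] [Finite G]

/-- An element of odd order commuting with a nontrivial 2-element is trivial. -/
theorem eq_one_of_commute (hG : CIT G) {v x : G} (hv : IsTwo v) (hv1 : v ≠ 1)
    (hx : Odd (orderOf x)) (hc : Commute x v) : x = 1 := by
  obtain ⟨k, hk⟩ := hv
  obtain ⟨j, -, hj⟩ := (Nat.dvd_prime_pow Nat.prime_two).1 (orderOf_dvd_of_pow_eq_one hk)
  have hj0 : j ≠ 0 := fun e => hv1 (orderOf_eq_one_iff.1 (by rw [hj, e, pow_zero]))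
  set t := v ^ 2 ^ (j - 1) with ht
  have hjj : j = j - 1 + 1 := by omega
  have hto : orderOf t = 2 := by
    rw [ht, orderOf_pow_of_dvd (by positivity) (hj ▸ pow_dvd_pow 2 (Nat.sub_le j 1)), hj,
      Nat.pow_div (Nat.sub_le j 1) two_pos, show j - (j - 1) = 1 by omega, pow_one]
  have hmem : x ∈ Subgroup.centralizer ({t} : Set G) :=
    Subgroup.mem_centralizer_singleton_iff.2 (hc.pow_right _).eq
  haveI : Fact (Nat.Prime 2) := ⟨Nat.prime_two⟩
  obtain ⟨i, hi⟩ := IsPGroup.iff_orderOf.1 (hG t hto) ⟨x, hmem⟩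
  rw [← Subgroup.orderOf_coe] at hi
  refine orderOf_eq_one_iff.1 ?_
  rcases eq_or_ne i 0 with rfl | hi0
  · rw [hi, pow_zero]
  · exfalso
    rw [hi, Nat.odd_iff, Nat.pow_mod, Nat.mod_self, zero_pow hi0] at hx
    simp at hx

/-- An element has a power of odd order which is nontrivial if some image has odd order `≠ 1`. -/
theorem exists_odd_pow {K : Subgroup G} {X : Type*} [Group X] (f : K →* X) (y : K)
    (hodd : Odd (orderOf (f y))) (h1 : f y ≠ 1) :
    ∃ i : ℕ, Odd (orderOf ((y : G) ^ i)) ∧ (y : G) ^ i ≠ 1 := by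
  obtain ⟨k, m, hm, hn⟩ := Nat.exists_eq_two_pow_mul_odd (orderOf_pos (y : G)).ne'
  refine ⟨2 ^ k, ?_, fun e => h1 ?_⟩
  · rw [orderOf_pow_of_dvd (by positivity) (Dvd.intro m hn.symm), hn,
      Nat.mul_div_cancel_left _ (by positivity)]
    exact hm
  · have h2 : orderOf (f y) ∣ 2 ^ k := by
      refine orderOf_dvd_of_pow_eq_one ?_
      rw [← map_pow, show y ^ 2 ^ k = 1 from Subtype.ext (by simpa using e), map_one]
    obtain ⟨i, -, hi⟩ := (Nat.dvd_prime_pow Nat.prime_two).1 h2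
    rcases eq_or_ne i 0 with rfl | hi0
    · exact orderOf_eq_one_iff.1 (by rw [hi, pow_zero])
    · exfalso
      rw [hi, Nat.odd_iff, Nat.pow_mod, Nat.mod_self, zero_pow hi0] at hodd
      simp at hodd

theorem isTwo_of_sq {t : G} (h : t * t = 1) : IsTwo t := EPPOTwo.isTwo_of_sq h

/-- The fixed points of two elements with product not a 2-element meet trivially. -/
theorem card_fix_mul_le (hG : CIT G) {V : Subgroup G} (hV : ∀ v ∈ V, v * v = 1) {s s' : G} {i : ℕ}
    (ho : Odd (orderOf ((s * s') ^ i))) (h1 : (s * s') ^ i ≠ 1) :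
    Nat.card ↥(V ⊓ Subgroup.centralizer {s}) * Nat.card ↥(V ⊓ Subgroup.centralizer {s'}) ≤
      Nat.card V := by
  have hb : V ⊓ Subgroup.centralizer {s} ⊓ (V ⊓ Subgroup.centralizer {s'}) = ⊥ := by
    refine (Subgroup.eq_bot_iff_forall _).2 fun v hv => ?_
    by_contra hv1
    obtain ⟨⟨hvV, hvs⟩, -, hvs'⟩ := hv
    have hc1 : Commute s v := (Subgroup.mem_centralizer_singleton_iff.1 hvs).symm
    have hc2 : Commute s' v := (Subgroup.mem_centralizer_singleton_iff.1 hvs').symm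
    exact h1 (eq_one_of_commute hG (isTwo_of_sq (hV v hvV)) hv1 ho ((hc1.mul_left hc2).pow_left i))
  have h := EPPOTwo.card_mul_card_le (P := V ⊓ Subgroup.centralizer {s})
    (Q := V ⊓ Subgroup.centralizer {s'}) (R := V) inf_le_left inf_le_left
  rwa [hb, Subgroup.card_bot, one_mul] at h

theorem comm_of_sq {V : Subgroup G} (hV : ∀ v ∈ V, v * v = 1) {a b : G} (ha : a ∈ V) (hb : b ∈ V) :
    Commute a b := EPPOTwo.Elem.comm (T := V) ⟨le_rfl, hV⟩ ha hb

/-- An element with square centralising `V` fixes at least the square root of `V`. -/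
theorem card_le_fix_sq {V : Subgroup G} (hV : ∀ v ∈ V, v * v = 1) {s : G}
    (hn : ∀ v ∈ V, s * v * s⁻¹ ∈ V) (h2 : ∀ v ∈ V, Commute (s * s) v) :
    Nat.card V ≤
      Nat.card ↥(V ⊓ Subgroup.centralizer {s}) * Nat.card ↥(V ⊓ Subgroup.centralizer {s}) := by
  refine EPPOTwo.card_le_mul_of_commutator (d := s) (fun a ha b hb => comm_of_sq hV ha hb) hn
    fun v hv => ⟨V.mul_mem (V.inv_mem hv) (hn v hv), Subgroup.mem_centralizer_singleton_iff.2 ?_⟩
  have hw : v⁻¹ * (s * v * s⁻¹) = (s * v * s⁻¹)⁻¹ * v := by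
    rw [inv_eq_of_mul_eq_one_right (hV v hv), inv_eq_of_mul_eq_one_right (hV _ (hn v hv))]
    exact (comm_of_sq hV hv (hn v hv)).eq
  have h3 : s * (v⁻¹ * (s * v * s⁻¹)) * s⁻¹ = v⁻¹ * (s * v * s⁻¹) := by
    calc s * (v⁻¹ * (s * v * s⁻¹)) * s⁻¹
        = (s * v * s⁻¹)⁻¹ * ((s * s) * v * (s * s)⁻¹) := by group
      _ = (s * v * s⁻¹)⁻¹ * v := by rw [(h2 v hv).eq, mul_inv_cancel_right]
      _ = _ := hw.symm
  exact (mul_inv_eq_iff_eq_mul.1 h3).symm

/-- An elementary abelian subgroup with many commuting elements added. -/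
theorem exists_elem_sup {T P V : Subgroup G} (hPT : P ≤ T) (hVT : V ≤ T)
    (hP : ∀ a ∈ P, a * a = 1) (hV : ∀ v ∈ V, v * v = 1)
    (hc : ∀ a ∈ P, ∀ v ∈ V, Commute a v) : ∃ R, P ≤ R ∧ V ≤ R ∧ Elem T R := by
  let R : Subgroup G :=
    { carrier := {g | ∃ u ∈ P, ∃ v ∈ V, u * v = g}
      one_mem' := ⟨1, one_mem _, 1, one_mem _, one_mul _⟩
      mul_mem' := by
        rintro _ _ ⟨u, hu, v, hv, rfl⟩ ⟨u', hu', v', hv', rfl⟩
        refine ⟨u * u', mul_mem hu hu', v * v', mul_mem hv hv', ?_⟩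
        calc u * u' * (v * v') = u * (u' * v) * v' := by group
          _ = u * (v * u') * v' := by rw [(hc u' hu' v hv).eq]
          _ = u * v * (u' * v') := by group
      inv_mem' := by
        rintro _ ⟨u, hu, v, hv, rfl⟩
        refine ⟨u⁻¹, inv_mem hu, v⁻¹, inv_mem hv, ?_⟩
        rw [(hc u hu v hv).eq, mul_inv_rev] }
  refine ⟨R, fun u hu => ⟨u, hu, 1, one_mem _, mul_one u⟩,
    fun v hv => ⟨1, one_mem _, v, hv, one_mul v⟩, ?_, ?_⟩
  · rintro _ ⟨u, hu, v, hv, rfl⟩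
    exact mul_mem (hPT hu) (hVT hv)
  · rintro _ ⟨u, hu, v, hv, rfl⟩
    calc u * v * (u * v) = u * (v * u) * v := by group
      _ = u * (u * v) * v := by rw [(hc u hu v hv).eq]
      _ = (u * u) * (v * v) := by group
      _ = 1 := by rw [hP u hu, hV v hv, one_mul]

/-- Elementary abelian subgroups of largest order lie in `O` when outside elements fix little of
`V`. -/
theorem maxEl_le {T O V A : Subgroup G} (hA : MaxEl T A) (hVO : V ≤ O) (hOT : O ≤ T)
    (hV : ∀ v ∈ V, v * v = 1) (hVc : ∀ v ∈ V, ∀ e ∈ O, Commute e v) {m : ℕ}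
    (hm : Nat.card A ≤ m * Nat.card ↥(A ⊓ O))
    (hfix : ∀ a ∈ A, a ∉ O →
      Nat.card ↥(V ⊓ Subgroup.centralizer {a}) * Nat.card ↥(V ⊓ Subgroup.centralizer {a}) ≤
          Nat.card V ∧ m < Nat.card ↥(V ⊓ Subgroup.centralizer {a})) : A ≤ O := by
  by_contra hle
  obtain ⟨a, haA, haO⟩ := SetLike.not_le_iff_exists.1 hle
  obtain ⟨hsq, hlt⟩ := hfix a haA haO
  obtain ⟨R, hPR, hVR, hR⟩ := exists_elem_sup (T := T) (P := A ⊓ O) (V := V)
    (inf_le_left.trans hA.1.1) (hVO.trans hOT) (fun b hb => hA.1.2 b hb.1) hV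
    fun b hb v hv => hVc v hv b hb.2
  set c := Nat.card ↥(V ⊓ Subgroup.centralizer {a}) with hcdef
  have h1 := EPPOTwo.card_mul_card_le hPR hVR
  have h2 : Nat.card R ≤ m * Nat.card ↥(A ⊓ O) := (hA.2 R hR).trans hm
  have h3 : Nat.card ↥(A ⊓ O ⊓ V) ≤ c := Subgroup.card_le_of_le fun v hv =>
    ⟨hv.2, Subgroup.mem_centralizer_singleton_iff.2 (hA.1.comm hv.1.1 haA).eq⟩
  have hpos : 0 < Nat.card ↥(A ⊓ O) := Nat.card_pos
  have h4 : Nat.card V ≤ c * m := by
    refine Nat.le_of_mul_le_mul_left ?_ hpos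
    calc Nat.card ↥(A ⊓ O) * Nat.card V ≤ Nat.card ↥(A ⊓ O ⊓ V) * Nat.card R := h1
      _ ≤ c * (m * Nat.card ↥(A ⊓ O)) := Nat.mul_le_mul h3 h2
      _ = _ := by ring
  have h5 : c ≤ m := Nat.le_of_mul_le_mul_left (hsq.trans h4) (by omega)
  omega

/-- The order of a subgroup against the size of an image and a bound on the kernel. -/
theorem card_le_mul_inf {A O : Subgroup G} {X : Type*} [Group X] (f : A →* X)
    (hker : ∀ a : A, f a = 1 → (a : G) ∈ O) {m : ℕ} (hm : Nat.card f.range ≤ m) :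
    Nat.card A ≤ m * Nat.card ↥(A ⊓ O) := by
  rw [← Subgroup.card_mul_index f.ker, Subgroup.index_ker, mul_comm]
  refine Nat.mul_le_mul hm (Nat.card_le_card_of_injective
    (fun a : f.ker => (⟨((a : A) : G), (a : A).2, hker _ (MonoidHom.mem_ker.1 a.2)⟩ : ↥(A ⊓ O)))
    fun a b hab => Subtype.ext (Subtype.ext (congrArg (fun z : ↥(A ⊓ O) => (z : G)) hab)))

theorem exists_involution_OZ {P : Subgroup G} (hP : IsPGroup 2 P) (hne : P ≠ ⊥) :
    ∃ v ∈ OZ P, orderOf v = 2 := by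
  haveI : Fact (Nat.Prime 2) := ⟨Nat.prime_two⟩
  haveI : Nontrivial P := (Subgroup.nontrivial_iff_ne_bot _).2 hne
  have hc : Subgroup.center P ≠ ⊥ := (Subgroup.nontrivial_iff_ne_bot _).1 hP.center_nontrivial
  obtain ⟨t, ht, hto⟩ := EPPOTwo.exists_involution (hP.to_subgroup _) hc
  refine ⟨t, mem_OZ.2 ⟨mem_ZC.2 ⟨t.2, fun e he => ?_⟩, ?_⟩, by rwa [Subgroup.orderOf_coe]⟩
  · exact congrArg Subtype.val (Subgroup.mem_center_iff.1 ht ⟨e, he⟩)
  · exact congrArg Subtype.val (EPPOTwo.sq_eq_one_of_orderOf hto)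

/-- In a group with a nontrivial normal 2-subgroup the 2-radical contains its centraliser. -/
theorem inf_centralizer_le (hG : CIT G) {K : Subgroup G} (hK : O2 K ≠ ⊥) :
    K ⊓ Subgroup.centralizer (O2 K : Set G) ≤ O2 K := by
  obtain ⟨v, hv, hvo⟩ := EPPOTwo.exists_involution (Base.isPGroup_map_pCore 2 K) hK
  have hv1 : v ≠ 1 := fun e => by rw [e, orderOf_one] at hvo; omega
  refine Base.le_map_pCore inf_le_left (fun m hm => ?_) (EPPOTwo.isPGroup_of_isTwo fun c hc => ?_)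
  · refine Subgroup.mem_normalizer_iff.2 fun c => ?_
    simp only [Subgroup.mem_inf, Subgroup.mem_centralizer_iff, SetLike.mem_coe]
    refine and_congr ((Subgroup.mem_normalizer_iff.1 (Subgroup.le_normalizer hm)) c) ⟨?_, ?_⟩
    · intro h e he
      have := h _ (EPPOTwo.conj_mem_O2' hm he)
      calc e * (m * c * m⁻¹) = m * ((m⁻¹ * e * m) * c) * m⁻¹ := by group
        _ = m * (c * (m⁻¹ * e * m)) * m⁻¹ := by rw [this]
        _ = _ := by group
    · intro h e he
      have := h _ (EPPOTwo.conj_mem_O2 hm he)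
      calc e * c = m⁻¹ * ((m * e * m⁻¹) * (m * c * m⁻¹)) * m := by group
        _ = m⁻¹ * (m * c * m⁻¹ * (m * e * m⁻¹)) * m := by rw [this]
        _ = _ := by group
  · obtain ⟨k, m, hm, hn⟩ := Nat.exists_eq_two_pow_mul_odd (orderOf_pos c).ne'
    refine ⟨k, eq_one_of_commute hG (EPPOTwo.isTwo_of_mem (Base.isPGroup_map_pCore 2 K) hv) hv1 ?_
      (Commute.pow_left (Subgroup.mem_centralizer_iff.1 hc.2 v hv).symm _)⟩
    rw [orderOf_pow_of_dvd (by positivity) (Dvd.intro m hn.symm), hn,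
      Nat.mul_div_cancel_left _ (by positivity)]
    exact hm

variable {M T : Subgroup G}

theorem normalizer_eq (hM : Loc M) {P : Subgroup G} (hP : IsPGroup 2 P) (hne : P ≠ ⊥)
    (hn : M ≤ Subgroup.normalizer (P : Set G)) : Subgroup.normalizer (P : Set G) = M :=
  hM.max _ hn fun h => hne (le_bot_iff.1 (h ▸ Base.le_map_pCore Subgroup.le_normalizer le_rfl hP))

theorem normalizer_O2 (hM : Loc M) : Subgroup.normalizer (O2 M : Set G) = M :=
  normalizer_eq hM (Base.isPGroup_map_pCore 2 M) hM.nt (Base.le_normalizer_map_pCore M)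

theorem centralizer_le (hG : CIT G) (hM : Loc M) :
    Subgroup.centralizer (O2 M : Set G) ≤ O2 M := fun c hc =>
  inf_centralizer_le hG hM.nt ⟨(normalizer_O2 hM).le
    (Subgroup.centralizer_le_normalizer _ hc), hc⟩

theorem exists_loc_ge {K : Subgroup G} (hnt : O2 K ≠ ⊥) : ∃ L, K ≤ L ∧ Loc L := by
  obtain ⟨L, hle, hmax⟩ := Finite.exists_le_maximal (p := fun L : Subgroup G => O2 L ≠ ⊥) hnt
  exact ⟨L, hle, hmax.prop, fun N hN hNnt => le_antisymm (hmax.2 hNnt hN) hN⟩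

theorem normalizer_JE (hM : Loc M) (hT : TSyl M T) (hA : CaseA M T) :
    Subgroup.normalizer (JE T : Set G) = M := by
  have hne : T ≠ ⊥ := fun e => hM.nt (le_bot_iff.1 (e ▸ hT.O2_le))
  refine normalizer_eq hM (hT.isP.to_le (EPPOTwo.JE_le T)) (EPPOTwo.JE_ne_bot hT.isP hne)
    fun m hm => ?_
  refine EPPOTwo.mem_normalizer_JE (fun A hAm => ?_) (fun A hAm => ?_) <;> rintro _ ⟨a, ha, rfl⟩
  · exact hT.O2_le (EPPOTwo.conj_mem_O2 hm (hA A hAm ha))
  · exact hT.O2_le (EPPOTwo.conj_mem_O2 (inv_mem hm) (hA A hAm ha))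

theorem isFullTwo_of_normalizer_JE (hT : TSyl M T)
    (hN : Subgroup.normalizer (JE T : Set G) = M) : IsFullTwo T := by
  refine ⟨hT.isP, fun P hP hTP => ?_⟩
  by_contra hne
  have hlt := EPPOTwo.exists_normalizer_gt hP hTP (Ne.symm hne)
  refine hlt.ne (Eq.symm (hT.max _ (hP.to_le inf_le_left) hlt.le ?_))
  exact inf_le_right.trans ((EPPOTwo.normalizer_le_normalizer_JE T).trans hN.le)

theorem map_JE_le (g : G) (T : Subgroup G) :
    (JE T).map (MulAut.conj g).toMonoidHom ≤ JE (T.map (MulAut.conj g).toMonoidHom) := by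
  rw [JE, Subgroup.map_le_iff_le_comap]
  refine sSup_le fun A hA => Subgroup.map_le_iff_le_comap.1 (le_sSup ?_)
  refine ⟨⟨Subgroup.map_mono hA.1.1, ?_⟩, fun B hB => ?_⟩
  · rintro _ ⟨a, ha, rfl⟩
    rw [← map_mul, hA.1.2 a ha, map_one]
  · rw [Subgroup.card_map_of_injective (MulEquiv.injective _)]
    refine le_trans (le_of_eq ?_) (hA.2 (B.map (MulAut.conj g⁻¹).toMonoidHom) ⟨?_, ?_⟩)
    · rw [Subgroup.card_map_of_injective (MulEquiv.injective _)]
    · intro b hb
      rw [EPPOTwo.mem_map_conj, inv_inv] at hb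
      have := hB.1 hb
      rw [EPPOTwo.mem_map_conj] at this
      simpa [mul_assoc] using this
    · rintro _ ⟨b, hb, rfl⟩
      rw [← map_mul, hB.2 b hb, map_one]

theorem JE_map (g : G) (T : Subgroup G) :
    JE (T.map (MulAut.conj g).toMonoidHom) = (JE T).map (MulAut.conj g).toMonoidHom := by
  refine le_antisymm (fun a ha => ?_) (map_JE_le g T)
  rw [EPPOTwo.mem_map_conj]
  have h := map_JE_le g⁻¹ (T.map (MulAut.conj g).toMonoidHom) (Subgroup.mem_map_of_mem _ ha)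
  have hT : (T.map (MulAut.conj g).toMonoidHom).map (MulAut.conj g⁻¹).toMonoidHom = T := by
    simpa using EPPOTwo.map_conj_map g⁻¹ T
  rw [hT] at h
  simpa using h

/-- The owner of a 2-subgroup, equivariantly. -/
theorem normalizer_JE_map (g : G) (T : Subgroup G) :
    Subgroup.normalizer (JE (T.map (MulAut.conj g).toMonoidHom) : Set G) =
      (Subgroup.normalizer (JE T : Set G)).map (MulAut.conj g).toMonoidHom := by
  rw [JE_map, Subgroup.map_equiv_normalizer_eq]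

theorem exists_conj_of_isFullTwo {S T : Subgroup G} (hS : IsFullTwo S) (hT : IsFullTwo T) :
    ∃ g : G, T.map (MulAut.conj g).toMonoidHom = S := by
  haveI : Fact (Nat.Prime 2) := ⟨Nat.prime_two⟩
  let P : Sylow 2 G := ⟨S, hS.1, fun {Q} hQ hle => hS.2 Q hQ hle⟩
  let P' : Sylow 2 G := ⟨T, hT.1, fun {Q} hQ hle => hT.2 Q hQ hle⟩
  obtain ⟨g, hg⟩ := MulAction.exists_smul_eq G P' P
  exact ⟨g, congrArg (fun Q : Sylow 2 G => (Q : Subgroup G)) hg⟩

end CfsgLib.Recog.CIT.SzLocal
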