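import Cfsg.Agent.Lib.Recog.CIT.LocalSuzukiBase

/-!
A maximal 2-local subgroup whose top has a Sylow 2-subgroup not of exponent two: the normaliser
of the subgroup generated by the elementary abelian subgroups of largest order of each of its
Sylow 2-subgroups is the subgroup itself.
-/

set_option autoImplicit false
set_option linter.style.haveILetI false
set_option linter.unusedSectionVars false

namespace CfsgLib.Recog.CIT.SzLocal

open EPPOTwo (O2 OZ ZC IsTwo TSyl JE MaxEl Elem IsFullTwo CaseA mem_OZ mem_ZC)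

universe u

variable {G : Type u} [Group G] [Finite G]

theorem exists_conj_tsyl {M T T' : Subgroup G} (hT : TSyl M T) (hT' : TSyl M T') :
    ∃ m ∈ M, T.map (MulAut.conj m).toMonoidHom = T' := by
  haveI : Fact (Nat.Prime 2) := ⟨Nat.prime_two⟩
  have mk : ∀ {U : Subgroup G}, TSyl M U → ∃ P : Sylow 2 M, (P : Subgroup M) = U.subgroupOf M := by
    intro U hU
    refine ⟨⟨U.subgroupOf M, hU.isP.of_equiv (Subgroup.subgroupOfEquivOfLe hU.le).symm,
      fun {Q} hQ hle => ?_⟩, rfl⟩
    have h : Q.map M.subtype = U := hU.max _ (hQ.map _)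
      (fun x hx => ⟨⟨x, hU.le hx⟩, hle (by simpa [Subgroup.mem_subgroupOf] using hx), rfl⟩)
      (Subgroup.map_subtype_le Q)
    rw [← h]
    exact (Subgroup.comap_map_eq_self_of_injective M.subtype_injective Q).symm
  obtain ⟨P, hP⟩ := mk hT
  obtain ⟨P', hP'⟩ := mk hT'
  obtain ⟨m, hm⟩ := MulAction.exists_smul_eq M P P'
  have h : (P : Subgroup M).map (MulAut.conj m).toMonoidHom = (P' : Subgroup M) :=
    congrArg (fun Q : Sylow 2 M => (Q : Subgroup M)) hm
  rw [hP, hP'] at h
  refine ⟨m, m.2, ?_⟩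
  have h2 := congrArg (Subgroup.map M.subtype) h
  rw [Subgroup.map_map, Subgroup.map_subgroupOf_eq_of_le hT'.le] at h2
  rw [show M.subtype.comp (MulAut.conj m).toMonoidHom =
      (MulAut.conj (m : G)).toMonoidHom.comp M.subtype from MonoidHom.ext fun x => rfl,
    ← Subgroup.map_map, Subgroup.map_subgroupOf_eq_of_le hT.le] at h2
  exact h2

theorem odd_two_pow_sub_one {q : ℕ} (h4 : 4 ≤ q) (hp : ∃ n, q = 2 ^ n) : Odd (q - 1) := by
  obtain ⟨n, rfl⟩ := hp
  rcases n with _ | n
  · simp at h4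
  · exact ⟨2 ^ n - 1, by rw [pow_succ] at h4 ⊢; omega⟩

/-- A 2-element has a power which is an involution. -/
theorem exists_pow_involution {X : Type*} [Group X] [Finite X] {x : X} (hx : x ≠ 1)
    {S : Subgroup X} (hS : IsPGroup 2 S) (hxS : x ∈ S) : ∃ j : ℕ, orderOf (x ^ j) = 2 := by
  haveI : Fact (Nat.Prime 2) := ⟨Nat.prime_two⟩
  obtain ⟨i, hi⟩ := IsPGroup.iff_orderOf.1 hS ⟨x, hxS⟩
  rw [← Subgroup.orderOf_coe] at hi
  have hi0 : i ≠ 0 := fun e => hx (orderOf_eq_one_iff.1 (by rw [hi, e, pow_zero]))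
  refine ⟨2 ^ (i - 1), ?_⟩
  rw [orderOf_pow_of_dvd (by positivity) (hi ▸ pow_dvd_pow 2 (Nat.sub_le i 1)), hi,
    Nat.pow_div (Nat.sub_le i 1) two_pos, show i - (i - 1) = 1 by omega, pow_one]

theorem conj_mem_OZ_of_normalizer {T : Subgroup G} {m v : G}
    (hm : m ∈ Subgroup.normalizer (T : Set G)) (hv : v ∈ OZ T) : m * v * m⁻¹ ∈ OZ T := by
  obtain ⟨hz, hsq⟩ := mem_OZ.1 hv
  obtain ⟨hvT, hvc⟩ := mem_ZC.1 hz
  refine mem_OZ.2 ⟨mem_ZC.2 ⟨(Subgroup.mem_normalizer_iff.1 hm v).1 hvT, fun e he => ?_⟩, ?_⟩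
  · have h1 : m⁻¹ * e * m ∈ T := by
      refine (Subgroup.mem_normalizer_iff.1 hm _).2 ?_
      simpa [mul_assoc] using he
    show e * (m * v * m⁻¹) = m * v * m⁻¹ * e
    calc e * (m * v * m⁻¹) = m * ((m⁻¹ * e * m) * v) * m⁻¹ := by group
      _ = m * (v * (m⁻¹ * e * m)) * m⁻¹ := by rw [(hvc _ h1).eq]
      _ = _ := by group
  · calc m * v * m⁻¹ * (m * v * m⁻¹) = m * (v * v) * m⁻¹ := by group
      _ = 1 := by rw [hsq, mul_one, mul_inv_cancel]

/-- The conclusion drawn from the top of a maximal 2-local subgroup. -/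
structure Owner (M T : Subgroup G) : Prop where
  tsyl : TSyl M T
  full : IsFullTwo T
  eq : Subgroup.normalizer (JE T : Set G) = M
  big : 4 ≤ Nat.card (OZ T)

set_option maxHeartbeats 800000 in
theorem exists_owner (hG : CIT G) {M : Subgroup G} {X : Type u} [Group X] [Finite X] {π : M →* X}
    {S D : Subgroup X} {q : ℕ} (ht : Top M X π S D q) (hS : ¬ ∀ s ∈ S, s * s = 1) :
    ∃ T, Owner M T := by
  classical
  haveI : Fact (Nat.Prime 2) := ⟨Nat.prime_two⟩
  set O := O2 M with hO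
  set V := OZ O with hVdef
  have hOM : O ≤ M := EPPOTwo.O2_le M
  have hOp : IsPGroup 2 O := Base.isPGroup_map_pCore 2 M
  have hker : ∀ a : M, π a = 1 ↔ (a : G) ∈ O := fun a => by
    rw [← MonoidHom.mem_ker, ht.ker, Subgroup.mem_subgroupOf]
  -- the Sylow 2-subgroup
  set T := (S.comap π).map M.subtype with hTdef
  have hTM : T ≤ M := Subgroup.map_subtype_le _
  have hmemT : ∀ {a : G} (ha : a ∈ M), a ∈ T ↔ π ⟨a, ha⟩ ∈ S := by
    intro a ha
    constructor
    · rintro ⟨b, hb, rfl⟩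
      exact hb
    · exact fun h => ⟨⟨a, ha⟩, h, rfl⟩
  have hTp : IsPGroup 2 T := by
    refine (ht.data.isP.comap_of_ker_isPGroup π ?_).map _
    rw [ht.ker]
    exact hOp.of_equiv (Subgroup.subgroupOfEquivOfLe hOM).symm
  have hT : TSyl M T := by
    refine ⟨hTM, hTp, fun P hP hTP hPM => le_antisymm (fun a ha => ?_) hTP⟩
    have hle : S ≤ (P.subgroupOf M).map π := fun x hx => by
      obtain ⟨b, rfl⟩ := ht.surj x
      exact ⟨b, hTP ((hmemT b.2).2 hx), rfl⟩
    have h1 := ht.data.maxP _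
      ((hP.of_equiv (Subgroup.subgroupOfEquivOfLe hPM).symm).map π) hle
    exact (hmemT (hPM ha)).2 (h1 ▸ ⟨⟨a, hPM ha⟩, ha, rfl⟩)
  have hOT : O ≤ T := hT.O2_le
  -- the module
  have hVO : V ≤ O := fun v hv => (mem_ZC.1 (mem_OZ.1 hv).1).1
  have hV : ∀ v ∈ V, v * v = 1 := fun v hv => (mem_OZ.1 hv).2
  have hVc : ∀ v ∈ V, ∀ e ∈ O, Commute e v := fun v hv => (mem_ZC.1 (mem_OZ.1 hv).1).2
  have hVn : ∀ a ∈ M, ∀ v ∈ V, a * v * a⁻¹ ∈ V := fun a ha v hv => EPPOTwo.conj_mem_OZ ha hv
  set W := OZ T with hWdef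
  have hWT : ∀ w ∈ W, ∀ t ∈ T, Commute t w := fun w hw => (mem_ZC.1 (mem_OZ.1 hw).1).2
  have hWsq : ∀ w ∈ W, w * w = 1 := fun w hw => (mem_OZ.1 hw).2
  have hWV : W ≤ V := fun w hw => by
    have hwc : w ∈ Subgroup.centralizer (O : Set G) :=
      Subgroup.mem_centralizer_iff.2 fun e he => (hWT w hw e (hOT he)).eq
    exact mem_OZ.2 ⟨mem_ZC.2 ⟨ht.cent hwc, fun e he => hWT w hw e (hOT he)⟩, hWsq w hw⟩
  -- fixed points of preimages of involutions
  set c : G → ℕ := fun s => Nat.card ↥(V ⊓ Subgroup.centralizer {s}) with hc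
  have hlow : ∀ s : M, π s * π s = 1 → Nat.card V ≤ c s * c s := fun s h =>
    card_le_fix_sq hV (hVn s s.2) fun v hv => hVc v hv _ ((hker (s * s)).1 (by rw [map_mul, h]))
  obtain ⟨w, hw2, hwN, -⟩ := ht.data.inverter
  obtain ⟨s₁, hs₁⟩ := ht.surj w
  have hsq : ∀ s : M, π s ∈ S → orderOf (π s) = 2 → c s * c s = Nat.card V := by
    intro s hsS hs2
    have h1 := hlow s (EPPOTwo.sq_eq_one_of_orderOf hs2)
    have h2 := hlow s₁ (by rw [hs₁]; exact EPPOTwo.sq_eq_one_of_orderOf hw2)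
    have hne : π s * w ≠ 1 := fun e => by
      rw [mul_eq_one_iff_eq_inv.1 e] at hsS
      exact hwN (Subgroup.le_normalizer (inv_mem_iff.1 hsS))
    obtain ⟨i, hio, hi1⟩ := exists_odd_pow π (s * s₁)
      (by rw [map_mul, hs₁]
          exact Involutions.SE.odd_orderOf_mul ht.data.se hs2 (Subgroup.le_normalizer hsS) hw2 hwN)
      (by rw [map_mul, hs₁]; exact hne)
    rw [Subgroup.coe_mul] at hio hi1
    have h3 : c s * c s₁ ≤ Nat.card V := card_fix_mul_le hG hV hio hi1
    have hpos : 0 < c s₁ := Nat.card_pos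
    have h4 : c s ≤ c s₁ := Nat.le_of_mul_le_mul_right (h3.trans h2) hpos
    exact le_antisymm ((Nat.mul_le_mul_left _ h4).trans h3) h1
  -- the fixed points of the Sylow 2-subgroup
  have hq1 : Odd (q - 1) := odd_two_pow_sub_one ht.data.four_le ht.data.isPow
  have hqW : q ≤ Nat.card W := by
    obtain ⟨w₀, hw₀, hw₀o⟩ := exists_involution_OZ hTp
      (fun e => ht.loc.nt (le_bot_iff.1 (e ▸ hOT)))
    have hw₀1 : w₀ ≠ 1 := fun e => by rw [e, orderOf_one] at hw₀o; omega
    choose δ hδ using fun d : D => ht.surj (d : X)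
    have hmap : ∀ d : D, (δ d : G) * w₀ * (δ d : G)⁻¹ ∈ W := by
      intro d
      refine conj_mem_OZ_of_normalizer ?_ hw₀
      have hd : π (δ d) ∈ Subgroup.normalizer (S : Set X) := by
        rw [hδ]; exact ht.data.le_norm d.2
      refine Subgroup.mem_normalizer_iff.2 fun a => ⟨fun ha => ?_, fun ha => ?_⟩
      · have haM := hTM ha
        refine (hmemT (mul_mem (mul_mem (δ d).2 haM) (inv_mem (δ d).2))).2 ?_
        have := (Subgroup.mem_normalizer_iff.1 hd _).1 ((hmemT haM).1 ha)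
        rw [← map_inv, ← map_mul, ← map_mul] at this
        exact this
      · have haM : a ∈ M := by
          simpa [mul_assoc] using mul_mem (mul_mem (inv_mem (δ d).2) (hTM ha)) (δ d).2
        refine (hmemT haM).2 ((Subgroup.mem_normalizer_iff.1 hd _).2 ?_)
        rw [← map_inv, ← map_mul, ← map_mul]
        exact (hmemT (hTM ha)).1 ha
    let f : Option D → W := fun o => o.elim 1 fun d => ⟨_, hmap d⟩
    have hf : Function.Injective f := by
      rintro (_ | d) (_ | e) hde
      · rfl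
      · refine absurd (congrArg Subtype.val hde).symm ?_
        simpa [f] using hw₀1
      · refine absurd (congrArg Subtype.val hde) ?_
        simpa [f] using hw₀1
      · refine congrArg some ?_
        by_contra hne
        have hde' : (δ d : G) * w₀ * (δ d : G)⁻¹ = (δ e : G) * w₀ * (δ e : G)⁻¹ :=
          congrArg Subtype.val hde
        have himg : π ((δ e)⁻¹ * δ d) = ((e⁻¹ * d : D) : X) := by
          rw [map_mul, map_inv, hδ, hδ]; rfl
        obtain ⟨i, hio, hi1⟩ := exists_odd_pow π ((δ e)⁻¹ * δ d)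
          (by rw [himg, Subgroup.orderOf_coe]
              refine Odd.of_dvd_nat ?_ (orderOf_dvd_natCard _)
              rw [ht.data.card_D]; exact hq1)
          (by rw [himg]
              intro h
              exact hne (inv_mul_eq_one.1 (Subtype.ext h : (e⁻¹ * d : D) = 1)).symm)
        refine hi1 (eq_one_of_commute hG (isTwo_of_sq (hWsq w₀ hw₀)) hw₀1 hio
          (Commute.pow_left ?_ i))
        show ((δ e)⁻¹ * δ d : M) * w₀ = w₀ * ((δ e)⁻¹ * δ d : M)
        rw [Subgroup.coe_mul, Subgroup.coe_inv]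
        calc (δ e : G)⁻¹ * δ d * w₀ = (δ e : G)⁻¹ * ((δ d : G) * w₀ * (δ d : G)⁻¹) * δ d := by group
          _ = (δ e : G)⁻¹ * ((δ e : G) * w₀ * (δ e : G)⁻¹) * δ d := by rw [hde']
          _ = _ := by group
    have h := Nat.card_le_card_of_injective f hf
    rw [Finite.card_option, ht.data.card_D] at h
    have := ht.data.four_le
    omega
  have hWc : ∀ s : M, π s ∈ S → W ≤ V ⊓ Subgroup.centralizer {(s : G)} := fun s hs w hw =>
    ⟨hWV hw, Subgroup.mem_centralizer_singleton_iff.2 (hWT w hw s ((hmemT s.2).2 hs)).symm.eq⟩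
  -- the module is large
  have hbig : ∀ s : M, π s ∈ S → orderOf (π s) = 2 → q < c s := by
    intro s hsS hs2
    refine lt_of_le_of_ne (hqW.trans (Subgroup.card_le_of_le (hWc s hsS))) fun hqc => hS ?_
    have hVq : Nat.card V = q * q := by rw [hqc, hsq s hsS hs2]
    have heq : ∀ s' : M, π s' ∈ S → orderOf (π s') = 2 →
        W = V ⊓ Subgroup.centralizer {(s' : G)} := by
      intro s' h h'
      have h1 : c s' = q := Nat.mul_self_inj.1 ((hsq s' h h').trans hVq)
      exact Subgroup.eq_of_le_of_card_ge (hWc s' h) (le_of_eq_of_le h1 hqW)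
    have key : ∀ t ∈ T, ∀ v ∈ V, Commute (t * t) v := by
      intro t ht' v hv
      set r := (s : G) with hr
      have hss : ∀ v ∈ V, r * r * v * (r * r)⁻¹ = v := fun v hv => by
        have h : r * r ∈ O := (hker (s * s)).1
          (by rw [map_mul]; exact EPPOTwo.sq_eq_one_of_orderOf hs2)
        rw [(hVc v hv (r * r) h).eq, mul_inv_cancel_right]
      have hrv : r * v * r⁻¹ ∈ V := hVn _ s.2 v hv
      set w := v * (r * v * r⁻¹) with hw
      have hwW : w ∈ W := by
        rw [heq s hsS hs2]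
        refine ⟨mul_mem hv hrv, Subgroup.mem_centralizer_singleton_iff.2 ?_⟩
        refine Eq.symm (mul_inv_eq_iff_eq_mul.1 ?_)
        calc r * w * r⁻¹ = r * v * r⁻¹ * (r * r * v * (r * r)⁻¹) := by rw [hw]; group
          _ = r * v * r⁻¹ * v := by rw [hss v hv]
          _ = _ := (comm_of_sq hV hrv hv).eq
      have htM := hTM ht'
      have he : (r⁻¹ * (t⁻¹ * r * t) : G) ∈ O := by
        refine (hker (s⁻¹ * (⟨t, htM⟩⁻¹ * s * ⟨t, htM⟩))).1 ?_
        simp only [map_mul, map_inv]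
        rw [mul_assoc (π ⟨t, htM⟩)⁻¹, ← ht.data.central _ hsS
          (EPPOTwo.sq_eq_one_of_orderOf hs2) _ ((hmemT htM).1 ht'), inv_mul_cancel_left,
          inv_mul_cancel]
      set e := r⁻¹ * (t⁻¹ * r * t) with hedef
      have hrt : r * (t * v * t⁻¹) * r⁻¹ = t * (r * v * r⁻¹) * t⁻¹ := by
        calc r * (t * v * t⁻¹) * r⁻¹ = t * (r * (e * v * e⁻¹) * r⁻¹) * t⁻¹ := by rw [hedef]; group
          _ = _ := by rw [(hVc v hv e he).eq, mul_inv_cancel_right]
      have hvw : r * v * r⁻¹ = v * w := by rw [hw, ← mul_assoc, hV v hv, one_mul]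
      have htv : t * v * t⁻¹ ∈ V := hVn _ htM v hv
      set u := t * v * t⁻¹ * v with hu
      have hu' : u ∈ W := by
        rw [heq s hsS hs2]
        refine ⟨mul_mem htv hv, Subgroup.mem_centralizer_singleton_iff.2 ?_⟩
        refine Eq.symm (mul_inv_eq_iff_eq_mul.1 ?_)
        calc r * u * r⁻¹ = r * (t * v * t⁻¹) * r⁻¹ * (r * v * r⁻¹) := by rw [hu]; group
          _ = t * (v * w) * t⁻¹ * (v * w) := by rw [hrt, hvw]
          _ = t * v * t⁻¹ * (t * w * t⁻¹ * v) * w := by group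
          _ = t * v * t⁻¹ * (w * v) * w := by rw [(hWT w hwW t ht').eq, mul_inv_cancel_right]
          _ = t * v * t⁻¹ * (v * w) * w := by rw [(comm_of_sq hV (hWV hwW) hv).eq]
          _ = u * (w * w) := by rw [hu]; group
          _ = u := by rw [hWsq w hwW, mul_one]
      have htv' : t * v * t⁻¹ = u * v := by rw [hu, mul_assoc (t * v * t⁻¹) v v, hV v hv, mul_one]
      show t * t * v = v * (t * t)
      calc t * t * v = t * (t * v * t⁻¹) * t⁻¹ * (t * t) := by group
        _ = t * (u * v) * t⁻¹ * (t * t) := by rw [htv']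
        _ = (t * u * t⁻¹) * (t * v * t⁻¹) * (t * t) := by group
        _ = u * u * v * (t * t) := by
            rw [(hWT u hu' t ht').eq, mul_inv_cancel_right, htv', ← mul_assoc u u v]
        _ = v * (t * t) := by rw [hWsq u hu', one_mul]
    intro x hx
    by_contra hxx
    obtain ⟨b, hb⟩ := ht.surj x
    obtain ⟨j, hj⟩ := exists_pow_involution hxx ht.data.isP (mul_mem hx hx)
    have hbS : π ((b * b) ^ j) = (x * x) ^ j := by rw [map_pow, map_mul, hb]
    have hT2 : (b : G) ∈ T := (hmemT b.2).2 (by rw [show (⟨(b : G), b.2⟩ : M) = b from rfl, hb]; exact hx)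
    have hfix := heq ((b * b) ^ j) (hbS ▸ pow_mem (mul_mem hx hx) j) (hbS ▸ hj)
    have hVW : V ≤ W := fun v hv => hfix ▸
      ⟨hv, Subgroup.mem_centralizer_singleton_iff.2 ((key _ hT2 v hv).pow_left j).symm.eq⟩
    have h1 := Subgroup.card_le_of_le hVW
    rw [heq s hsS hs2, hVq] at h1
    change q * q ≤ c s at h1
    rw [← hqc] at h1
    have := ht.data.four_le
    nlinarith
  -- all elementary abelian subgroups of largest order lie in the radical
  have hA : CaseA M T := by
    intro A hA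
    have hAM : A ≤ M := hA.1.1.trans hTM
    let f : A →* X := π.comp (Subgroup.inclusion hAM)
    have hfS : ∀ a : A, f a ∈ S ∧ f a * f a = 1 := fun a =>
      ⟨(hmemT (hAM a.2)).1 (hA.1.1 a.2), by
        rw [← map_mul, show a * a = 1 from Subtype.ext (hA.1.2 a a.2), map_one]⟩
    have hr : Nat.card f.range ≤ q := by
      let g : f.range → Option {t : X // t ∈ S ∧ orderOf t = 2} := fun x =>
        if hx : (x : X) = 1 then none else some ⟨x, by
          obtain ⟨a, ha⟩ := x.2
          rw [← ha] at hx ⊢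
          exact ⟨(hfS a).1, EPPOTwo.orderOf_eq_two (hfS a).2 hx⟩⟩
      have hg : Function.Injective g := by
        intro x y hxy
        simp only [g] at hxy
        split_ifs at hxy with hx hy hy
        · exact Subtype.ext (hx.trans hy.symm)
        · have h' := Option.some.inj hxy
          exact Subtype.ext (Subtype.mk.inj h')
      have h := Nat.card_le_card_of_injective g hg
      rw [Finite.card_option, ht.data.card_invol] at h
      have := ht.data.four_le
      omega
    refine maxEl_le hA hVO hOT hV hVc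
      (card_le_mul_inf f (fun a ha => (hker (Subgroup.inclusion hAM a)).1 ha) hr) fun a ha haO => ?_
    have hs : π ⟨a, hAM ha⟩ ∈ S ∧ orderOf (π ⟨a, hAM ha⟩) = 2 :=
      ⟨(hfS ⟨a, ha⟩).1, EPPOTwo.orderOf_eq_two (hfS ⟨a, ha⟩).2 fun e => haO ((hker _).1 e)⟩
    have h1 : c a * c a = Nat.card V := hsq ⟨a, hAM ha⟩ hs.1 hs.2
    have h2 : q < c a := hbig ⟨a, hAM ha⟩ hs.1 hs.2
    exact ⟨h1.le, h2⟩
  have hN := normalizer_JE ht.loc hT hA
  exact ⟨T, hT, isFullTwo_of_normalizer_JE hT hN, hN, ht.data.four_le.trans hqW⟩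

/-- Every Sylow 2-subgroup of the local subgroup has it as owner. -/
theorem Owner.of_tsyl {M T T' : Subgroup G} (h : Owner M T) (hT' : TSyl M T') :
    IsFullTwo T' ∧ Subgroup.normalizer (JE T' : Set G) = M := by
  obtain ⟨m, hm, rfl⟩ := exists_conj_tsyl h.tsyl hT'
  refine ⟨h.full.map m, ?_⟩
  rw [normalizer_JE_map, h.eq]
  ext a
  rw [EPPOTwo.mem_map_conj]
  exact ⟨fun ha => by simpa [mul_assoc] using mul_mem (mul_mem hm ha) (inv_mem hm),
    fun ha => mul_mem (mul_mem (inv_mem hm) ha) hm⟩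

end CfsgLib.Recog.CIT.SzLocal
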