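import Cfsg.Agent.Lib.Recog.CIT.Defs
import Cfsg.Agent.Lib.KnownA.SteinerUnique.Systems
import Cfsg.Agent.Lib.ThreeTransp.PlaneFour
import Cfsg.Agent.Lib.Spor.FourField
import Cfsg.Agent.Lib.Classical.Order
import Mathlib.LinearAlgebra.Projectivization.Action
import Mathlib.LinearAlgebra.Projectivization.Cardinality
import Mathlib.LinearAlgebra.CrossProduct
import Mathlib.LinearAlgebra.Matrix.SchurComplement
import Mathlib.LinearAlgebra.Dual.Lemmas

/-!
A simple group of order 20160 acting on a plane of order four and generated by elations is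
`PSL₃(4)`.
-/

set_option autoImplicit false

namespace CfsgLib.Recog.CIT.PlaneElation

open Cfsg Matrix
open CfsgLib.Spor (QField)
open scoped LinearAlgebra.Projectivization

/-- An elation with centre `p` and axis `l`. -/
def IsElationAt {α : Type*} (B : Set (Finset α)) (σ : Equiv.Perm α) (p : α) (l : Finset α) : Prop :=
  l ∈ B ∧ p ∈ l ∧ (∀ x ∈ l, σ x = x) ∧ ∀ m ∈ B, p ∈ m → ∀ x ∈ m, σ x ∈ m

section Abstract

variable {α : Type*} [Fintype α] [DecidableEq α] {B : Set (Finset α)}

theorem line_through (hB : IsSteinerSystem 2 5 B) {a b : α} (hab : a ≠ b) :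
    ∃ m ∈ B, a ∈ m ∧ b ∈ m ∧ ∀ m' ∈ B, a ∈ m' → b ∈ m' → m' = m := by
  obtain ⟨m, ⟨hm, hs⟩, hu⟩ := hB.2 {a, b} (Finset.card_pair hab)
  refine ⟨m, hm, hs (by simp), hs (by simp), fun m' h ha hb => hu m' ⟨h, ?_⟩⟩
  intro c hc
  simp only [Finset.mem_insert, Finset.mem_singleton] at hc
  rcases hc with rfl | rfl
  exacts [ha, hb]

theorem eq_of_mem_two (hB : IsSteinerSystem 2 5 B) {m m' : Finset α} {a b : α} (hm : m ∈ B)
    (hm' : m' ∈ B) (hab : a ≠ b) (ha : a ∈ m) (hb : b ∈ m) (ha' : a ∈ m') (hb' : b ∈ m') :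
    m = m' := by
  obtain ⟨k, -, -, -, hu⟩ := line_through hB hab
  rw [hu m hm ha hb, hu m' hm' ha' hb']

/-- any two lines of a plane of order four meet -/
theorem lines_meet (hα : Fintype.card α = 21) (hB : IsSteinerSystem 2 5 B) {l m : Finset α}
    (hl : l ∈ B) (hm : m ∈ B) : ∃ x, x ∈ l ∧ x ∈ m :=
  CfsgLib.ThreeTransp.PlaneFour.IsPlane.meet ⟨hα, hB⟩ hl hm

/-- an elation fixing a point off its axis is the identity, so elations agreeing there are equal -/
theorem elation_ext (hα : Fintype.card α = 21) (hB : IsSteinerSystem 2 5 B) {σ τ : Equiv.Perm α}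
    (hσa : ∀ m ∈ B, m.image σ ∈ B) (hτa : ∀ m ∈ B, m.image τ ∈ B) {p : α} {l : Finset α}
    (hσ : IsElationAt B σ p l) (hτ : IsElationAt B τ p l) {x : α} (hx : x ∉ l) (e : σ x = τ x) :
    σ = τ := by
  obtain ⟨hl, hp, hσf, hσl⟩ := hσ
  obtain ⟨-, -, hτf, hτl⟩ := hτ
  -- points off the line through `p` and `x`
  have step : ∀ x y : α, x ∉ l → σ x = τ x → y ∉ l → (∀ m ∈ B, p ∈ m → x ∈ m → y ∉ m) → σ y = τ y := by
    intro x y hx e hy hoff
    have hpy : p ≠ y := fun h => hy (h ▸ hp)
    have hpx : p ≠ x := fun h => hx (h ▸ hp)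
    have hxy : x ≠ y := fun h => by
      obtain ⟨m, hm, hpm, hxm, -⟩ := line_through hB hpx
      exact hoff m hm hpm hxm (h ▸ hxm)
    obtain ⟨n, hn, hxn, hyn, -⟩ := line_through hB hxy
    obtain ⟨w, hwl, hwn⟩ := lines_meet hα hB hl hn
    obtain ⟨k, hk, hpk, hyk, -⟩ := line_through hB hpy
    have hwx : w ≠ x := fun h => hx (h ▸ hwl)
    have hnn : n.image σ = n.image τ := by
      refine eq_of_mem_two hB (hσa n hn) (hτa n hn) (σ.injective.ne hwx)
        (Finset.mem_image_of_mem _ hwn) (Finset.mem_image_of_mem _ hxn) ?_ ?_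
      · rw [hσf w hwl, ← hτf w hwl]; exact Finset.mem_image_of_mem _ hwn
      · rw [e]; exact Finset.mem_image_of_mem _ hxn
    by_contra hne
    refine hoff k hk hpk ?_ hyk
    have hkn : n.image σ = k := eq_of_mem_two hB (hσa n hn) hk hne
      (Finset.mem_image_of_mem _ hyn) (hnn ▸ Finset.mem_image_of_mem _ hyn)
      (hσl k hk hpk y hyk) (hτl k hk hpk y hyk)
    -- `σ x` lies on `k`, hence so does `x`
    have hσx : σ x ∈ k := hkn ▸ Finset.mem_image_of_mem _ hxn
    obtain ⟨j, hj, hpj, hxj, -⟩ := line_through hB hpx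
    have hσxj : σ x ∈ j := hσl j hj hpj x hxj
    have hpσx : p ≠ σ x := fun h => by
      rw [← hσf p hp] at h
      exact hpx (σ.injective h)
    rwa [eq_of_mem_two hB hk hj hpσx hpk hσx hpj hσxj]
  have hpx : p ≠ x := fun h => hx (h ▸ hp)
  obtain ⟨j, hj, hpj, hxj, hju⟩ := line_through hB hpx
  refine Equiv.ext fun y => ?_
  by_cases hy : y ∈ l
  · rw [hσf y hy, hτf y hy]
  by_cases hyj : y ∈ j
  · -- take a point off both lines
    obtain ⟨v, hv⟩ : ∃ v, v ∉ l ∧ v ∉ j := by
      by_contra h
      push Not at h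
      have h1 : Finset.univ ⊆ l ∪ j := fun v _ => Finset.mem_union.2 (or_iff_not_imp_left.2 (h v))
      have h2 := (Finset.card_le_card h1).trans (Finset.card_union_le _ _)
      rw [Finset.card_univ, hα, hB.1 l hl, hB.1 j hj] at h2
      omega
    have hev : σ v = τ v := step x v hx e hv.1 fun m hm hpm hxm => (hju m hm hpm hxm).symm ▸ hv.2
    refine step v y hv.1 hev hy fun m hm hpm hvm hym => hv.2 ?_
    have hpy : p ≠ y := fun h => hy (h ▸ hp)
    rwa [← eq_of_mem_two hB hm hj hpy hpm hym hpj hyj]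
  · exact step x y hx e hy fun m hm hpm hxm => (hju m hm hpm hxm).symm ▸ hyj

end Abstract

/-- the points of the plane over the field of four elements -/
abbrev Pt := ℙ QField (Fin 3 → QField)

noncomputable instance : Fintype Pt := Fintype.ofFinite _

noncomputable instance : DecidableEq Pt := Classical.decEq _

/-- the line with coordinates `f` -/
noncomputable def line (f : Pt) : Finset Pt := Finset.univ.filter fun v => f.rep ⬝ᵥ v.rep = 0

/-- the lines -/
def lines : Set (Finset Pt) := Set.range line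

theorem mem_line {f v : Pt} : v ∈ line f ↔ f.rep ⬝ᵥ v.rep = 0 := by simp [line]

theorem mk_mem_line {f : Pt} {w : Fin 3 → QField} (hw : w ≠ 0) :
    Projectivization.mk QField w hw ∈ line f ↔ f.rep ⬝ᵥ w = 0 := by
  obtain ⟨a, ha⟩ := Projectivization.exists_smul_eq_mk_rep QField w hw
  rw [mem_line, ← ha, Units.smul_def, dotProduct_smul, smul_eq_mul, mul_eq_zero]
  exact or_iff_right a.ne_zero

theorem card_pt : Fintype.card Pt = 21 := by
  rw [← Nat.card_eq_fintype_card, Projectivization.card_of_finrank QField _ (n := 3) (by simp),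
    Nat.card_eq_fintype_card, CfsgLib.Spor.QField.card_eq]
  decide

theorem card_line (f : Pt) : (line f).card = 5 := by
  set φ : (Fin 3 → QField) →ₗ[QField] QField :=
    { toFun := fun v => f.rep ⬝ᵥ v
      map_add' := fun a b => dotProduct_add _ _ _
      map_smul' := fun c a => dotProduct_smul c _ _ } with hφ
  have hφ0 : φ ≠ 0 := fun h => f.rep_nonzero (funext fun i => by
    have := LinearMap.congr_fun h (Pi.single i 1)
    simpa [hφ, dotProduct_single] using this)
  have hr : Module.finrank QField (LinearMap.ker φ) = 2 := by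
    have := Module.Dual.finrank_ker_add_one_of_ne_zero (f := φ) hφ0
    simp at this
    omega
  let g : ℙ QField (LinearMap.ker φ) → Pt :=
    Projectivization.map (LinearMap.ker φ).subtype (Submodule.injective_subtype _)
  have hg : Function.Injective g := Projectivization.map_injective _ (Submodule.injective_subtype _)
  have hrange : Set.range g = (line f : Set Pt) := by
    ext v
    constructor
    · rintro ⟨u, rfl⟩
      induction u using Projectivization.ind with
      | h w hw => exact (mk_mem_line _).2 (LinearMap.mem_ker.1 w.2)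
    · intro hv
      have hm : v.rep ∈ LinearMap.ker φ := LinearMap.mem_ker.2 (mem_line.1 hv)
      refine ⟨Projectivization.mk QField ⟨v.rep, hm⟩ fun h => v.rep_nonzero (congrArg Subtype.val h), ?_⟩
      exact v.mk_rep
  rw [← Set.ncard_coe_finset, ← hrange, Set.ncard_range_of_injective hg,
    Projectivization.card_of_finrank_two QField _ hr, Nat.card_eq_fintype_card,
    CfsgLib.Spor.QField.card_eq]

theorem rep_indep {u v : Pt} (h : u ≠ v) : LinearIndependent QField ![u.rep, v.rep] := by
  rw [LinearIndependent.pair_iff' u.rep_nonzero]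
  intro a ha
  refine h ?_
  rw [← u.mk_rep, ← v.mk_rep, Projectivization.mk_eq_mk_iff']
  have ha0 : a ≠ 0 := fun e => v.rep_nonzero (by rw [← ha, e, zero_smul])
  exact ⟨a⁻¹, by rw [← ha, inv_smul_smul₀ ha0]⟩

theorem steiner : IsSteinerSystem 2 5 lines := by
  refine ⟨fun b hb => ?_, fun s hs => ?_⟩
  · obtain ⟨f, rfl⟩ := hb
    exact card_line f
  obtain ⟨u, v, huv, rfl⟩ := Finset.card_eq_two.1 hs
  have hw : u.rep ⨯₃ v.rep ≠ 0 := crossProduct_ne_zero_iff_linearIndependent.2 (rep_indep huv)
  set f := Projectivization.mk QField _ hw with hf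
  obtain ⟨a, ha⟩ := Projectivization.exists_smul_eq_mk_rep QField _ hw
  refine ⟨line f, ⟨⟨f, rfl⟩, ?_⟩, ?_⟩
  · intro c hc
    simp only [Finset.mem_insert, Finset.mem_singleton] at hc
    rw [mem_line, hf, ← ha, Units.smul_def, smul_dotProduct, dotProduct_comm]
    rcases hc with rfl | rfl
    · rw [dot_self_cross, smul_zero]
    · rw [dot_cross_self, smul_zero]
  · rintro _ ⟨⟨g, rfl⟩, hsub⟩
    have h1 : g.rep ⬝ᵥ u.rep = 0 := mem_line.1 (hsub (by simp))
    have h2 : g.rep ⬝ᵥ v.rep = 0 := mem_line.1 (hsub (by simp))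
    congr 1
    by_contra hne
    have hi := crossProduct_ne_zero_iff_linearIndependent.2 (rep_indep hne)
    rw [hf, ← ha, Units.smul_def, map_smul, cross_cross_eq_smul_sub_smul', dotProduct_comm u.rep,
      h1, h2, zero_smul, zero_smul, sub_zero, smul_zero] at hi
    exact hi rfl

theorem smul_mk_eq (g : Matrix.SpecialLinearGroup (Fin 3) QField) {w : Fin 3 → QField}
    (hw : w ≠ 0) (hgw : g.1 *ᵥ w ≠ 0) :
    g • Projectivization.mk QField w hw = Projectivization.mk QField (g.1 *ᵥ w) hgw := rfl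

/-- every elation of the plane over four elements is induced by a transvection -/
theorem elation_mem {σ : Equiv.Perm Pt} (hσa : ∀ m ∈ lines, m.image σ ∈ lines) {p : Pt}
    {l : Finset Pt} (hσ : IsElationAt lines σ p l) :
    σ ∈ (Projectivization.PSLAction.toPermHom (ι := Fin 3) (K := QField)).range := by
  classical
  have hσ' := hσ
  obtain ⟨⟨f, rfl⟩, hp, hfix, hlines⟩ := hσ'
  obtain ⟨x, hx⟩ : ∃ x, x ∉ line f := by
    by_contra h
    push Not at h
    have := Finset.card_le_card (fun v _ => h v : Finset.univ ⊆ line f)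
    rw [Finset.card_univ, card_pt, card_line] at this
    omega
  have hfp : f.rep ⬝ᵥ p.rep = 0 := mem_line.1 hp
  have hfx : f.rep ⬝ᵥ x.rep ≠ 0 := fun h => hx (mem_line.2 h)
  have hpx : p ≠ x := fun h => hx (h ▸ hp)
  set y := σ x with hy
  have hyl : y ∉ line f := fun h => by
    have := hfix y h
    rw [hy] at this
    exact hx (σ.injective this ▸ h)
  -- `y` is a combination of `p` and `x`
  obtain ⟨g, ⟨⟨gi, rfl⟩, hgs⟩, hgu⟩ := steiner.2 {p, x} (Finset.card_pair hpx)
  have hyg : y ∈ line gi := hlines _ ⟨gi, rfl⟩ (hgs (by simp)) x (hgs (by simp))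
  have hcomb : ∃ a b : QField, y.rep = a • p.rep + b • x.rep := by
    have hi := rep_indep hpx
    have hspan : Submodule.span QField (Set.range ![p.rep, x.rep]) ≤
        LinearMap.ker ({ toFun := fun v => gi.rep ⬝ᵥ v
                         map_add' := fun a b => dotProduct_add _ _ _
                         map_smul' := fun c a => dotProduct_smul c _ _ } : (Fin 3 → QField) →ₗ[QField] QField) := by
      rw [Submodule.span_le]
      rintro _ ⟨i, rfl⟩
      fin_cases i
      · exact LinearMap.mem_ker.2 (mem_line.1 (hgs (by simp)))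
      · exact LinearMap.mem_ker.2 (mem_line.1 (hgs (by simp)))
    have hne : ({ toFun := fun v => gi.rep ⬝ᵥ v
                  map_add' := fun a b => dotProduct_add _ _ _
                  map_smul' := fun c a => dotProduct_smul c _ _ } : (Fin 3 → QField) →ₗ[QField] QField) ≠ 0 :=
      fun h => gi.rep_nonzero (funext fun i => by
        have := LinearMap.congr_fun h (Pi.single i 1)
        simpa [dotProduct_single] using this)
    have h3 := Module.Dual.finrank_ker_add_one_of_ne_zero hne
    have h2 := finrank_span_eq_card hi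
    have heq := Submodule.eq_of_le_of_finrank_le hspan (by
      simp at h2 h3 ⊢
      omega)
    have hy' : y.rep ∈ Submodule.span QField (Set.range ![p.rep, x.rep]) :=
      heq ▸ LinearMap.mem_ker.2 (mem_line.1 hyg)
    rw [Matrix.range_cons, Matrix.range_cons, Matrix.range_empty, Set.union_empty,
      Set.singleton_union, Submodule.mem_span_pair] at hy'
    obtain ⟨a, b, hab⟩ := hy'
    exact ⟨a, b, hab.symm⟩
  obtain ⟨a, b, hab⟩ := hcomb
  have hb : b ≠ 0 := fun h => hyl (mem_line.2 (by
    rw [hab, h, zero_smul, add_zero, dotProduct_smul, hfp, smul_zero]))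
  set c := a * b⁻¹ * (f.rep ⬝ᵥ x.rep)⁻¹ with hc
  let τm : Matrix (Fin 3) (Fin 3) QField := 1 + Matrix.replicateCol (Fin 1) (c • p.rep) * Matrix.replicateRow (Fin 1) f.rep
  have hdet : τm.det = 1 := by
    show (1 + Matrix.replicateCol (Fin 1) (c • p.rep) * Matrix.replicateRow (Fin 1) f.rep).det = 1
    rw [Matrix.det_one_add_mul_comm, Matrix.det_unique, Matrix.add_apply, Matrix.one_apply_eq,
      Matrix.replicateRow_mul_replicateCol_apply, dotProduct_smul, hfp, smul_zero, add_zero]
  let τ : Matrix.SpecialLinearGroup (Fin 3) QField := ⟨τm, hdet⟩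
  have hτv : ∀ v, τ.1 *ᵥ v = v + (c * (f.rep ⬝ᵥ v)) • p.rep := by
    intro v
    show (1 + Matrix.replicateCol (Fin 1) (c • p.rep) * Matrix.replicateRow (Fin 1) f.rep) *ᵥ v = _
    rw [Matrix.add_mulVec, Matrix.one_mulVec, ← Matrix.mulVec_mulVec]
    congr 1
    funext i
    simp [Matrix.mulVec, dotProduct]
    ring
  have hne : ∀ v : Pt, τ.1 *ᵥ v.rep ≠ 0 := fun v e => v.rep_nonzero (by
    have h1 : (τ⁻¹ : Matrix.SpecialLinearGroup (Fin 3) QField).1 *ᵥ (τ.1 *ᵥ v.rep) = 0 := by
      rw [e, Matrix.mulVec_zero]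
    rwa [Matrix.mulVec_mulVec, ← Matrix.SpecialLinearGroup.coe_mul, inv_mul_cancel,
      Matrix.SpecialLinearGroup.coe_one, Matrix.one_mulVec] at h1)
  have hsm : ∀ v : Pt, τ • v = Projectivization.mk QField (τ.1 *ᵥ v.rep) (hne v) := by
    intro v
    conv_lhs => rw [← v.mk_rep]
    exact smul_mk_eq τ _ (hne v)
  let ρ := Projectivization.PSLAction.toPermHom (ι := Fin 3) (K := QField)
  refine ⟨(τ : Matrix.ProjectiveSpecialLinearGroup (Fin 3) QField), ?_⟩
  have hτa : ∀ m ∈ lines, m.image (ρ τ) ∈ lines := by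
    rintro _ ⟨k, rfl⟩
    -- the image line has coordinates `k` composed with the inverse
    set k' : Fin 3 → QField := Matrix.vecMul k.rep (τ⁻¹ : Matrix.SpecialLinearGroup (Fin 3) QField).1 with hk'
    have hkk : Matrix.vecMul k' τ.1 = k.rep := by
      rw [hk', Matrix.vecMul_vecMul, ← Matrix.SpecialLinearGroup.coe_mul, inv_mul_cancel,
        Matrix.SpecialLinearGroup.coe_one, Matrix.vecMul_one]
    have hk0 : k' ≠ 0 := fun h => k.rep_nonzero (by rw [← hkk, h, Matrix.zero_vecMul])
    refine ⟨Projectivization.mk QField k' hk0, ?_⟩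
    obtain ⟨t, ht⟩ := Projectivization.exists_smul_eq_mk_rep QField k' hk0
    ext v
    have key : ∀ u : Pt, τ • u ∈ line (Projectivization.mk QField k' hk0) ↔ u ∈ line k := by
      intro u
      rw [hsm u, mk_mem_line, mem_line, ← ht, Units.smul_def, smul_dotProduct, smul_eq_mul, mul_eq_zero,
        Matrix.dotProduct_mulVec, hkk, or_iff_right t.ne_zero]
    constructor
    · intro hv
      refine Finset.mem_image.2 ⟨τ⁻¹ • v, (key _).1 (by rwa [smul_inv_smul]), ?_⟩
      exact smul_inv_smul τ v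
    · intro hv
      obtain ⟨u, hu, rfl⟩ := Finset.mem_image.1 hv
      exact (key u).2 hu
  have hτe : IsElationAt lines (ρ τ) p (line f) := by
    refine ⟨⟨f, rfl⟩, hp, fun v hv => ?_, ?_⟩
    · show τ • v = v
      rw [hsm v]
      conv_rhs => rw [← v.mk_rep]
      rw [Projectivization.mk_eq_mk_iff']
      exact ⟨1, by rw [one_smul, hτv, mem_line.1 hv, mul_zero, zero_smul, add_zero]⟩
    · rintro _ ⟨k, rfl⟩ hpk v hv
      show τ • v ∈ line k
      rw [hsm v, mk_mem_line, hτv, dotProduct_add, dotProduct_smul, mem_line.1 hpk, mem_line.1 hv,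
        smul_zero, add_zero]
  refine (elation_ext card_pt steiner hσa hτa hσ hτe hx ?_).symm
  show y = τ • x
  rw [hsm x]
  conv_lhs => rw [← y.mk_rep]
  rw [Projectivization.mk_eq_mk_iff']
  refine ⟨b, ?_⟩
  rw [hτv, hab, smul_add, smul_smul, add_comm (a • p.rep)]
  congr 2
  rw [hc]
  field_simp

/-- recognition by elations -/
theorem isL34_of_elations {G : Type*} [Group G] [Finite G] [IsSimpleGroup G]
    (hc : Nat.card G = 20160) {α : Type*} [Fintype α] [DecidableEq α] (hα : Fintype.card α = 21)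
    {B : Set (Finset α)} (hB : IsSteinerSystem 2 5 B) (ρ : G →* Equiv.Perm α) (hρ : ρ ≠ 1)
    (haut : ∀ g, ∀ m ∈ B, m.image (ρ g) ∈ B) {S : Set G} (hS : Subgroup.closure S = ⊤)
    (hel : ∀ s ∈ S, ∃ p l, IsElationAt B (ρ s) p l) :
    IsL34 G := by
  classical
  obtain ⟨e, he⟩ : SetSystemIso B lines :=
    (CfsgLib.SteinerUnique.labelled21 hα hB).iso (by norm_num)
      (CfsgLib.SteinerUnique.labelled21 card_pt steiner)
  have hmem : ∀ m, m ∈ B → m.image e ∈ lines := fun m hm => he ▸ ⟨m, hm, rfl⟩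
  have hmem' : ∀ k ∈ lines, ∃ m ∈ B, m.image e = k := fun k hk => by
    rw [← he] at hk
    exact hk
  let θ : G →* Equiv.Perm Pt := (e.permCongrHom.toMonoidHom).comp ρ
  have hθ : ∀ g v, θ g (e v) = e (ρ g v) := fun g v => by
    simp [θ, Equiv.permCongrHom, Equiv.permCongr_apply]
  let π := Projectivization.PSLAction.toPermHom (ι := Fin 3) (K := QField)
  have hle : θ.range ≤ π.range := by
    rw [MonoidHom.range_eq_map, ← hS, MonoidHom.map_closure, Subgroup.closure_le]
    rintro _ ⟨s, hs, rfl⟩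
    obtain ⟨p, l, hl, hp, hfix, hlin⟩ := hel s hs
    refine elation_mem ?_ (p := e p) (l := l.image e) ⟨hmem l hl, Finset.mem_image_of_mem _ hp, ?_, ?_⟩
    · intro k hk
      obtain ⟨m, hm, rfl⟩ := hmem' k hk
      rw [Finset.image_image, show (θ s) ∘ e = e ∘ (ρ s) from funext (hθ s), ← Finset.image_image]
      exact hmem _ (haut s m hm)
    · intro v hv
      obtain ⟨w, hw, rfl⟩ := Finset.mem_image.1 hv
      rw [hθ, hfix w hw]
    · intro k hk hpk v hv
      obtain ⟨m, hm, rfl⟩ := hmem' k hk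
      obtain ⟨w, hw, rfl⟩ := Finset.mem_image.1 hv
      rw [hθ]
      refine Finset.mem_image_of_mem _ (hlin m hm ?_ w hw)
      obtain ⟨q, hq, hqe⟩ := Finset.mem_image.1 hpk
      exact e.injective hqe ▸ hq
  have hθi : Function.Injective θ := by
    have hρi : Function.Injective ρ := (MonoidHom.ker_eq_bot_iff ρ).1
      ((Subgroup.Normal.eq_bot_or_eq_top ρ.normal_ker).resolve_right fun h =>
        hρ (MonoidHom.ker_eq_top_iff.1 h))
    exact e.permCongrHom.injective.comp hρi
  have hπ : Function.Injective π := Matrix.ProjectiveSpecialLinearGroup.toPermHom_injective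
  have hcardP : Nat.card (Matrix.ProjectiveSpecialLinearGroup (Fin 3) QField) = 20160 := by
    rw [CfsgLib.Classical.card_PSL_fin 3 (by norm_num), CfsgLib.Classical.card_SL_fin',
      Nat.card_eq_fintype_card, CfsgLib.Spor.QField.card_eq]
    decide
  have heq : θ.range = π.range := Subgroup.eq_of_le_of_card_ge hle (by
    rw [← Nat.card_congr (MonoidHom.ofInjective hθi).toEquiv,
      ← Nat.card_congr (MonoidHom.ofInjective hπ).toEquiv, hc, hcardP])
  exact ⟨QField, inferInstance, inferInstance, CfsgLib.Spor.QField.card_eq,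
    ⟨((MonoidHom.ofInjective hθi).trans (MulEquiv.subgroupCongr heq)).trans
      (MonoidHom.ofInjective hπ).symm⟩⟩

end CfsgLib.Recog.CIT.PlaneElation
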