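import Cfsg.Agent.Lib.Recog.CIT.Basic
import Cfsg.Agent.Lib.Involutions.StrongEmbCosets
import Cfsg.Prelude.Def_LieExceptional
import Cfsg.Agent.S0204
import Cfsg.Agent.S0564

/-!
A strongly embedded subgroup `H` of a simple group in which every involution centraliser is a
2-group is a 2-group extended by a cyclic group, and the group acts on `G ⧸ H` as a Zassenhaus
group.
-/

set_option autoImplicit false
set_option linter.dupNamespace false
set_option linter.unusedSectionVars false
set_option linter.style.haveILetI false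

namespace CfsgLib.Recog.CIT

open EPPOTwo (IsTwo O2 isTwo_of_mem exists_involution isPGroup_of_isTwo sq_eq_one_of_orderOf
  orderOf_eq_two isTwo_of_sq)
open Involutions (conj_invol invol_inv invol_mul_self)

universe u

variable {G : Type u} [Group G] [Finite G]

theorem not_isCyclic_of_noncomm (hnab : ∃ a b : G, a * b ≠ b * a) : ¬ IsCyclic G := fun h => by
  obtain ⟨g, hg⟩ := h.exists_generator
  obtain ⟨a, b, hab⟩ := hnab
  obtain ⟨i, rfl⟩ := Subgroup.mem_zpowers_iff.1 (hg a)
  obtain ⟨j, rfl⟩ := Subgroup.mem_zpowers_iff.1 (hg b)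
  exact hab ((Commute.refl g).zpow_zpow i j).eq

theorem exists_pgroup_max {P₀ : Subgroup G} (h : IsPGroup 2 P₀) :
    ∃ P : Subgroup G, P₀ ≤ P ∧ IsPGroup 2 P ∧
      ∀ R : Subgroup G, IsPGroup 2 R → P ≤ R → R = P := by
  obtain ⟨P, hle, hmax⟩ := Finite.exists_le_maximal (p := fun R : Subgroup G => IsPGroup 2 R) h
  exact ⟨P, hle, hmax.prop, fun R hR hPR => le_antisymm (hmax.2 hR hPR) hPR⟩

/-- A maximal 2-subgroup has odd index in every subgroup containing it. -/
theorem odd_relIndex_of_max {P K : Subgroup G} (hP : IsPGroup 2 P)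
    (hmax : ∀ R : Subgroup G, IsPGroup 2 R → P ≤ R → R = P) (hPK : P ≤ K) :
    Odd (P.relIndex K) := by
  haveI : Fact (Nat.Prime 2) := ⟨Nat.prime_two⟩
  obtain ⟨S, hS⟩ := hP.exists_le_sylow
  have hSP : (S : Subgroup G) = P := hmax _ S.isPGroup' hS
  have h1 : ¬ 2 ∣ P.index := hSP ▸ S.not_dvd_index
  rw [← Subgroup.relIndex_mul_index hPK] at h1
  exact Nat.not_even_iff_odd.1 fun h => h1 (dvd_mul_of_dvd_left (even_iff_two_dvd.1 h) _)

/-- A Klein four group containing a given central element of a maximal 2-subgroup. -/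
theorem exists_four [IsSimpleGroup G] (hnab : ∃ a b : G, a * b ≠ b * a) :
    ∃ a b : G, orderOf a = 2 ∧ orderOf b = 2 ∧ a ≠ b ∧ Commute a b := by
  obtain ⟨E, hE⟩ := Cfsg.Agent.S0204.result (not_isCyclic_of_noncomm hnab)
  classical
  haveI := hE
  haveI : Nontrivial E := Finite.one_lt_card_iff_nontrivial.1 (by rw [hE.card_four]; norm_num)
  have hexp : ∀ e : E, e * e = 1 := fun e => by
    rw [← pow_two, ← hE.exponent_two]; exact Monoid.pow_exponent_eq_one e
  obtain ⟨a, ha⟩ := exists_ne (1 : E)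
  obtain ⟨b, hb, hba⟩ : ∃ e : E, e ≠ 1 ∧ e ≠ a := by
    by_contra hall
    push Not at hall
    have h1 : Nat.card E ≤ Nat.card Bool :=
      Nat.card_le_card_of_injective (fun e => decide (e = 1)) fun x y hxy => by
        simp only [decide_eq_decide] at hxy
        by_cases hx : x = 1
        · rw [hx, hxy.1 hx]
        · rw [hall x hx, hall y (fun hy => hx (hxy.2 hy))]
    rw [hE.card_four, show Nat.card Bool = 2 by simp] at h1
    omega
  have ho : ∀ e : E, e ≠ 1 → orderOf (e : G) = 2 := fun e he =>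
    orderOf_eq_two (congrArg Subtype.val (hexp e)) (fun h => he (Subtype.ext h))
  refine ⟨a, b, ho a ha, ho b hb, fun e => hba (Subtype.ext e.symm), ?_⟩
  refine congrArg Subtype.val (?_ : a * b = b * a)
  calc a * b = (a * b)⁻¹ := eq_inv_of_mul_eq_one_left (hexp _)
    _ = b⁻¹ * a⁻¹ := mul_inv_rev _ _
    _ = b * a := by rw [inv_eq_of_mul_eq_one_right (hexp b), inv_eq_of_mul_eq_one_right (hexp a)]

theorem exists_normal_abelian {K : Type*} [Group K] [Finite K] [Group.IsSolvable K]
    (hK : (⊤ : Subgroup K) ≠ ⊥) :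
    ∃ A : Subgroup K, A.Normal ∧ A ≠ ⊥ ∧ IsMulCommutative A := by
  obtain ⟨n, hn⟩ := Group.IsSolvable.solvable (G := K)
  induction n with
  | zero => exact absurd hn hK
  | succ n ih =>
    by_cases h : derivedSeries K n = ⊥
    · exact ih h
    · refine ⟨derivedSeries K n, derivedSeries_normal K n, h, ⟨⟨fun a b => Subtype.ext ?_⟩⟩⟩
      rw [derivedSeries_succ] at hn
      exact Subgroup.commutator_eq_bot_iff_le_centralizer.1 hn a.2 b b.2 |>.symm

/-- Everything about a strongly embedded subgroup `H`, given two points `o ≠ c` of `G ⧸ H`. -/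
structure Frame (G : Type u) [Group G] (H : Subgroup G) : Prop where
  cit : CIT G
  simple : IsSimpleGroup G
  noncomm : ∃ a b : G, a * b ≠ b * a
  se : Cfsg.IsStronglyEmbedded H

namespace Frame

variable {H : Subgroup G} (F : Frame G H)
include F

/-- The centraliser of an involution of `H` is a maximal 2-subgroup inside `H`. -/
theorem centralizer_max {t : G} (ht : orderOf t = 2) (htH : t ∈ H) :
    ∀ R : Subgroup G, IsPGroup 2 R → Subgroup.centralizer ({t} : Set G) ≤ R →
      R = Subgroup.centralizer ({t} : Set G) := by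
  obtain ⟨P, hP0, hP, hmax⟩ := exists_pgroup_max (P₀ := Subgroup.zpowers t)
    (IsPGroup.of_card (n := 1) (by rw [Nat.card_zpowers, ht, pow_one]))
  haveI : Fact (Nat.Prime 2) := ⟨Nat.prime_two⟩
  have htP : t ∈ P := hP0 (Subgroup.mem_zpowers t)
  haveI : Nontrivial P := ⟨⟨⟨t, htP⟩, 1, fun e => by
    rw [show t = 1 from congrArg Subtype.val e, orderOf_one] at ht; omega⟩⟩
  obtain ⟨z, hz, hzo⟩ := exists_involution (hP.to_subgroup _)
    ((Subgroup.nontrivial_iff_ne_bot _).1 hP.center_nontrivial)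
  have hzo' : orderOf (z : G) = 2 := by rwa [Subgroup.orderOf_coe]
  have hzc : P ≤ Subgroup.centralizer ({(z : G)} : Set G) := fun p hp =>
    Subgroup.mem_centralizer_singleton_iff.2
      (congrArg Subtype.val (Subgroup.mem_center_iff.1 hz ⟨p, hp⟩))
  have hzP : Subgroup.centralizer ({(z : G)} : Set G) = P := hmax _ (F.cit _ hzo') hzc
  obtain ⟨g, hg⟩ := isConj_iff.1 (Involutions.SE.isConj F.se ht hzo')
  intro R hR hle
  refine le_antisymm (fun r hr => ?_) hle
  have h1 : P ≤ R.map (MulAut.conj g).toMonoidHom := by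
    rw [← hzP]
    intro y hy
    refine Involutions.mem_conj_map.2 (hle (Subgroup.mem_centralizer_singleton_iff.2 ?_))
    have h2 := Subgroup.mem_centralizer_singleton_iff.1 hy
    rw [← hg] at h2
    calc g⁻¹ * y * g * t = g⁻¹ * (y * (g * t * g⁻¹)) * g := by group
      _ = g⁻¹ * ((g * t * g⁻¹) * y) * g := by rw [h2]
      _ = t * (g⁻¹ * y * g) := by group
  have h3 : g * r * g⁻¹ ∈ Subgroup.centralizer ({(z : G)} : Set G) := by
    rw [hzP, ← hmax _ (hR.map _) h1]
    exact Involutions.map_conj_mem hr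
  have h4 := Subgroup.mem_centralizer_singleton_iff.1 h3
  rw [← hg] at h4
  refine Subgroup.mem_centralizer_singleton_iff.2 ?_
  calc r * t = g⁻¹ * (g * r * g⁻¹ * (g * t * g⁻¹)) * g := by group
    _ = g⁻¹ * ((g * t * g⁻¹) * (g * r * g⁻¹)) * g := by rw [h4]
    _ = t * r := by group

theorem centralizer_le {t : G} (ht : orderOf t = 2) (htH : t ∈ H) :
    Subgroup.centralizer ({t} : Set G) ≤ H :=
  Involutions.SE.centralizer_le F.se ht htH

/-- Odd normal subgroups of `H` are trivial. -/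
theorem eq_bot_of_odd {A : Subgroup G} (hAH : A ≤ H) (hA : Odd (Nat.card A))
    (hn : H ≤ Subgroup.normalizer (A : Set G)) : A = ⊥ := by
  haveI := F.simple
  obtain ⟨a, b, ha, hb, hab, hc⟩ := exists_four F.noncomm
  obtain ⟨t, htH, ht⟩ := Involutions.SE.exists_invol F.se
  obtain ⟨g, hg⟩ := isConj_iff.1 (Involutions.SE.isConj F.se ha ht)
  set b' := g * b * g⁻¹ with hb'
  have hb'o : orderOf b' = 2 := conj_invol g hb
  have hc' : Commute t b' := hg ▸ hc.map (MulAut.conj g).toMonoidHom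
  have hb'H : b' ∈ H := F.centralizer_le ht htH (Subgroup.mem_centralizer_singleton_iff.2 hc'.eq.symm)
  have key : ∀ s : G, orderOf s = 2 → s ∈ H → ∀ x ∈ A, s * x * s⁻¹ = x⁻¹ := fun s hs hsH x hx => by
    have hfpf : Base.IsFPF (Subgroup.zpowers s) A := by
      refine ⟨Subgroup.zpowers_le.2 (hn hsH), fun y hy hy1 => (Subgroup.eq_bot_iff_forall _).2
        fun v hv => ?_⟩
      by_contra hv1
      have hys : y = s := by
        obtain ⟨i, rfl⟩ := Subgroup.mem_zpowers_iff.1 hy
        rcases Int.even_or_odd i with ⟨j, rfl⟩ | ⟨j, rfl⟩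
        · exact absurd (by rw [← two_mul, zpow_mul, zpow_two, invol_mul_self hs, one_zpow]) hy1
        · rw [zpow_add, zpow_mul, zpow_two, invol_mul_self hs, one_zpow, one_mul, zpow_one]
      exact hv1 (eq_one_of_odd_isTwo (odd_orderOf_of_mem hA hv.1) (F.cit.two_element hs (by
        rw [← hys]; exact Subgroup.mem_centralizer_iff.1 hv.2 y rfl)))
    exact hfpf.conj_eq_inv (Subgroup.mem_zpowers s)
      (fun e => by rw [e, orderOf_one] at hs; omega) (invol_mul_self hs) hx
  refine (Subgroup.eq_bot_iff_forall _).2 fun x hx => ?_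
  have htb : t * b' ≠ 1 := fun e => hab (by
    have h1 : g * a * g⁻¹ = g * b * g⁻¹ := by
      rw [hg, ← hb', ← inv_eq_of_mul_eq_one_right e, invol_inv ht]
    exact mul_left_cancel (mul_right_cancel h1))
  have hto : orderOf (t * b') = 2 :=
    orderOf_eq_two (by
      calc t * b' * (t * b') = t * (b' * t) * b' := by group
        _ = t * (t * b') * b' := by rw [hc'.eq]
        _ = (t * t) * (b' * b') := by group
        _ = 1 := by rw [invol_mul_self ht, invol_mul_self hb'o, one_mul]) htb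
  have h1 := key _ hto (mul_mem htH hb'H) x hx
  have h2 : t * b' * x * (t * b')⁻¹ = x := by
    calc t * b' * x * (t * b')⁻¹ = t * (b' * x * b'⁻¹) * t⁻¹ := by group
      _ = (t * x * t⁻¹)⁻¹ := by rw [key b' hb'o hb'H x hx]; group
      _ = x := by rw [key t ht htH x hx, inv_inv]
  rw [h2] at h1
  exact eq_one_of_odd_isTwo (odd_orderOf_of_mem hA hx)
    (isTwo_of_sq (mul_eq_one_iff_eq_inv.2 h1))

/-- The number of involutions in `H`. -/
theorem card_invol {t : G} (ht : orderOf t = 2) (htH : t ∈ H) :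
    Nat.card H =
        Nat.card (Subgroup.centralizer ({t} : Set G)) *
          Nat.card {s : G // orderOf s = 2 ∧ s ∈ H} ∧
      Odd (Nat.card {s : G // orderOf s = 2 ∧ s ∈ H}) := by
  classical
  set C := Subgroup.centralizer ({t} : Set G) with hC
  let f : H ⧸ C.subgroupOf H → {s : G // orderOf s = 2 ∧ s ∈ H} :=
    Quotient.lift (fun a : H => ⟨(a : G) * t * (a : G)⁻¹, conj_invol _ ht,
      mul_mem (mul_mem a.2 htH) (inv_mem a.2)⟩) fun a b hab => by
      have hab' : ((a⁻¹ * b : H) : G) ∈ C :=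
        Subgroup.mem_subgroupOf.1 (QuotientGroup.leftRel_apply.1 hab)
      refine Subtype.ext ?_
      have h1 := Subgroup.mem_centralizer_singleton_iff.1 hab'
      simp only [Subgroup.coe_mul, Subgroup.coe_inv] at h1
      calc (a : G) * t * (a : G)⁻¹ = a * (t * ((a : G)⁻¹ * b)) * (b : G)⁻¹ := by group
        _ = a * ((a : G)⁻¹ * b * t) * (b : G)⁻¹ := by rw [h1]
        _ = _ := by group
  have hf : Function.Bijective f := by
    constructor
    · intro p q
      induction p using QuotientGroup.induction_on with | _ a => ?_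
      induction q using QuotientGroup.induction_on with | _ b => ?_
      intro hab
      rw [QuotientGroup.eq, Subgroup.mem_subgroupOf]
      refine Subgroup.mem_centralizer_singleton_iff.2 ?_
      have h1 : (a : G) * t * (a : G)⁻¹ = b * t * (b : G)⁻¹ := congrArg Subtype.val hab
      show (a : G)⁻¹ * b * t = t * ((a : G)⁻¹ * b)
      calc (a : G)⁻¹ * b * t = (a : G)⁻¹ * (b * t * (b : G)⁻¹) * b := by group
        _ = (a : G)⁻¹ * (a * t * (a : G)⁻¹) * b := by rw [h1]
        _ = _ := by group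
    · rintro ⟨s, hs, hsH⟩
      obtain ⟨g, hg⟩ := isConj_iff.1 (Involutions.SE.isConj F.se ht hs)
      exact ⟨QuotientGroup.mk ⟨g, Involutions.SE.mem_of_conj F.se ht htH (hg.symm ▸ hsH)⟩,
        Subtype.ext hg⟩
  have h1 : Nat.card {s : G // orderOf s = 2 ∧ s ∈ H} = C.relIndex H := by
    rw [← Nat.card_congr (Equiv.ofBijective f hf)]
    rfl
  refine ⟨?_, h1 ▸ odd_relIndex_of_max (F.cit t ht) (F.centralizer_max ht htH)
    (F.centralizer_le ht htH)⟩
  rw [h1, ← Subgroup.relIndex_bot_left, ← Subgroup.relIndex_bot_left,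
    Subgroup.relIndex_mul_relIndex _ _ _ bot_le (F.centralizer_le ht htH)]

/-- At least two involutions in `H`. -/
theorem one_lt_invol : 1 < Nat.card {s : G // orderOf s = 2 ∧ s ∈ H} := by
  haveI := F.simple
  obtain ⟨a, b, ha, hb, hab, hc⟩ := exists_four F.noncomm
  obtain ⟨t, htH, ht⟩ := Involutions.SE.exists_invol F.se
  obtain ⟨g, hg⟩ := isConj_iff.1 (Involutions.SE.isConj F.se ha ht)
  haveI : Nontrivial {s : G // orderOf s = 2 ∧ s ∈ H} :=
    ⟨⟨⟨t, ht, htH⟩, ⟨g * b * g⁻¹, conj_invol g hb, F.centralizer_le ht htH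
      (Subgroup.mem_centralizer_singleton_iff.2
        (by
          have h2 : Commute (g * a * g⁻¹) (g * b * g⁻¹) := hc.map (MulAut.conj g).toMonoidHom
          rw [hg] at h2
          exact h2.eq.symm))⟩, fun e => hab
          (mul_left_cancel (mul_right_cancel (hg.trans (congrArg Subtype.val e))))⟩⟩
  exact Finite.one_lt_card

/-- The two-point stabiliser. -/
theorem pair_facts {c : G ⧸ H} (hc : c ≠ QuotientGroup.mk 1) :
    ∃ u : G, orderOf u = 2 ∧ (QuotientGroup.mk u : G ⧸ H) = c ∧ u • c = QuotientGroup.mk 1 ∧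
      Odd (Nat.card ↥(H ⊓ MulAction.stabilizer G c)) ∧
      Nat.card ↥(H ⊓ MulAction.stabilizer G c) = Nat.card {s : G // orderOf s = 2 ∧ s ∈ H} ∧
      (∀ d ∈ H ⊓ MulAction.stabilizer G c, u * d * u⁻¹ = d⁻¹) ∧
      (∀ d ∈ H ⊓ MulAction.stabilizer G c, ∀ e ∈ H ⊓ MulAction.stabilizer G c, d * e = e * d) := by
  classical
  set o : G ⧸ H := QuotientGroup.mk 1 with ho
  have hfixo : ∀ {g : G}, g • o = o ↔ g ∈ H := by
    intro g
    rw [ho, MulAction.Quotient.smul_mk, smul_eq_mul, mul_one, eq_comm, QuotientGroup.eq]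
    simp
  obtain ⟨t, htH, ht⟩ := Involutions.SE.exists_invol F.se
  set D := H ⊓ MulAction.stabilizer G c with hD
  set Z := {s : G // orderOf s = 2 ∧ s ∈ H}
  have hDodd : Odd (Nat.card D) := (Involutions.odd_card_iff D).2 fun d hd hdo => by
    have := Involutions.SE.odd_of_two_fixed F.se (Ne.symm hc) (hfixo.2 hd.1) hd.2
    rw [hdo] at this
    exact Nat.not_even_iff_odd.2 this even_two
  -- free action on the involutions
  have hle : Nat.card D ≤ Nat.card Z := by
    refine Nat.card_le_card_of_injective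
      (fun d : D => (⟨(d : G) * t * (d : G)⁻¹, conj_invol _ ht,
        mul_mem (mul_mem d.2.1 htH) (inv_mem d.2.1)⟩ : Z)) fun d e hde => ?_
    have h1 : (d : G) * t * (d : G)⁻¹ = e * t * (e : G)⁻¹ := congrArg Subtype.val hde
    have h2 : Commute t ((d : G)⁻¹ * e) := by
      show t * ((d : G)⁻¹ * e) = (d : G)⁻¹ * e * t
      calc t * ((d : G)⁻¹ * e) = (d : G)⁻¹ * (d * t * (d : G)⁻¹) * e := by group
        _ = (d : G)⁻¹ * (e * t * (e : G)⁻¹) * e := by rw [h1]
        _ = _ := by group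
    exact Subtype.ext (inv_mul_eq_one.1 (eq_one_of_odd_isTwo
      (odd_orderOf_of_mem hDodd (mul_mem (inv_mem d.2) e.2)) (F.cit.two_element ht h2)))
  -- the exchanging involutions
  have hcard : Nat.card {i : G // orderOf i = 2 ∧ i • o = c} = Nat.card Z :=
    (Involutions.SE.card_carry F.se ht (Ne.symm hc) (hfixo.2 htH)).trans
      (Involutions.SE.card_fixing c)
  have hswap : ∀ i : G, orderOf i = 2 → i • o = c → i • c = o := fun i hi h => by
    rw [← h, ← mul_smul, invol_mul_self hi, one_smul]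
  obtain ⟨⟨u, hu, huo⟩⟩ : Nonempty {i : G // orderOf i = 2 ∧ i • o = c} := by
    by_contra hne
    rw [not_nonempty_iff] at hne
    rw [Nat.card_of_isEmpty] at hcard
    have h1 : 1 < Nat.card Z := F.one_lt_invol
    omega
  have huc := hswap u hu huo
  let J := {d : D // u * (d : G) * u⁻¹ = (d : G)⁻¹}
  have hJ : Nat.card Z ≤ Nat.card J := by
    rw [← hcard]
    refine Nat.card_le_card_of_injective (fun i => (⟨⟨u * i.1, hfixo.1 ?_, ?_⟩, ?_⟩ : J))
      fun i j hij => Subtype.ext (mul_left_cancel (congrArg (fun d : J => ((d : D) : G)) hij))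
    · rw [mul_smul, i.2.2, huc]
    · show (u * i.1) • c = c
      rw [mul_smul, hswap i.1 i.2.1 i.2.2, huo]
    · show u * (u * i.1) * u⁻¹ = (u * i.1)⁻¹
      rw [mul_inv_rev, invol_inv i.2.1, invol_inv hu, ← mul_assoc u u, invol_mul_self hu, one_mul]
  have hJD : Nat.card J ≤ Nat.card D :=
    Nat.card_le_card_of_injective (fun d : J => (d : D)) Subtype.val_injective
  have hall : ∀ d ∈ D, u * d * u⁻¹ = d⁻¹ := fun d hd => by
    have hbij := (Nat.bijective_iff_injective_and_card (fun d : J => (d : D))).2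
      ⟨Subtype.val_injective, by omega⟩
    obtain ⟨⟨d', hd'⟩, he⟩ := hbij.2 ⟨d, hd⟩
    have he' : d' = ⟨d, hd⟩ := he
    rw [he'] at hd'
    exact hd'
  refine ⟨u, hu, ?_, huc, hDodd, by omega, hall, fun d hd e he => ?_⟩
  · rw [← huo, ho, MulAction.Quotient.smul_mk, smul_eq_mul, mul_one]
  · have h1 := hall _ (mul_mem hd he)
    rw [show u * (d * e) * u⁻¹ = (u * d * u⁻¹) * (u * e * u⁻¹) by group, hall d hd, hall e he,
      mul_inv_rev] at h1
    calc d * e = (e⁻¹ * d⁻¹)⁻¹ := by group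
      _ = (d⁻¹ * e⁻¹)⁻¹ := by rw [h1]
      _ = e * d := by group

theorem exists_ne_base : ∃ c : G ⧸ H, c ≠ QuotientGroup.mk 1 := by
  obtain ⟨g, -, hg⟩ := SetLike.exists_of_lt (lt_top_iff_ne_top.2 F.se.1)
  exact ⟨QuotientGroup.mk g, fun e => hg (by simpa using QuotientGroup.eq.1 e)⟩

/-- `H` is the product of an involution centraliser and a two-point stabiliser. -/
theorem exists_factor {c : G ⧸ H} (hc : c ≠ QuotientGroup.mk 1) {t : G} (ht : orderOf t = 2)
    (htH : t ∈ H) {h : G} (hh : h ∈ H) :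
    ∃ d ∈ H ⊓ MulAction.stabilizer G c, ∃ s ∈ Subgroup.centralizer ({t} : Set G), h = d * s := by
  obtain ⟨u, -, -, -, hodd, hcard, -, -⟩ := F.pair_facts hc
  set D := H ⊓ MulAction.stabilizer G c
  set C := Subgroup.centralizer ({t} : Set G)
  let f : D × C → H := fun q => ⟨(q.1 : G) * q.2, mul_mem q.1.2.1 (F.centralizer_le ht htH q.2.2)⟩
  have hf : Function.Bijective f := by
    refine (Nat.bijective_iff_injective_and_card f).2 ⟨?_, ?_⟩
    · rintro ⟨a, b⟩ ⟨a', b'⟩ he
      have h1 : (a : G) * b = a' * b' := congrArg Subtype.val he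
      have h2 : (a' : G)⁻¹ * a = b' * (b : G)⁻¹ := by
        calc (a' : G)⁻¹ * a = (a' : G)⁻¹ * (a * b) * (b : G)⁻¹ := by group
          _ = _ := by rw [h1]; group
      have h3 : (a' : G)⁻¹ * a = 1 := eq_one_of_odd_isTwo
        (odd_orderOf_of_mem hodd (mul_mem (inv_mem a'.2) a.2))
        (h2 ▸ isTwo_of_mem (F.cit t ht) (mul_mem b'.2 (inv_mem b.2)))
      rw [h3] at h2
      exact Prod.ext (Subtype.ext (inv_mul_eq_one.1 h3).symm)
        (Subtype.ext (mul_inv_eq_one.1 h2.symm).symm)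
    · rw [Nat.card_prod, hcard, (F.card_invol ht htH).1, mul_comm]
  obtain ⟨⟨d, s⟩, he⟩ := hf.2 ⟨h, hh⟩
  exact ⟨d, d.2, s, s.2, (congrArg Subtype.val he).symm⟩

theorem isSolvable : Group.IsSolvable H := by
  obtain ⟨c, hc⟩ := F.exists_ne_base
  obtain ⟨t, htH, ht⟩ := Involutions.SE.exists_invol F.se
  obtain ⟨u, -, -, -, -, -, -, hcomm⟩ := F.pair_facts hc
  set D := H ⊓ MulAction.stabilizer G c with hD
  set C := Subgroup.centralizer ({t} : Set G) with hC
  haveI : Fact (Nat.Prime 2) := ⟨Nat.prime_two⟩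
  refine Cfsg.Agent.S0564.result (D.subgroupOf H) (C.subgroupOf H) ?_ ?_ fun h => ?_
  · letI : CommGroup (D.subgroupOf H) :=
      { (inferInstance : Group (D.subgroupOf H)) with
        mul_comm := fun a b => Subtype.ext (Subtype.ext (hcomm _ a.2 _ b.2)) }
    exact CommGroup.isNilpotent
  · exact ((F.cit t ht).of_equiv
      (Subgroup.subgroupOfEquivOfLe (F.centralizer_le ht htH)).symm).isNilpotent
  · obtain ⟨d, hd, s, hs, he⟩ := F.exists_factor hc ht htH h.2
    exact ⟨⟨d, hd.1⟩, hd, ⟨s, F.centralizer_le ht htH hs⟩, hs, Subtype.ext he⟩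

/-- `O₂(H)` is nontrivial. -/
theorem O2_ne_bot : O2 H ≠ ⊥ := by
  intro hbot
  haveI := F.isSolvable
  have hH : (⊤ : Subgroup H) ≠ ⊥ := fun e => by
    obtain ⟨t, htH, ht⟩ := Involutions.SE.exists_invol F.se
    have : (⟨t, htH⟩ : H) ∈ (⊥ : Subgroup H) := e ▸ Subgroup.mem_top _
    rw [show t = 1 from congrArg Subtype.val (Subgroup.mem_bot.1 this), orderOf_one] at ht
    omega
  obtain ⟨A, hAn, hA1, hAc⟩ := exists_normal_abelian (K := H) hH
  haveI := hAn
  haveI : IsMulCommutative A := hAc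
  -- the elements of odd order
  let B : Subgroup H :=
    { carrier := {a | a ∈ A ∧ Odd (orderOf a)}
      one_mem' := ⟨one_mem A, by rw [orderOf_one]; exact odd_one⟩
      mul_mem' := fun {a b} ha hb => ⟨mul_mem ha.1 hb.1, by
        have hcab : Commute a b := congrArg Subtype.val
          (hAc.is_comm.comm (⟨a, ha.1⟩ : A) ⟨b, hb.1⟩)
        exact (ha.2.mul hb.2).of_dvd_nat (hcab.orderOf_mul_dvd_mul_orderOf)⟩
      inv_mem' := fun {a} ha => ⟨inv_mem ha.1, by rw [orderOf_inv]; exact ha.2⟩ }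
  haveI : B.Normal := ⟨fun a ha h => ⟨hAn.conj_mem a ha.1 h, by
    rw [Involutions.orderOf_conj_eq]; exact ha.2⟩⟩
  have hBodd : Odd (Nat.card (B.map H.subtype)) := (Involutions.odd_card_iff _).2 fun d hd hdo => by
    obtain ⟨b, hb, rfl⟩ := hd
    have := hb.2
    rw [← Subgroup.orderOf_coe, show ((b : H) : G) = H.subtype b from rfl, hdo] at this
    exact Nat.not_even_iff_odd.2 this even_two
  have hB0 := F.eq_bot_of_odd (Subgroup.map_subtype_le B) hBodd (by
    intro h hh
    refine Subgroup.mem_normalizer_iff.2 fun x => ⟨?_, fun hx => ?_⟩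
    · rintro ⟨b, hb, rfl⟩
      exact ⟨_, (inferInstance : B.Normal).conj_mem b hb ⟨h, hh⟩, rfl⟩
    · obtain ⟨b, hb, he⟩ := hx
      refine ⟨_, (inferInstance : B.Normal).conj_mem b hb ⟨h⁻¹, inv_mem hh⟩, ?_⟩
      show h⁻¹ * (b : G) * h⁻¹⁻¹ = x
      rw [show (b : G) = h * x * h⁻¹ from he]; group)
  -- so `A` is a 2-group
  have hA2 : IsPGroup 2 A := by
    intro a
    obtain ⟨k, m, hm, hk⟩ := Nat.exists_eq_two_pow_mul_odd (orderOf_pos a).ne'
    refine ⟨k, Subtype.ext ?_⟩
    have h1 : ((a : H) ^ 2 ^ k) ∈ B := ⟨pow_mem a.2 _, by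
      refine hm.of_dvd_nat (orderOf_dvd_of_pow_eq_one ?_)
      rw [← pow_mul, ← hk, ← SubmonoidClass.coe_pow, pow_orderOf_eq_one]; rfl⟩
    have h2 : H.subtype ((a : H) ^ 2 ^ k) ∈ B.map H.subtype := Subgroup.mem_map_of_mem _ h1
    rw [hB0, Subgroup.mem_bot] at h2
    exact Subtype.ext h2
  exact hA1 ((Subgroup.map_eq_bot_iff_of_injective _ H.subtype_injective).1
    (le_bot_iff.1 (hbot ▸ Subgroup.map_mono (Base.le_pCore hA2))))

end Frame

end CfsgLib.Recog.CIT
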