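import Cfsg.Agent.Lib.Recog.CIT.SE

/-!
The structure of a strongly embedded subgroup and the Zassenhaus action on its cosets.
-/

set_option autoImplicit false
set_option linter.dupNamespace false
set_option linter.unusedSectionVars false
set_option linter.style.haveILetI false

namespace CfsgLib.Recog.CIT

open EPPOTwo (IsTwo O2 isTwo_of_mem exists_involution isPGroup_of_isTwo sq_eq_one_of_orderOf
  orderOf_eq_two isTwo_of_sq conj_mem_O2 O2_le exists_descend)
open Involutions (conj_invol invol_inv invol_mul_self)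

universe u

variable {G : Type u} [Group G] [Finite G]

/-- An involution inverts every normalised subgroup of odd order. -/
theorem CIT.inv_of_odd (h : CIT G) {A : Subgroup G} (hA : Odd (Nat.card A)) {s : G}
    (hs : orderOf s = 2) (hn : s ∈ Subgroup.normalizer (A : Set G)) {x : G} (hx : x ∈ A) :
    s * x * s⁻¹ = x⁻¹ := by
  have hfpf : Base.IsFPF (Subgroup.zpowers s) A := by
    refine ⟨Subgroup.zpowers_le.2 hn, fun y hy hy1 => (Subgroup.eq_bot_iff_forall _).2
      fun v hv => ?_⟩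
    by_contra hv1
    have hys : y = s := by
      obtain ⟨i, rfl⟩ := Subgroup.mem_zpowers_iff.1 hy
      rcases Int.even_or_odd i with ⟨j, rfl⟩ | ⟨j, rfl⟩
      · exact absurd (by rw [← two_mul, zpow_mul, zpow_two, invol_mul_self hs, one_zpow]) hy1
      · rw [zpow_add, zpow_mul, zpow_two, invol_mul_self hs, one_zpow, one_mul, zpow_one]
    exact hv1 (eq_one_of_odd_isTwo (odd_orderOf_of_mem hA hv.1) (h.two_element hs (by
      rw [← hys]; exact Subgroup.mem_centralizer_iff.1 hv.2 y rfl)))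
  exact hfpf.conj_eq_inv (Subgroup.mem_zpowers s) (fun e => by rw [e, orderOf_one] at hs; omega)
    (invol_mul_self hs) hx

namespace Frame

variable {H : Subgroup G} (F : Frame G H)
include F

theorem exists_invol_O2 : ∃ z ∈ O2 H, orderOf z = 2 ∧ ∀ q ∈ O2 H, q * z = z * q := by
  haveI : Fact (Nat.Prime 2) := ⟨Nat.prime_two⟩
  have hQ := Base.isPGroup_map_pCore 2 H
  haveI : Nontrivial (O2 H) := (Subgroup.nontrivial_iff_ne_bot _).2 F.O2_ne_bot
  obtain ⟨z, hz, hzo⟩ := exists_involution (hQ.to_subgroup _)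
    ((Subgroup.nontrivial_iff_ne_bot _).1 hQ.center_nontrivial)
  exact ⟨z, z.2, by rwa [Subgroup.orderOf_coe],
    fun q hq => congrArg Subtype.val (Subgroup.mem_center_iff.1 hz ⟨q, hq⟩)⟩

theorem centralizer_O2 : Subgroup.centralizer (O2 H : Set G) ≤ O2 H := fun c hc => by
  obtain ⟨z, hzQ, hz, -⟩ := F.exists_invol_O2
  exact F.cit.centralizer_O2_le F.O2_ne_bot ⟨hc, F.centralizer_le hz (O2_le H hzQ)
    (Subgroup.mem_centralizer_singleton_iff.2 (Subgroup.mem_centralizer_iff.1 hc z hzQ).symm)⟩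

theorem invol_central {s : G} (hs : orderOf s = 2) (hsH : s ∈ H) :
    s ∈ O2 H ∧ ∀ q ∈ O2 H, q * s = s * q := by
  obtain ⟨z, hzQ, hz, hzc⟩ := F.exists_invol_O2
  obtain ⟨g, hg⟩ := isConj_iff.1 (Involutions.SE.isConj F.se hz hs)
  have hgH : g ∈ H := Involutions.SE.mem_of_conj F.se hz (O2_le H hzQ) (hg.symm ▸ hsH)
  refine ⟨hg ▸ conj_mem_O2 hgH hzQ, fun q hq => ?_⟩
  have h1 := hzc _ (EPPOTwo.conj_mem_O2' hgH hq)
  rw [← hg]
  calc q * (g * z * g⁻¹) = g * ((g⁻¹ * q * g) * z) * g⁻¹ := by group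
    _ = g * (z * (g⁻¹ * q * g)) * g⁻¹ := by rw [h1]
    _ = _ := by group

/-- The two-point stabiliser is nontrivial. -/
theorem exists_ne_one_pair {c : G ⧸ H} (hc : c ≠ QuotientGroup.mk 1) :
    ∃ d ∈ H ⊓ MulAction.stabilizer G c, d ≠ 1 := by
  obtain ⟨u, -, -, -, -, hcard, -, -⟩ := F.pair_facts hc
  refine ((Subgroup.bot_or_exists_ne_one _).resolve_left fun e => ?_)
  rw [e, Subgroup.card_bot] at hcard
  have := F.one_lt_invol
  omega

/-- Elements of the two-point stabiliser are inverted modulo `O₂(H)`. -/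
theorem inverted_mod {c : G ⧸ H} (hc : c ≠ QuotientGroup.mk 1) {t s : G} (ht : orderOf t = 2)
    (htH : t ∈ H) (hst : s ∈ Subgroup.centralizer ({t} : Set G)) (hsQ : s ∉ O2 H)
    (hss : s * s ∈ O2 H) {d : G} (hd : d ∈ H ⊓ MulAction.stabilizer G c) :
    s * d * s⁻¹ * d ∈ O2 H := by
  classical
  obtain ⟨u, -, -, -, hodd, -, -, hcomm⟩ := F.pair_facts hc
  have hsH : s ∈ H := F.centralizer_le ht htH hst
  set N := Cfsg.pCore 2 H with hN
  set π := QuotientGroup.mk' N with hπ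
  have hker : IsPGroup 2 π.ker := by
    rw [hπ, QuotientGroup.ker_mk']; exact Base.isPGroup_pCore 2 H
  have hK : CIT (H ⧸ N) := (F.cit.subgroup H).of_surjective π (QuotientGroup.mk'_surjective N) hker
  have hmemN : ∀ x : H, (x : G) ∈ O2 H ↔ x ∈ N := fun x =>
    ⟨fun ⟨y, hy, he⟩ => (Subtype.ext he : y = x) ▸ hy, fun hx => ⟨x, hx, rfl⟩⟩
  set B := Cfsg.oddCore (H ⧸ N) with hB
  have hBodd := Base.odd_card_oddCore (H ⧸ N)
  haveI : B.Normal := Cfsg.pPrimeCore_normal 2 (H ⧸ N)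
  have hsπ : orderOf (π ⟨s, hsH⟩) = 2 := by
    refine orderOf_eq_two ?_ fun e => hsQ ((hmemN ⟨s, hsH⟩).2 ((QuotientGroup.eq_one_iff _).1 e))
    rw [← map_mul]
    exact (QuotientGroup.eq_one_iff _).2 ((hmemN _).1 hss)
  -- the odd core is nontrivial
  have hB1 : B ≠ ⊥ := by
    haveI := F.isSolvable
    have htop : (⊤ : Subgroup (H ⧸ N)) ≠ ⊥ := fun e => by
      have : π ⟨s, hsH⟩ ∈ (⊥ : Subgroup (H ⧸ N)) := e ▸ Subgroup.mem_top _
      rw [Subgroup.mem_bot.1 this, orderOf_one] at hsπ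
      omega
    obtain ⟨A, hAn, hA1, hAc⟩ := exists_normal_abelian htop
    haveI := hAn
    intro hbot
    let T : Subgroup (H ⧸ N) :=
      { carrier := {a | a ∈ A ∧ IsTwo a}
        one_mem' := ⟨one_mem A, 0, one_pow _⟩
        mul_mem' := fun {a b} ⟨ha, i, hi⟩ ⟨hb, j, hj⟩ => ⟨mul_mem ha hb, i + j, by
          have hcab : Commute a b := congrArg Subtype.val
            (hAc.is_comm.comm (⟨a, ha⟩ : A) ⟨b, hb⟩)
          rw [hcab.mul_pow, pow_add, pow_mul, hi, one_pow, one_mul, mul_comm, pow_mul, hj, one_pow]⟩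
        inv_mem' := fun {a} ⟨ha, i, hi⟩ => ⟨inv_mem ha, i, by rw [inv_pow, hi, inv_one]⟩ }
    haveI : T.Normal := ⟨fun a ⟨ha, i, hi⟩ g => ⟨hAn.conj_mem a ha g, i, by
      rw [conj_pow, hi, mul_one, mul_inv_cancel]⟩⟩
    have hT0 : T ≤ Cfsg.pCore 2 (H ⧸ N) := Base.le_pCore (isPGroup_of_isTwo fun a ha => ha.2)
    rw [Base.pCore_quotient_pCore] at hT0
    have hAodd : Odd (Nat.card A) := (Involutions.odd_card_iff A).2 fun a ha hao => by
      rw [Subgroup.mem_bot.1 (hT0 ⟨ha, isTwo_of_sq (invol_mul_self hao)⟩), orderOf_one] at hao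
      omega
    exact hA1 (le_bot_iff.1 (hbot ▸ Base.le_oddCore hAodd))
  -- nothing even centralises it
  set C := Subgroup.centralizer (B : Set (H ⧸ N)) with hC
  have hCodd : Odd (Nat.card C) := (Involutions.odd_card_iff C).2 fun a ha hao => by
    obtain ⟨b, hb, hb1⟩ := (Subgroup.bot_or_exists_ne_one B).resolve_left hB1
    exact hb1 (eq_one_of_odd_isTwo (odd_orderOf_of_mem hBodd hb)
      (hK.two_element hao (Subgroup.mem_centralizer_iff.1 ha b hb).symm))
  have hCB : C ≤ B := Base.le_oddCore hCodd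
  -- the image of the two-point stabiliser
  set D := ((H ⊓ MulAction.stabilizer G c).subgroupOf H).map π with hDdef
  have hBD : B ≤ D := by
    intro b hb
    obtain ⟨h, rfl⟩ := QuotientGroup.mk'_surjective N b
    obtain ⟨e, he, r, hr, her⟩ := F.exists_factor hc ht htH h.2
    have hrH := F.centralizer_le ht htH hr
    have hh : h = ⟨e, he.1⟩ * ⟨r, hrH⟩ := Subtype.ext her
    set ρ := QuotientGroup.mk' B with hρ
    obtain ⟨k, hk⟩ := isTwo_of_mem (F.cit t ht) hr
    have hre : ρ (π ⟨e, he.1⟩) * ρ (π ⟨r, hrH⟩) = 1 := by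
      rw [← map_mul, ← map_mul, ← hh]; exact (QuotientGroup.eq_one_iff _).2 hb
    have hr1 : ρ (π ⟨r, hrH⟩) = 1 := by
      refine eq_one_of_odd_isTwo ?_ ⟨k, ?_⟩
      · rw [eq_inv_of_mul_eq_one_right hre, orderOf_inv]
        refine (odd_orderOf_of_mem hodd he).of_dvd_nat ?_
        rw [← Subgroup.orderOf_mk e he.1]
        exact (orderOf_map_dvd ρ _).trans (orderOf_map_dvd π _)
      · rw [← map_pow, ← map_pow, show (⟨r, hrH⟩ : H) ^ 2 ^ k = 1 from Subtype.ext hk, map_one,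
          map_one]
    have hr2 : π ⟨r, hrH⟩ = 1 := by
      refine eq_one_of_odd_isTwo (odd_orderOf_of_mem hBodd ((QuotientGroup.eq_one_iff _).1 hr1))
        ⟨k, ?_⟩
      rw [← map_pow, show (⟨r, hrH⟩ : H) ^ 2 ^ k = 1 from Subtype.ext hk, map_one]
    rw [hh, map_mul, hr2, mul_one]
    exact Subgroup.mem_map_of_mem π (Subgroup.mem_subgroupOf.2 he)
  have hdB : π ⟨d, hd.1⟩ ∈ B := hCB (Subgroup.mem_centralizer_iff.2 fun b hb => by
    obtain ⟨e, he, rfl⟩ := hBD hb
    rw [← map_mul, ← map_mul]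
    exact congrArg π (Subtype.ext (hcomm _ he _ hd)))
  have h1 := hK.inv_of_odd hBodd hsπ (by rw [Subgroup.normalizer_eq_top]; exact Subgroup.mem_top _) hdB
  refine (hmemN (⟨s, hsH⟩ * ⟨d, hd.1⟩ * (⟨s, hsH⟩ : H)⁻¹ * ⟨d, hd.1⟩)).2
    ((QuotientGroup.eq_one_iff _).1 ?_)
  show π _ = 1
  rw [map_mul, map_mul, map_mul, map_inv, h1, inv_mul_cancel]

/-- The centraliser of an involution of `H` is `O₂(H)`. -/
theorem centralizer_eq {t : G} (ht : orderOf t = 2) (htH : t ∈ H) :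
    Subgroup.centralizer ({t} : Set G) = O2 H := by
  refine le_antisymm (fun r hr => ?_) fun q hq =>
    Subgroup.mem_centralizer_singleton_iff.2 ((F.invol_central ht htH).2 q hq)
  by_contra hrQ
  obtain ⟨s, -, hsQ, hss, hst⟩ := exists_descend (D := O2 H)
    (P := fun a => a ∈ Subgroup.centralizer ({t} : Set G)) (fun a ha => mul_mem ha ha)
    (isTwo_of_mem (F.cit t ht) hr) hrQ hr
  obtain ⟨c, hc⟩ := F.exists_ne_base
  obtain ⟨d, hd, hd1⟩ := F.exists_ne_one_pair hc
  obtain ⟨u, -, -, -, hodd, -, -, -⟩ := F.pair_facts hc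
  have hdo := odd_orderOf_of_mem hodd hd
  have hw := F.inverted_mod hc ht htH hst hsQ hss hd
  have hsH : s ∈ H := F.centralizer_le ht htH hst
  have hQ2 : IsPGroup 2 (O2 H) := Base.isPGroup_map_pCore 2 H
  have hdQ : ∀ {q : G}, q ∈ O2 H → d * q * d⁻¹ ∈ O2 H := fun hq => conj_mem_O2 hd.1 hq
  -- every element of the coset of `d⁻¹` is conjugate to it under `O₂(H)`
  let f : O2 H → O2 H := fun q => ⟨(q : G) * d⁻¹ * (q : G)⁻¹ * d, by
    rw [show (q : G) * d⁻¹ * (q : G)⁻¹ * d = q * (d⁻¹ * (q : G)⁻¹ * d) by group]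
    exact mul_mem q.2 (EPPOTwo.conj_mem_O2' hd.1 (inv_mem q.2))⟩
  have hf : Function.Injective f := fun q q' he => by
    have h1 : (q : G) * d⁻¹ * (q : G)⁻¹ = q' * d⁻¹ * (q' : G)⁻¹ :=
      mul_right_cancel (congrArg Subtype.val he)
    have h2 : Commute d ((q' : G)⁻¹ * q) := by
      have h3 : Commute d⁻¹ ((q' : G)⁻¹ * q) := by
        show d⁻¹ * ((q' : G)⁻¹ * q) = (q' : G)⁻¹ * q * d⁻¹
        calc d⁻¹ * ((q' : G)⁻¹ * q) = (q' : G)⁻¹ * (q' * d⁻¹ * (q' : G)⁻¹) * q := by group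
          _ = (q' : G)⁻¹ * (q * d⁻¹ * (q : G)⁻¹) * q := by rw [h1]
          _ = _ := by group
      simpa using h3.inv_left
    exact Subtype.ext (inv_mul_eq_one.1
      (F.cit.eq_one_of_mem hdo hd1 hQ2 (mul_mem (inv_mem q'.2) q.2) h2)).symm
  obtain ⟨q, hq⟩ := (Finite.injective_iff_surjective.1 hf) ⟨_, hw⟩
  have hq' : s * d * s⁻¹ = (q : G) * d⁻¹ * (q : G)⁻¹ :=
    (mul_right_cancel (congrArg Subtype.val hq)).symm
  set s' := (q : G)⁻¹ * s with hs'
  have hs'Q : s' ∉ O2 H := fun h => hsQ (by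
    have := mul_mem q.2 h
    rwa [hs', mul_inv_cancel_left] at this)
  have hinv : s' * d * s'⁻¹ = d⁻¹ := by
    calc s' * d * s'⁻¹ = (q : G)⁻¹ * (s * d * s⁻¹) * q := by rw [hs']; group
      _ = d⁻¹ := by rw [hq']; group
  have hs2 : s' * s' ∈ O2 H := by
    rw [show s' * s' = (q : G)⁻¹ * (s * (q : G)⁻¹ * s⁻¹) * (s * s) by rw [hs']; group]
    exact mul_mem (mul_mem (inv_mem q.2) (conj_mem_O2 hsH (inv_mem q.2))) hss
  have hinv' : s' * d⁻¹ * s'⁻¹ = d := by
    rw [show s' * d⁻¹ * s'⁻¹ = (s' * d * s'⁻¹)⁻¹ by group, hinv, inv_inv]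
  have h1 : s' * s' = 1 := F.cit.eq_one_of_mem hdo hd1 hQ2 hs2 (by
    show d * (s' * s') = s' * s' * d
    calc d * (s' * s') = (s' * (s' * d * s'⁻¹) * s'⁻¹) * (s' * s') := by rw [hinv, hinv']
      _ = s' * s' * d := by group)
  exact hs'Q (F.invol_central (orderOf_eq_two h1 fun e => hs'Q (e ▸ one_mem _))
    (mul_mem (inv_mem (O2_le H q.2)) hsH)).1

theorem card_H : Nat.card H = Nat.card (O2 H) * Nat.card {s : G // orderOf s = 2 ∧ s ∈ H} := by
  obtain ⟨t, htH, ht⟩ := Involutions.SE.exists_invol F.se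
  rw [(F.card_invol ht htH).1, F.centralizer_eq ht htH]

theorem maxP {R : Subgroup G} (hR : IsPGroup 2 R) (hle : O2 H ≤ R) : R = O2 H := by
  obtain ⟨t, htH, ht⟩ := Involutions.SE.exists_invol F.se
  rw [← F.centralizer_eq ht htH] at hle ⊢
  exact F.centralizer_max ht htH R hR hle

theorem normalizer_eq : Subgroup.normalizer (O2 H : Set G) = H := by
  refine le_antisymm (Involutions.SE.normalizer_le F.se (O2_le H) ?_) (Base.le_normalizer_map_pCore H)
  obtain ⟨z, hzQ, hz, -⟩ := F.exists_invol_O2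
  exact (Involutions.even_card_iff _).2 ⟨z, hzQ, hz⟩

/-- `H` is split: every element is the product of an element of `O₂(H)` and one of the two-point
stabiliser. -/
theorem exists_split {c : G ⧸ H} (hc : c ≠ QuotientGroup.mk 1) {h : G} (hh : h ∈ H) :
    ∃ q ∈ O2 H, ∃ d ∈ H ⊓ MulAction.stabilizer G c, h = q * d := by
  obtain ⟨t, htH, ht⟩ := Involutions.SE.exists_invol F.se
  obtain ⟨d, hd, r, hr, he⟩ := F.exists_factor hc ht htH hh
  rw [F.centralizer_eq ht htH] at hr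
  exact ⟨d * r * d⁻¹, conj_mem_O2 hd.1 hr, d, hd, by rw [he]; group⟩

/-- `O₂(H)` is semiregular away from the base point. -/
theorem eq_one_of_fix {c : G ⧸ H} (hc : c ≠ QuotientGroup.mk 1) {q : G} (hq : q ∈ O2 H)
    (hfix : q • c = c) : q = 1 := by
  obtain ⟨u, -, -, -, hodd, -, -, -⟩ := F.pair_facts hc
  exact eq_one_of_odd_isTwo (odd_orderOf_of_mem hodd (show q ∈ H ⊓ MulAction.stabilizer G c from ⟨O2_le H hq, hfix⟩))
    (isTwo_of_mem (Base.isPGroup_map_pCore 2 H) hq)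

/-- Only the identity fixes three points one of which is the base point. -/
theorem eq_one_of_three {d : G} {b c : G ⧸ H} (hb : b ≠ QuotientGroup.mk 1)
    (hc : c ≠ QuotientGroup.mk 1) (hbc : b ≠ c) (hdH : d ∈ H) (hdb : d • b = b) (hdc : d • c = c) :
    d = 1 := by
  have hfixo : ∀ {g : G}, g • (QuotientGroup.mk 1 : G ⧸ H) = QuotientGroup.mk 1 ↔ g ∈ H := by
    intro g
    rw [MulAction.Quotient.smul_mk, smul_eq_mul, mul_one, eq_comm, QuotientGroup.eq]
    simp
  have hmk : ∀ g : G, g • (QuotientGroup.mk 1 : G ⧸ H) = QuotientGroup.mk g := fun g => by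
    rw [MulAction.Quotient.smul_mk, smul_eq_mul, mul_one]
  obtain ⟨u, huo, hu, hub, hoddb, -, huinv, hcomm⟩ := F.pair_facts hb
  obtain ⟨v, hvo, hv, hvc, -, -, hvinv, -⟩ := F.pair_facts hc
  have hu1 := huinv d ⟨hdH, hdb⟩
  have hv1 := hvinv d ⟨hdH, hdc⟩
  set c' := u • c with hc'def
  have hc'o : c' ≠ QuotientGroup.mk 1 := fun e => hbc (by
    have h1 := congrArg (fun w => u • w) e
    simp only [hc'def, ← mul_smul, invol_mul_self huo, one_smul, hmk, hu] at h1
    exact h1.symm)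
  have hdc' : d • c' = c' := by
    have h2 : d * u = u * d⁻¹ := by
      calc d * u = (u * d * u⁻¹)⁻¹ * u := by rw [hu1, inv_inv]
        _ = _ := by group
    rw [hc'def, ← mul_smul, h2, mul_smul, inv_smul_eq_iff.2 hdc.symm]
  obtain ⟨w, hwo, -, hwc, -, -, hwinv, -⟩ := F.pair_facts hc'o
  have hw1 := hwinv d ⟨hdH, hdc'⟩
  set h := w * u * v with hh
  have hhH : h ∈ H := hfixo.1 (by rw [hh, mul_smul, mul_smul, hmk v, hv, ← hc'def, hwc])
  have hhd : h * d * h⁻¹ = d⁻¹ := by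
    calc h * d * h⁻¹ = w * (u * (v * d * v⁻¹) * u⁻¹) * w⁻¹ := by rw [hh]; group
      _ = w * (u * d * u⁻¹)⁻¹ * w⁻¹ := by rw [hv1]; group
      _ = w * d * w⁻¹ := by rw [hu1, inv_inv]
      _ = d⁻¹ := hw1
  obtain ⟨q, hq, e, he, hqe⟩ := F.exists_split hb hhH
  have h1 : q * d * q⁻¹ = d⁻¹ := by
    rw [← hhd, hqe]
    calc q * d * q⁻¹ = q * (d * e) * e⁻¹ * q⁻¹ := by group
      _ = q * (e * d) * e⁻¹ * q⁻¹ := by rw [hcomm d ⟨hdH, hdb⟩ e he]
      _ = _ := by group
  have h2 : d⁻¹ * d⁻¹ ∈ O2 H := by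
    rw [show d⁻¹ * d⁻¹ = (q * d * q⁻¹) * d⁻¹ by rw [h1],
      show (q * d * q⁻¹) * d⁻¹ = q * (d * q⁻¹ * d⁻¹) by group]
    exact mul_mem hq (conj_mem_O2 hdH (inv_mem hq))
  have h3 : d⁻¹ * d⁻¹ = 1 := F.eq_one_of_fix hb h2 (by
    rw [mul_smul, inv_smul_eq_iff.2 hdb.symm, inv_smul_eq_iff.2 hdb.symm])
  exact eq_one_of_odd_isTwo (odd_orderOf_of_mem hoddb (show d ∈ H ⊓ MulAction.stabilizer G b from ⟨hdH, hdb⟩))
    (isTwo_of_sq (by rw [← inv_inj, inv_one, mul_inv_rev]; exact h3))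

/-- `O₂(H)` is regular on the other points. -/
theorem regular :
    Nat.card (G ⧸ H) = Nat.card (O2 H) + 1 ∧
      ∀ b c : G ⧸ H, b ≠ QuotientGroup.mk 1 → c ≠ QuotientGroup.mk 1 →
        ∃ q ∈ O2 H, q • b = c := by
  classical
  set o : G ⧸ H := QuotientGroup.mk 1 with ho
  set k := Nat.card {s : G // orderOf s = 2 ∧ s ∈ H} with hk
  let Ω' := {c : G ⧸ H // c ≠ o}
  -- the nontrivial elements of the stabilisers are all different
  let D : Ω' → Subgroup G := fun c => H ⊓ MulAction.stabilizer G c.1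
  let f : (Σ c : Ω', {d : D c // d ≠ 1}) → {h : H // (h : G) ∉ O2 H} := fun p =>
    ⟨⟨(p.2.1 : G), p.2.1.2.1⟩, fun hQ => p.2.2 (Subtype.ext
      (F.eq_one_of_fix p.1.2 hQ p.2.1.2.2))⟩
  have hf : Function.Injective f := by
    rintro ⟨b, d, hd⟩ ⟨c, e, he⟩ hde
    have h1 : (d : G) = e := congrArg (fun x : {h : H // (h : G) ∉ O2 H} => ((x : H) : G)) hde
    obtain rfl : b = c := by
      by_contra hbc
      refine hd (Subtype.ext (F.eq_one_of_three b.2 c.2 (fun e' => hbc (Subtype.ext e')) d.2.1 d.2.2 ?_))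
      rw [h1]; exact e.2.2
    obtain rfl : d = e := Subtype.ext h1
    rfl
  have hle := Nat.card_le_card_of_injective f hf
  have hDcard : ∀ c : Ω', Nat.card {d : D c // d ≠ 1} = k - 1 := fun c => by
    obtain ⟨u, -, -, -, -, hcard, -, -⟩ := F.pair_facts c.2
    have h1 : Nat.card {d : D c // d = 1} + Nat.card {d : D c // d ≠ 1} = Nat.card (D c) := by
      rw [← Nat.card_sum]; exact Nat.card_congr (Equiv.sumCompl _)
    rw [Nat.card_unique] at h1
    rw [show Nat.card (D c) = k from hcard] at h1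
    omega
  letI := Fintype.ofFinite Ω'
  have hl : Nat.card (Σ c : Ω', {d : D c // d ≠ 1}) = Nat.card Ω' * (k - 1) := by
    rw [Nat.card_sigma, Finset.sum_congr rfl (fun c _ => hDcard c), Finset.sum_const,
      Finset.card_univ, smul_eq_mul, Nat.card_eq_fintype_card]
  have hr : Nat.card {h : H // (h : G) ∉ O2 H} = Nat.card (O2 H) * (k - 1) := by
    have h1 := Nat.card_congr (Equiv.sumCompl (fun h : H => (h : G) ∈ O2 H))
    rw [Nat.card_sum, F.card_H, ← hk,
      Nat.card_congr (⟨fun h => ⟨h.1, h.2⟩, fun q => ⟨⟨q, O2_le H q.2⟩, q.2⟩, fun _ => rfl,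
        fun _ => rfl⟩ : {h : H // (h : G) ∈ O2 H} ≃ O2 H)] at h1
    rw [Nat.mul_sub, mul_one]
    omega
  rw [hl, hr] at hle
  have hk2 : 1 < k := F.one_lt_invol
  have hn : Nat.card Ω' ≤ Nat.card (O2 H) := Nat.le_of_mul_le_mul_right hle (by omega)
  have horb : ∀ (b : G ⧸ H) (hb0 : b ≠ o), Function.Bijective (fun q : O2 H =>
      (⟨(q : G) • b, fun e => hb0 (by
        have h1 : (q : G) • o = o := by
          rw [ho, MulAction.Quotient.smul_mk, smul_eq_mul, mul_one, eq_comm, QuotientGroup.eq]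
          simpa using O2_le H q.2
        exact smul_left_cancel (q : G) (e.trans h1.symm))⟩ : Ω')) := by
    intro b hb
    have hinj : Function.Injective (fun q : O2 H => (q : G) • b) := fun p q hpq => by
      refine Subtype.ext (inv_mul_eq_one.1 (F.eq_one_of_fix hb (mul_mem (inv_mem p.2) q.2) ?_))
      rw [mul_smul, inv_smul_eq_iff]
      exact hpq.symm
    refine (Nat.bijective_iff_injective_and_card _).2
      ⟨fun p q hpq => hinj (congrArg Subtype.val hpq), le_antisymm ?_ hn⟩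
    refine Nat.card_le_card_of_injective (fun q : O2 H => (⟨(q : G) • b, fun e => hb (by
        have h1 : (q : G) • o = o := by
          rw [ho, MulAction.Quotient.smul_mk, smul_eq_mul, mul_one, eq_comm, QuotientGroup.eq]
          simpa using O2_le H q.2
        exact smul_left_cancel (q : G) (e.trans h1.symm))⟩ : Ω')) fun p q hpq => ?_
    exact hinj (congrArg Subtype.val hpq)
  refine ⟨?_, fun b c hb hc => ?_⟩
  · obtain ⟨b, hb⟩ := F.exists_ne_base
    have h1 := Nat.card_congr (Equiv.sumCompl (fun c : G ⧸ H => c = o))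
    rw [Nat.card_sum, Nat.card_unique, ← Nat.card_congr (Equiv.ofBijective _ (horb b hb))] at h1
    omega
  · obtain ⟨q, hq⟩ := (horb b hb).2 ⟨c, hc⟩
    exact ⟨q, q.2, congrArg Subtype.val hq⟩

theorem isZassenhausGroup : Cfsg.IsZassenhausGroup G (G ⧸ H) := by
  classical
  haveI := F.simple
  set o : G ⧸ H := QuotientGroup.mk 1 with ho
  have hfixo : ∀ {g : G}, g • o = o ↔ g ∈ H := by
    intro g
    rw [ho, MulAction.Quotient.smul_mk, smul_eq_mul, mul_one, eq_comm, QuotientGroup.eq]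
    simp
  have htrans : ∀ a : G ⧸ H, ∃ g : G, g • o = a := fun a =>
    ⟨a.out, by rw [ho, MulAction.Quotient.smul_mk, smul_eq_mul, mul_one]; exact QuotientGroup.out_eq' a⟩
  have h2t : MulAction.IsMultiplyPretransitive G (G ⧸ H) 2 := by
    rw [MulAction.is_two_pretransitive_iff]
    intro a b c d hab hcd
    obtain ⟨g₁, rfl⟩ := htrans a
    obtain ⟨g₂, rfl⟩ := htrans c
    have hb : g₁⁻¹ • b ≠ o := fun e => hab (by rw [← e, smul_inv_smul])
    have hd : g₂⁻¹ • d ≠ o := fun e => hcd (by rw [← e, smul_inv_smul])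
    obtain ⟨h, hh, hhb⟩ := F.regular.2 _ _ hb hd
    refine ⟨g₂ * h * g₁⁻¹, ?_, ?_⟩
    · rw [mul_smul, mul_smul, inv_smul_smul, hfixo.2 (O2_le H hh)]
    · rw [mul_smul, mul_smul, hhb, smul_inv_smul]
  obtain ⟨c₀, hc₀⟩ := F.exists_ne_base
  obtain ⟨g₀, rfl⟩ := QuotientGroup.mk_surjective c₀
  have hg₀ : g₀ ∉ H := fun h => hc₀ (QuotientGroup.eq.2 (by simpa using h))
  refine ⟨?_, h2t, ?_, ?_, ?_⟩
  · have hker : (MulAction.toPermHom G (G ⧸ H)).ker = ⊥ := by
      refine (MulAction.toPermHom G (G ⧸ H)).normal_ker.eq_bot_or_eq_top.resolve_right fun e => ?_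
      refine hg₀ (hfixo.1 ?_)
      have h1 : MulAction.toPermHom G (G ⧸ H) g₀ = 1 := MonoidHom.mem_ker.1 (e ▸ Subgroup.mem_top g₀)
      exact Equiv.congr_fun h1 o
    refine ⟨fun {g g'} h => (MonoidHom.ker_eq_bot_iff _).1 hker (Equiv.ext h)⟩
  · intro g a b c hab hbc hac hga hgb hgc
    obtain ⟨k, rfl⟩ := htrans a
    have key : ∀ w : G ⧸ H, g • w = w → (k⁻¹ * g * k) • (k⁻¹ • w) = k⁻¹ • w := fun w hw => by
      rw [mul_smul, mul_smul, smul_inv_smul, hw]
    have := F.eq_one_of_three (d := k⁻¹ * g * k) (b := k⁻¹ • b) (c := k⁻¹ • c)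
      (fun e => hab (by rw [← smul_inv_smul k b, e]))
      (fun e => hac (by rw [← smul_inv_smul k c, e]))
      (fun e => hbc (MulAction.injective _ e))
      (hfixo.1 (by simpa using key _ hga)) (key b hgb) (key c hgc)
    have h2 := congrArg (fun w => k * w * k⁻¹) this
    simpa [mul_assoc] using h2
  · obtain ⟨d, hd, hd1⟩ := F.exists_ne_one_pair hc₀
    exact ⟨d, hd1, o, _, hc₀.symm, hfixo.2 hd.1, hd.2⟩
  · intro N hN hNt
    refine ⟨o, fun e => ?_⟩
    haveI := hNt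
    rcases hN.eq_bot_or_eq_top with rfl | rfl
    · obtain ⟨⟨x, hx⟩, hxo⟩ := hNt.exists_smul_eq o (QuotientGroup.mk g₀)
      rw [Subgroup.mem_bot] at hx
      subst hx
      exact hc₀ (by simpa using hxo.symm)
    · obtain ⟨t, ht, hto⟩ := Involutions.SE.exists_invol F.se
      have : (⟨t, Subgroup.mem_top t⟩ : (⊤ : Subgroup G)) ∈
          MulAction.stabilizer (⊤ : Subgroup G) o := hfixo.2 ht
      replace this := Subgroup.mem_bot.1 (e.le this)
      rw [show t = 1 from congrArg Subtype.val this, orderOf_one] at hto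
      omega

/-- The involutions of `H` and the identity form a group. -/
theorem card_invol_pow : ∃ n, Nat.card {s : G // orderOf s = 2 ∧ s ∈ H} + 1 = 2 ^ n := by
  classical
  haveI : Fact (Nat.Prime 2) := ⟨Nat.prime_two⟩
  let W : Subgroup G :=
    { carrier := {x | x ∈ O2 H ∧ x * x = 1 ∧ ∀ q ∈ O2 H, q * x = x * q}
      one_mem' := ⟨one_mem _, one_mul 1, fun q _ => by simp⟩
      mul_mem' := fun {a b} ha hb => ⟨mul_mem ha.1 hb.1, by
        calc a * b * (a * b) = a * (b * a) * b := by group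
          _ = a * (a * b) * b := by rw [ha.2.2 b hb.1]
          _ = (a * a) * (b * b) := by group
          _ = 1 := by rw [ha.2.1, hb.2.1, one_mul], fun q hq => by
        rw [← mul_assoc, ha.2.2 q hq, mul_assoc, hb.2.2 q hq, mul_assoc]⟩
      inv_mem' := fun {a} ha => by
        rw [inv_eq_of_mul_eq_one_right ha.2.1]; exact ha }
  obtain ⟨n, hn⟩ := ((Base.isPGroup_map_pCore 2 H).to_le
    (show W ≤ O2 H from fun x hx => hx.1)).exists_card_eq
  refine ⟨n, ?_⟩
  have h1 : Nat.card {x : W // x = 1} + Nat.card {x : W // ¬ x = 1} = Nat.card W := by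
    rw [← Nat.card_sum]; exact Nat.card_congr (Equiv.sumCompl _)
  rw [Nat.card_unique] at h1
  rw [← hn, ← h1, add_comm]
  congr 1
  exact Nat.card_congr ⟨fun s => ⟨⟨s.1, (F.invol_central s.2.1 s.2.2).1,
      invol_mul_self s.2.1, (F.invol_central s.2.1 s.2.2).2⟩, fun e => by
        have h1 := s.2.1
        rw [show s.1 = 1 from congrArg Subtype.val e, orderOf_one] at h1
        omega⟩,
    fun x => ⟨x.1, orderOf_eq_two x.1.2.2.1 (fun e => x.2 (Subtype.ext e)), O2_le H x.1.2.1⟩,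
    fun _ => rfl, fun _ => rfl⟩

theorem seData {c : G ⧸ H} (hc : c ≠ QuotientGroup.mk 1) :
    SEData G (O2 H) (H ⊓ MulAction.stabilizer G c)
      (Nat.card {s : G // orderOf s = 2 ∧ s ∈ H} + 1) := by
  classical
  obtain ⟨u, hu, huc, -, hodd, hcard, huinv, hcomm⟩ := F.pair_facts hc
  obtain ⟨t, htH, ht⟩ := Involutions.SE.exists_invol F.se
  set D := H ⊓ MulAction.stabilizer G c with hD
  set Z := {s : G // orderOf s = 2 ∧ s ∈ H}
  have hk : 1 < Nat.card Z := F.one_lt_invol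
  have hk2 : Odd (Nat.card Z) := (F.card_invol ht htH).2
  have hQ : IsPGroup 2 (O2 H) := Base.isPGroup_map_pCore 2 H
  have hfpf : Base.IsFPF D (O2 H) :=
    F.cit.isFPF hodd hQ (inf_le_left.trans (Base.le_normalizer_map_pCore H))
  haveI : IsMulCommutative D := ⟨⟨fun a b => Subtype.ext (hcomm _ a.2 _ b.2)⟩⟩
  refine
    { isP := hQ, maxP := fun P hP hle => F.maxP hP hle, se := by rw [F.normalizer_eq]; exact F.se
      four_le := by obtain ⟨r, hr⟩ := hk2; omega
      isPow := F.card_invol_pow, le_norm := by rw [F.normalizer_eq]; exact inf_le_left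
      card_norm := by rw [F.normalizer_eq, Nat.add_sub_cancel]; exact F.card_H
      card_D := by rw [Nat.add_sub_cancel]; exact hcard
      cyclic_D := hfpf.isCyclic_of_comm F.O2_ne_bot
      central := fun s hs hss r hr => ?_
      card_invol := ?_
      centralizer_eq := fun s hs hso => F.centralizer_eq hso (O2_le H hs)
      trans := fun a ha b hb hao hbo => ?_
      inverter := ⟨u, hu, ?_, huinv⟩
      card_G := ?_ }
  · rcases eq_or_ne s 1 with rfl | hs1
    · simp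
    · exact (F.invol_central (orderOf_eq_two hss hs1) (O2_le H hs)).2 r hr
  · rw [Nat.add_sub_cancel]
    exact Nat.card_congr ⟨fun s => ⟨s.1, s.2.2, O2_le H s.2.1⟩,
      fun s => ⟨s.1, (F.invol_central s.2.1 s.2.2).1, s.2.1⟩, fun _ => rfl, fun _ => rfl⟩
  · have hinj : Function.Bijective (fun d : D => (⟨(d : G) * a * (d : G)⁻¹, conj_invol _ hao,
        mul_mem (mul_mem d.2.1 (O2_le H ha)) (inv_mem d.2.1)⟩ : Z)) := by
      refine (Nat.bijective_iff_injective_and_card _).2 ⟨fun d e hde => ?_, hcard⟩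
      have h1 : (d : G) * a * (d : G)⁻¹ = e * a * (e : G)⁻¹ := congrArg Subtype.val hde
      have h2 : Commute a ((d : G)⁻¹ * e) := by
        show a * ((d : G)⁻¹ * e) = (d : G)⁻¹ * e * a
        calc a * ((d : G)⁻¹ * e) = (d : G)⁻¹ * (d * a * (d : G)⁻¹) * e := by group
          _ = (d : G)⁻¹ * (e * a * (e : G)⁻¹) * e := by rw [h1]
          _ = _ := by group
      exact Subtype.ext (inv_mul_eq_one.1 (eq_one_of_odd_isTwo
        (odd_orderOf_of_mem hodd (mul_mem (inv_mem d.2) e.2)) (F.cit.two_element hao h2)))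
    obtain ⟨d, hd⟩ := hinj.2 ⟨b, hbo, O2_le H hb⟩
    exact ⟨d, d.2, congrArg Subtype.val hd⟩
  · rw [F.normalizer_eq]
    intro huH
    exact hc (by rw [← huc, QuotientGroup.eq]; simpa using huH)
  · rw [Subgroup.card_eq_card_quotient_mul_card_subgroup H, F.regular.1, F.card_H,
      Nat.add_sub_cancel, mul_assoc]

end Frame

/-- A strongly embedded subgroup is solvable. -/
theorem isSolvable_of_se (hG : CIT G) [IsSimpleGroup G] (hnab : ∃ a b : G, a * b ≠ b * a)
    (H : Subgroup G) (hH : Cfsg.IsStronglyEmbedded H) : Group.IsSolvable H :=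
  Frame.isSolvable ⟨hG, inferInstance, hnab, hH⟩

/-- A strongly embedded subgroup gives the data and a Zassenhaus action. -/
theorem hasSE_of_se (hG : CIT G) [IsSimpleGroup G] (hnab : ∃ a b : G, a * b ≠ b * a)
    (H : Subgroup G) (hH : Cfsg.IsStronglyEmbedded H) :
    HasSE G ∧ Cfsg.IsZassenhausGroup G (G ⧸ H) := by
  have F : Frame G H := ⟨hG, inferInstance, hnab, hH⟩
  obtain ⟨c, hc⟩ := F.exists_ne_base
  exact ⟨⟨_, _, _, F.seData hc⟩, F.isZassenhausGroup⟩

end CfsgLib.Recog.CIT
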