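import Cfsg.Agent.Lib.Recog.CIT.SEKnown
import Cfsg.Agent.Lib.Involutions.FourSwallow
import Cfsg.Agent.Lib.PSL2.Four

/-!
Groups in which every non-cyclic subgroup contains its centraliser.
-/

set_option autoImplicit false
set_option linter.dupNamespace false
set_option linter.unusedSectionVars false
set_option linter.style.haveILetI false

namespace CfsgLib.Recog.CIT

open EPPOTwo (orderOf_eq_two sq_eq_one_of_orderOf)

universe u

/-- Every non-cyclic subgroup contains its centraliser. -/
def SelfCentNC (G : Type*) [Group G] : Prop :=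
  ∀ H : Subgroup G, ¬ IsCyclic ↥H → Subgroup.centralizer (H : Set G) ≤ H

variable {G : Type u} [Group G]

/-- The four elements generated by two commuting involutions. -/
def fourSub {a b : G} (ha : a * a = 1) (hb : b * b = 1) (hc : Commute a b) : Subgroup G where
  carrier := {1, a, b, a * b}
  one_mem' := Or.inl rfl
  mul_mem' := by
    have h1 : ∀ y : G, a * (a * y) = y := fun y => by rw [← mul_assoc, ha, one_mul]
    have h2 : b * a = a * b := hc.eq.symm
    have h3 : ∀ y : G, b * (a * y) = a * (b * y) := fun y => by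
      rw [← mul_assoc, h2, mul_assoc]
    rintro x y (rfl | rfl | rfl | rfl) (rfl | rfl | rfl | rfl) <;>
      simp [ha, hb, h1, h2, h3, mul_assoc]
  inv_mem' := by
    have h1 : a⁻¹ = a := inv_eq_of_mul_eq_one_right ha
    have h2 : b⁻¹ = b := inv_eq_of_mul_eq_one_right hb
    rintro x (rfl | rfl | rfl | rfl) <;> simp [h1, h2, hc.eq.symm]

theorem not_isCyclic_fourSub {a b : G} (ha : a * a = 1) (hb : b * b = 1) (hc : Commute a b)
    (ha1 : a ≠ 1) (hb1 : b ≠ 1) (hab : a ≠ b) : ¬ IsCyclic (fourSub ha hb hc) := fun h => by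
  obtain ⟨g, hg⟩ := h.exists_generator
  have hmem : ∀ x : G, x ∈ fourSub ha hb hc → x = 1 ∨ x = g := fun x hx => by
    obtain ⟨i, hi⟩ := Subgroup.mem_zpowers_iff.1 (hg ⟨x, hx⟩)
    have hgg : (g : G) * g = 1 := by
      rcases g.2 with e | e | e | e <;> rw [e]
      · exact one_mul 1
      · exact ha
      · exact hb
      · calc a * b * (a * b) = a * (b * a) * b := by group
          _ = a * (a * b) * b := by rw [hc.eq]
          _ = (a * a) * (b * b) := by group
          _ = 1 := by rw [ha, hb, one_mul]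
    have he : x = (g : G) ^ i := by rw [← Subgroup.coe_zpow, hi]
    rcases Int.even_or_odd i with ⟨j, rfl⟩ | ⟨j, rfl⟩
    · left; rw [he, ← two_mul, zpow_mul, zpow_two, hgg, one_zpow]
    · right; rw [he, zpow_add, zpow_mul, zpow_two, hgg, one_zpow, one_mul, zpow_one]
  have h1 := (hmem a (Or.inr (Or.inl rfl))).resolve_left ha1
  have h2 := (hmem b (Or.inr (Or.inr (Or.inl rfl)))).resolve_left hb1
  exact hab (h1.trans h2.symm)

/-- A four-group is its own centraliser. -/
theorem SelfCentNC.four (h : SelfCentNC G) {a b : G} (ha : orderOf a = 2) (hb : orderOf b = 2)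
    (hab : a ≠ b) (hc : Commute a b) {g : G} (hga : Commute g a) (hgb : Commute g b) :
    g = 1 ∨ g = a ∨ g = b ∨ g = a * b := by
  have hne : ∀ {x : G}, orderOf x = 2 → x ≠ 1 := fun hx e => by
    rw [e, orderOf_one] at hx; omega
  refine h (fourSub (sq_eq_one_of_orderOf ha) (sq_eq_one_of_orderOf hb) hc)
    (not_isCyclic_fourSub _ _ _ (hne ha) (hne hb) hab) (Subgroup.mem_centralizer_iff.2 ?_)
  rintro x (rfl | rfl | rfl | rfl)
  · rw [one_mul, mul_one]
  · exact hga.eq.symm
  · exact hgb.eq.symm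
  · exact (hga.mul_right hgb).eq.symm

theorem SelfCentNC.card_le_four [Finite G] (h : SelfCentNC G) {a b : G} (ha : orderOf a = 2)
    (hb : orderOf b = 2) (hab : a ≠ b) (hc : Commute a b) {T : Set G}
    (hT : ∀ g ∈ T, Commute g a ∧ Commute g b) : Nat.card T ≤ 4 := by
  classical
  have h1 : T.ncard ≤ ({1, a, b, a * b} : Finset G).card := by
    rw [← Set.ncard_coe_finset]
    refine Set.ncard_le_ncard (fun g hg => ?_) (Finset.finite_toSet _)
    simpa using h.four ha hb hab hc (hT g hg).1 (hT g hg).2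
  rw [← Nat.card_coe_set_eq] at h1
  exact h1.trans Finset.card_le_four

/-- A four-group through every involution. -/
theorem exists_partner [Finite G] [IsSimpleGroup G] (hnab : ∃ a b : G, a * b ≠ b * a) {t : G}
    (ht : orderOf t = 2) : ∃ u : G, orderOf u = 2 ∧ u ≠ t ∧ Commute u t := by
  haveI : Fact (Nat.Prime 2) := ⟨Nat.prime_two⟩
  obtain ⟨P, hP⟩ := (IsPGroup.of_card (p := 2) (n := 1)
    (show Nat.card (Subgroup.zpowers t) = 2 ^ 1 by rw [Nat.card_zpowers, ht, pow_one])).exists_le_sylow
  have htP : t ∈ (P : Subgroup G) := hP (Subgroup.mem_zpowers t)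
  haveI : Nontrivial (P : Subgroup G) := ⟨⟨⟨t, htP⟩, 1, fun e => by
    rw [show t = 1 from congrArg Subtype.val e, orderOf_one] at ht; omega⟩⟩
  obtain ⟨z, hz, hzo⟩ := EPPOTwo.exists_involution (P.isPGroup'.to_subgroup _)
    ((Subgroup.nontrivial_iff_ne_bot _).1 P.isPGroup'.center_nontrivial)
  have hzc : ∀ y ∈ (P : Subgroup G), Commute y z := fun y hy =>
    congrArg Subtype.val (Subgroup.mem_center_iff.1 hz ⟨y, hy⟩)
  rw [← Subgroup.orderOf_coe] at hzo
  rcases ne_or_eq (z : G) t with hzt | hzt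
  · exact ⟨z, hzo, hzt, (hzc t htP).symm⟩
  obtain ⟨a, b, ha, hb, hab, hc⟩ := exists_four hnab
  have hp : IsPGroup 2 (fourSub (sq_eq_one_of_orderOf ha) (sq_eq_one_of_orderOf hb) hc) :=
    EPPOTwo.isPGroup_of_isTwo fun x hx => EPPOTwo.isTwo_of_sq (by
      have haa := sq_eq_one_of_orderOf ha
      have hbb := sq_eq_one_of_orderOf hb
      rcases hx with rfl | rfl | rfl | rfl
      · exact one_mul 1
      · exact haa
      · exact hbb
      · calc a * b * (a * b) = a * (b * a) * b := by group
          _ = a * (a * b) * b := by rw [hc.eq]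
          _ = (a * a) * (b * b) := by group
          _ = 1 := by rw [haa, hbb, one_mul])
  obtain ⟨Q, hQ⟩ := hp.exists_le_sylow
  obtain ⟨g, hg⟩ := MulAction.exists_smul_eq G Q P
  have hmem : ∀ {x : G}, x ∈ (Q : Subgroup G) → g * x * g⁻¹ ∈ (P : Subgroup G) := fun {x} hx => by
    rw [← hg]
    exact ⟨x, hx, rfl⟩
  have ha' := hmem (hQ (Or.inr (Or.inl rfl)))
  have hb' := hmem (hQ (Or.inr (Or.inr (Or.inl rfl))))
  rcases ne_or_eq (g * a * g⁻¹) t with hat | hat
  · exact ⟨_, Involutions.conj_invol g ha, hat, hzt ▸ hzc _ ha'⟩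
  · refine ⟨_, Involutions.conj_invol g hb, fun e => hab ?_, hzt ▸ hzc _ hb'⟩
    exact mul_left_cancel (mul_right_cancel (hat.trans e.symm))

/-- The centraliser of an involution has all its involutions in its 2-core. -/
theorem SelfCentNC.mem_pCore [Finite G] (h : SelfCentNC G) {t : G} (ht : orderOf t = 2)
    {u : Subgroup.centralizer ({t} : Set G)} (hu : orderOf u = 2) :
    u ∈ Cfsg.pCore 2 (Subgroup.centralizer ({t} : Set G)) := by
  by_contra hmem
  obtain ⟨y, hy1, hyo, hyi⟩ := Involutions.exists_inverted_of_not_mem hu hmem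
  set v : G := (u : G) with hv
  set x : G := (y : G) with hx
  have hxo : Odd (orderOf x) := by rwa [hx, Subgroup.orderOf_coe]
  have hx1 : x ≠ 1 := fun e => hy1 (Subtype.ext e)
  have hvv : v * v = 1 := by
    rw [hv, ← Subgroup.coe_mul, sq_eq_one_of_orderOf hu]; rfl
  have hvx : v * x * v⁻¹ = x⁻¹ := congrArg Subtype.val hyi
  have hvi : ∀ i : ℤ, v * x ^ i = x ^ (-i) * v := fun i => by
    have h1 : v * x ^ i * v⁻¹ = x ^ (-i) := by rw [← conj_zpow, hvx, zpow_neg, inv_zpow]
    calc v * x ^ i = v * x ^ i * v⁻¹ * v := by group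
      _ = _ := by rw [h1]
  let D : Subgroup G :=
    { carrier := {g | ∃ i : ℤ, g = x ^ i ∨ g = x ^ i * v}
      one_mem' := ⟨0, Or.inl (zpow_zero x).symm⟩
      mul_mem' := by
        rintro a b ⟨i, rfl | rfl⟩ ⟨j, rfl | rfl⟩
        · exact ⟨i + j, Or.inl (zpow_add x i j).symm⟩
        · exact ⟨i + j, Or.inr (by rw [zpow_add, mul_assoc])⟩
        · exact ⟨i + -j, Or.inr (by rw [mul_assoc, hvi, ← mul_assoc, zpow_add])⟩
        · exact ⟨i + -j, Or.inl (by
            rw [mul_assoc, ← mul_assoc v, hvi, mul_assoc (x ^ (-j)), hvv, mul_one, zpow_add])⟩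
      inv_mem' := by
        rintro a ⟨i, rfl | rfl⟩
        · exact ⟨-i, Or.inl (zpow_neg x i).symm⟩
        · refine ⟨i, Or.inr ?_⟩
          rw [mul_inv_rev, inv_eq_of_mul_eq_one_right hvv, ← zpow_neg, hvi, neg_neg] }
  have hvD : v ∈ D := ⟨0, Or.inr (by rw [zpow_zero, one_mul])⟩
  have hxD : x ∈ D := ⟨1, Or.inl (zpow_one x).symm⟩
  have hDnc : ¬ IsCyclic D := fun hD => by
    obtain ⟨g, hg⟩ := hD.exists_generator
    obtain ⟨i, hi⟩ := Subgroup.mem_zpowers_iff.1 (hg ⟨v, hvD⟩)
    obtain ⟨j, hj⟩ := Subgroup.mem_zpowers_iff.1 (hg ⟨x, hxD⟩)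
    have h1 : Commute v x := by
      have := congrArg Subtype.val ((Commute.refl g).zpow_zpow i j).eq
      rw [hi, hj] at this
      exact this
    rw [h1.eq, mul_inv_cancel_right] at hvx
    exact Involutions.sq_ne_of_odd hxo hx1 hvx
  have hct : ∀ z : Subgroup.centralizer ({t} : Set G), Commute (z : G) t := fun z =>
    (Subgroup.mem_centralizer_singleton_iff.1 z.2)
  have htD : t ∈ D := h D hDnc (Subgroup.mem_centralizer_iff.2 (by
    rintro g ⟨i, rfl | rfl⟩
    · exact ((hct y).zpow_left i).eq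
    · exact (((hct y).zpow_left i).mul_left (hct u)).eq))
  have htt := sq_eq_one_of_orderOf ht
  obtain ⟨i, hi | hi⟩ := htD
  · refine absurd (eq_one_of_odd_isTwo (hxo.of_dvd_nat ?_) (EPPOTwo.isTwo_of_sq htt))
      (fun e => by rw [e, orderOf_one] at ht; omega)
    rw [hi]
    exact orderOf_dvd_of_mem_zpowers (Subgroup.zpow_mem_zpowers x i)
  · refine Involutions.sq_ne_of_odd hxo hx1 ?_
    have h1 : t * x * t⁻¹ = x := by rw [(hct y).eq.symm, mul_inv_cancel_right]
    rw [hi] at h1
    calc x = x ^ i * v * x * (x ^ i * v)⁻¹ := h1.symm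
      _ = x ^ i * (v * x * v⁻¹) * (x ^ i)⁻¹ := by group
      _ = x⁻¹ := by rw [hvx]; group

/-- Every involution centraliser is a 2-group. -/
theorem SelfCentNC.cit [Finite G] [IsSimpleGroup G] (h : SelfCentNC G)
    (hnab : ∃ a b : G, a * b ≠ b * a) : CIT G := by
  classical
  haveI : Fact (Nat.Prime 2) := ⟨Nat.prime_two⟩
  intro t ht
  obtain ⟨u₀, hu₀, hut, hc⟩ := exists_partner hnab ht
  set W := Subgroup.centralizer ({t} : Set G)
  set R := Cfsg.pCore 2 W
  letI := Fintype.ofFinite W
  set u : W := ⟨u₀, Subgroup.mem_centralizer_singleton_iff.2 hc.eq⟩ with hu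
  set τ : W := ⟨t, Subgroup.mem_centralizer_singleton_iff.2 rfl⟩ with hτdef
  have huo : orderOf u = 2 := by rw [← Subgroup.orderOf_coe]; exact hu₀
  have hτo : orderOf τ = 2 := by rw [← Subgroup.orderOf_coe]; exact ht
  have huu := sq_eq_one_of_orderOf huo
  have hτc : ∀ g : W, g * τ = τ * g := fun g =>
    Subtype.ext (Subgroup.mem_centralizer_singleton_iff.1 g.2)
  have hcent : (Finset.univ.filter (fun g : W => g * u = u * g)).card ≤ 4 := by
    have h1 : Nat.card {g : G | Commute g t ∧ Commute g u₀} ≤ 4 :=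
      h.card_le_four ht hu₀ (Ne.symm hut) hc.symm fun g hg => hg
    refine le_trans ?_ h1
    rw [← Fintype.card_subtype, ← Nat.card_eq_fintype_card]
    exact Nat.card_le_card_of_injective (fun g => ⟨((g : W) : G),
      Subgroup.mem_centralizer_singleton_iff.1 (g : W).2, congrArg Subtype.val g.2⟩)
      fun a b hab => Subtype.ext (Subtype.ext (congrArg Subtype.val hab :))
  set S := Finset.univ.filter (fun g : W => g * g = 1) with hS
  set Rf := Finset.univ.filter (fun g : W => g ∈ R) with hRf
  have hRcard : Rf.card = Nat.card R := by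
    rw [hRf, ← Fintype.card_subtype, ← Nat.card_eq_fintype_card]
  have hSR : S ⊆ Rf := fun g hg => by
    refine Finset.mem_filter.2 ⟨Finset.mem_univ _, ?_⟩
    rcases eq_or_ne g 1 with rfl | hg1
    · exact one_mem R
    exact h.mem_pCore ht (orderOf_eq_two (Finset.mem_filter.1 hg).2 hg1)
  have huR : u ∈ R := (Finset.mem_filter.1 (hSR (Finset.mem_filter.2 ⟨Finset.mem_univ _, huu⟩))).2
  -- the conjugates of `u`
  set C := Finset.univ.image (fun g : W => g * u * g⁻¹) with hCdef
  have hC : Nat.card W ≤ 4 * C.card := by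
    rw [Nat.card_eq_fintype_card, ← Finset.card_univ]
    refine Finset.card_le_mul_card_image _ _ fun c hc' => ?_
    obtain ⟨a, -, rfl⟩ := Finset.mem_image.1 hc'
    refine le_trans (Finset.card_le_card_of_injOn (fun g => a⁻¹ * g) (fun g hg => ?_)
      (mul_right_injective a⁻¹).injOn) hcent
    have h1 : g * u * g⁻¹ = a * u * a⁻¹ := (Finset.mem_filter.1 hg).2
    refine Finset.mem_filter.2 ⟨Finset.mem_univ _, ?_⟩
    calc a⁻¹ * g * u = a⁻¹ * (g * u * g⁻¹) * g := by group
      _ = a⁻¹ * (a * u * a⁻¹) * g := by rw [h1]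
      _ = _ := by group
  have hCS : C ⊆ (S.erase 1).erase τ := fun c hc' => by
    obtain ⟨a, -, rfl⟩ := Finset.mem_image.1 hc'
    refine Finset.mem_erase.2 ⟨fun e => hut ?_, Finset.mem_erase.2 ⟨fun e => ?_,
      Finset.mem_filter.2 ⟨Finset.mem_univ _, ?_⟩⟩⟩
    · have h1 : u = τ := by
        calc u = a⁻¹ * (a * u * a⁻¹) * a := by group
          _ = a⁻¹ * (τ * a) := by rw [e, mul_assoc]
          _ = τ := by rw [← hτc a, inv_mul_cancel_left]
      exact congrArg Subtype.val h1
    · rw [mul_inv_eq_one, mul_eq_left] at e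
      rw [e, orderOf_one] at huo
      omega
    · calc a * u * a⁻¹ * (a * u * a⁻¹) = a * (u * u) * a⁻¹ := by group
        _ = 1 := by rw [huu]; group
  have hSc : Nat.card W + 8 ≤ 4 * S.card := by
    have h1 := Finset.card_le_card hCS
    have h2 : (S.erase 1).card = S.card - 1 :=
      Finset.card_erase_of_mem (Finset.mem_filter.2 ⟨Finset.mem_univ _, one_mul 1⟩)
    have h3 : ((S.erase 1).erase τ).card = (S.erase 1).card - 1 :=
      Finset.card_erase_of_mem (Finset.mem_erase.2 ⟨fun e => by rw [e, orderOf_one] at hτo; omega,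
        Finset.mem_filter.2 ⟨Finset.mem_univ _, sq_eq_one_of_orderOf hτo⟩⟩)
    have h4 : 0 < C.card := Finset.card_pos.2 ⟨_, Finset.mem_image_of_mem _ (Finset.mem_univ 1)⟩
    omega
  have hSle : S.card ≤ Nat.card R := hRcard ▸ Finset.card_le_card hSR
  have hS2 : 2 * S.card ≤ Nat.card R + 4 := by
    set S' := S.image (u * ·) with hS'
    have h1 : S'.card = S.card := Finset.card_image_of_injective _ (mul_right_injective u)
    have h2 : S ∪ S' ⊆ Rf := Finset.union_subset hSR fun g hg => by
      obtain ⟨s, hs, rfl⟩ := Finset.mem_image.1 hg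
      exact Finset.mem_filter.2 ⟨Finset.mem_univ _,
        mul_mem huR (Finset.mem_filter.1 (hSR hs)).2⟩
    have h3 : (S ∩ S').card ≤ 4 := by
      refine le_trans (Finset.card_le_card fun g hg => ?_) hcent
      obtain ⟨hg1, hg2⟩ := Finset.mem_inter.1 hg
      obtain ⟨s, hs, rfl⟩ := Finset.mem_image.1 hg2
      have hss : s * s = 1 := (Finset.mem_filter.1 hs).2
      have hgg : u * s * (u * s) = 1 := (Finset.mem_filter.1 hg1).2
      refine Finset.mem_filter.2 ⟨Finset.mem_univ _, ?_⟩
      have h4 : s * u = u * s := by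
        calc s * u = (u * u) * (s * u) * (s * s) := by rw [huu, hss]; group
          _ = u * (u * s * (u * s)) * s := by group
          _ = u * s := by rw [hgg, mul_one]
      show u * s * u = u * (u * s)
      rw [mul_assoc, h4]
    have h5 := Finset.card_union_add_card_inter S S'
    have h6 := Finset.card_le_card h2
    omega
  obtain ⟨e, he⟩ := Subgroup.card_subgroup_dvd_card R
  obtain ⟨k, hk⟩ := (Base.isPGroup_pCore 2 W : IsPGroup 2 R).exists_card_eq
  have he4 : e < 4 := by
    by_contra hcon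
    have := Nat.mul_le_mul_left (Nat.card R) (not_lt.1 hcon)
    omega
  have he0 : e ≠ 0 := fun e0 => by
    rw [e0, mul_zero] at he
    exact absurd he Nat.card_pos.ne'
  have he3 : e ≠ 3 := fun e3 => by rw [e3] at he; omega
  rcases (show e = 1 ∨ e = 2 by omega) with rfl | rfl
  · exact IsPGroup.of_card (n := k) (by rw [he, mul_one, hk])
  · exact IsPGroup.of_card (n := k + 1) (by rw [he, hk, pow_succ])

theorem commute_of_map {M : Type*} [Group M] {φ : M →* G} (hφ : Function.Injective φ)
    {x y : M} (h : Commute (φ x) (φ y)) : Commute x y := hφ (by rw [map_mul, map_mul]; exact h.eq)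

/-- The property fails in the presence of an elementary abelian 2-subgroup of order at least
eight. -/
theorem SelfCentNC.card_elem [Finite G] (h : SelfCentNC G) {M : Type*} [CommGroup M]
    (hM : ∀ m : M, m * m = 1) (φ : M →* G) (hφ : Function.Injective φ) : Nat.card M ≤ 4 := by
  classical
  haveI : Finite M := Finite.of_injective φ hφ
  rcases le_or_gt (Nat.card M) 4 with hle | hlt
  · exact hle
  exfalso
  obtain ⟨a, b, ha, hb, hab⟩ : ∃ a b : M, a ≠ 1 ∧ b ≠ 1 ∧ a ≠ b := by
    letI := Fintype.ofFinite M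
    obtain ⟨a, ha⟩ := Fintype.exists_ne_of_one_lt_card
      (by rw [← Nat.card_eq_fintype_card]; omega) (1 : M)
    have h2 : ({1, a} : Finset M).card < Fintype.card M := by
      have := (Finset.card_le_two (a := (1 : M)) (b := a))
      rw [← Nat.card_eq_fintype_card]
      omega
    obtain ⟨b, hb⟩ := Finset.exists_mem_notMem_of_card_lt_card (s := ({1, a} : Finset M)) (t := (Finset.univ : Finset M))
      (by rwa [Finset.card_univ])
    simp only [Finset.mem_insert, Finset.mem_singleton, not_or] at hb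
    exact ⟨a, b, ha, hb.2.1, fun e => hb.2.2 e.symm⟩
  have ho : ∀ m : M, m ≠ 1 → orderOf (φ m) = 2 := fun m hm =>
    orderOf_eq_two (by rw [← map_mul, hM, map_one]) fun e => hm (hφ (by rw [e, map_one]))
  have h1 := h.card_le_four (ho a ha) (ho b hb) (fun e => hab (hφ e))
    ((Commute.all a b).map φ) (T := Set.range φ) (by
      rintro g ⟨m, rfl⟩
      exact ⟨(Commute.all m a).map φ, (Commute.all m b).map φ⟩)
  rw [Nat.card_range_of_injective hφ] at h1
  omega

/-- The transvections fixing a line pointwise. -/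
def transv (F : Type*) [Field F] (v : Multiplicative (F × F)) :
    Matrix.SpecialLinearGroup (Fin 3) F :=
  ⟨!![1, v.toAdd.1, v.toAdd.2; 0, 1, 0; 0, 0, 1], by simp [Matrix.det_fin_three]⟩

/-- `PSL₃(4)` does not have the property. -/
theorem not_selfCent_of_isL34 [Finite G] (h : SelfCentNC G) : ¬ IsL34 G := by
  rintro ⟨F, hF, hF', h4, ⟨e⟩⟩
  haveI : CharP F 2 := by
    obtain ⟨p, hp⟩ := CharP.exists F
    obtain ⟨n, hpp, hn⟩ := FiniteField.card F p
    rw [h4] at hn
    obtain rfl : p = 2 := (Nat.prime_dvd_prime_iff_eq hpp Nat.prime_two).1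
      (hpp.dvd_of_dvd_pow (show p ∣ 2 ^ 2 by
        rw [show (2 : ℕ) ^ 2 = 4 by norm_num, hn]; exact dvd_pow_self p n.pos.ne'))
    exact hp
  let τ : Multiplicative (F × F) →* Matrix.SpecialLinearGroup (Fin 3) F :=
    MonoidHom.mk' (transv F) fun v w => by
      refine Subtype.ext ?_
      show _ = (transv F v).1 * (transv F w).1
      ext i j
      fin_cases i <;> fin_cases j <;>
        simp [transv, Matrix.mul_apply, Fin.sum_univ_three, add_comm]
  let φ : Multiplicative (F × F) →* G :=
    e.symm.toMonoidHom.comp ((QuotientGroup.mk' _).comp τ)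
  have hφ : Function.Injective φ := by
    refine (injective_iff_map_eq_one φ).2 fun v hv => ?_
    have h1 : τ v ∈ Subgroup.center (Matrix.SpecialLinearGroup (Fin 3) F) :=
      (QuotientGroup.eq_one_iff _).1 (e.symm.injective (hv.trans (map_one _).symm))
    obtain ⟨r, -, hr⟩ := Matrix.SpecialLinearGroup.mem_center_iff.1 h1
    have h01 := congrFun (congrFun hr 0) 1
    have h02 := congrFun (congrFun hr 0) 2
    simp [τ] at h01 h02
    exact Multiplicative.toAdd.injective (Prod.ext h01.symm h02.symm)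
  have h1 := h.card_elem (fun m => Multiplicative.toAdd.injective (by
    rw [toAdd_mul, toAdd_one]
    exact Prod.ext (CharTwo.add_self_eq_zero _) (CharTwo.add_self_eq_zero _))) φ hφ
  rw [Nat.card_congr Multiplicative.toAdd, Nat.card_prod, Nat.card_eq_fintype_card, h4] at h1
  omega

/-- The groups of the classification with the property. -/
theorem exists_psl_of_known [Finite G] [IsSimpleGroup G] (h : SelfCentNC G) (hK : Known G) :
    ∃ (F : Type) (_ : Field F) (_ : Fintype F),
      (Fintype.card F = 4 ∨ Fintype.card F = 9 ∨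
        ((Fintype.card F).Prime ∧ ∃ k : ℕ, Fintype.card F = 2 ^ k + 1 ∨ Fintype.card F = 2 ^ k - 1)) ∧
      Nonempty (G ≃* Matrix.ProjectiveSpecialLinearGroup (Fin 2) F) := by
  rcases hK with ⟨⟨S, D, q, hd⟩, -⟩ | ⟨⟨F, hF, hF', hc, he⟩, -⟩ | h34
  · have hq := hd.four_le
    haveI : Nontrivial {t : G // t ∈ S ∧ orderOf t = 2} :=
      Finite.one_lt_card_iff_nontrivial.1 (by rw [hd.card_invol]; omega)
    obtain ⟨a, b, hab⟩ := exists_pair_ne {t : G // t ∈ S ∧ orderOf t = 2}
    have haa := sq_eq_one_of_orderOf a.2.2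
    have hbb := sq_eq_one_of_orderOf b.2.2
    have hS : Nat.card S ≤ 4 := h.card_le_four a.2.2 b.2.2 (fun e => hab (Subtype.ext e))
      (hd.central _ b.2.1 hbb _ a.2.1) (T := (S : Set G))
      fun g hg => ⟨hd.central _ a.2.1 haa g hg, hd.central _ b.2.1 hbb g hg⟩
    have hle := hd.card_le
    have h60 : Nat.card G = 60 := by
      rw [hd.card_G, show Nat.card S = 4 by omega, show q = 4 by omega]
    obtain ⟨i⟩ := Small.equiv_alternating_five h60
    haveI : Fact (Nat.Prime 2) := ⟨Nat.prime_two⟩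
    letI : Fintype (GaloisField 2 2) := Fintype.ofFinite _
    have h4 : Nat.card (GaloisField 2 2) = 4 := GaloisField.card 2 2 two_ne_zero
    haveI : IsSimpleGroup (Matrix.ProjectiveSpecialLinearGroup (Fin 2) (GaloisField 2 2)) :=
      Classical.isSimpleGroup_PSL_fin 2 le_rfl fun _ => h4.ge
    obtain ⟨k⟩ := Small.equiv_alternating_five
      (show Nat.card (Matrix.ProjectiveSpecialLinearGroup (Fin 2) (GaloisField 2 2)) = 60 by
        rw [Classical.card_PSL_two, h4]; rfl)
    exact ⟨GaloisField 2 2, inferInstance, inferInstance,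
      Or.inl (by rw [← Nat.card_eq_fintype_card, h4]), ⟨i.trans k.symm⟩⟩
  · refine ⟨F, hF, hF', Or.inr ?_, he⟩
    rcases hc with hc | ⟨hp, k, hk | hk⟩
    · exact Or.inl hc
    · exact Or.inr ⟨hp, k, Or.inl hk⟩
    · exact Or.inr ⟨hp, k, Or.inr (by omega)⟩
  · exact absurd h34 (not_selfCent_of_isL34 h)

section Backward

open MulAction Matrix CfsgLib.PSL2 CfsgLib.Classical
open scoped LinearAlgebra.Projectivization

variable {F : Type*} [Field F] [Finite F] {p : ℕ} [Fact p.Prime] [CharP F p]

local notation "PG" => Matrix.ProjGenLinGroup (Fin 2) F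
local notation "E2" => Ext2 F p
local notation "PE" => ℙ (Ext2 F p) (Fin 2 → Ext2 F p)

/-- In the groups of the list a non-cyclic subgroup contains what centralises it. -/
theorem mem_of_centralizes (hq : Nat.card F ∣ p ^ 2)
    (htor : ∀ a : PE, Odd (Nat.card F) → 4 ∣ torusCard a → ∃ j, torusCard a = 2 ^ j)
    {z : PG} (hz : z ∈ pslRange F) (hz1 : z ≠ 1) {H : Subgroup PG} (hH : H ≤ pslRange F)
    (hnc : ¬ IsCyclic H) (hcomm : ∀ w ∈ H, Commute w z) : z ∈ H := by
  classical
  haveI := charP_ext2 (F := F) (p := p)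
  have hP : P1Like p PG PE := p1Like_ext
  obtain ⟨a, ha⟩ := exists_fix_ext (p := p) z
  by_cases hzp : z ^ p = 1
  · -- a unipotent element
    set C := Subgroup.centralizer ({z} : Set PG) ⊓ pslRange F
    have hexp : ∀ w ∈ C, w ^ p = 1 := fun w hw => by
      have hwz : Commute w z := Subgroup.mem_centralizer_singleton_iff.1 hw.1
      have hwa : w • a = a :=
        (hP.unique_fix hz1 hzp ha (by rw [← mul_smul, ← hwz.eq, mul_smul, ha])).symm
      by_contra hwp
      obtain ⟨b, hba, hb⟩ := hP.exists_other hwp hwa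
      have hzb : z • b = b := by
        by_contra hne
        refine hwp ?_
        rw [hP.sharp hba.symm (fun e => hba (smul_left_cancel z (e.symm.trans ha.symm)))
          (Ne.symm hne) hwa hb (by rw [← mul_smul, hwz.eq, mul_smul, hb]), one_pow]
      exact hba (hP.unique_fix hz1 hzp ha hzb).symm
    have hC : IsPGroup p C := fun w => ⟨1, by
      rw [pow_one]; exact Subtype.ext (hexp w w.2)⟩
    obtain ⟨j, hj⟩ := hC.exists_card_eq
    have hdvd : Nat.card C ∣ p ^ 2 := by
      refine (Nat.Coprime.dvd_of_dvd_mul_right (n := Nat.card F ^ 2 - 1) ?_ ?_).trans hq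
      · rw [hj]
        refine Nat.Coprime.pow_left _ ((Fact.out : p.Prime).coprime_iff_not_dvd.2 fun hd => ?_)
        obtain ⟨n, hpp, hn⟩ := (letI := Fintype.ofFinite F; FiniteField.card F p)
        have h1 : p ∣ Nat.card F ^ 2 := by
          rw [@Nat.card_eq_fintype_card F (Fintype.ofFinite F), hn, ← pow_mul]
          exact dvd_pow_self p (by have := n.pos; positivity)
        have h2 := Nat.dvd_sub h1 hd
        have h3 : 1 ≤ Nat.card F ^ 2 := Nat.one_le_pow _ _ Nat.card_pos
        rw [show Nat.card F ^ 2 - (Nat.card F ^ 2 - 1) = 1 by omega] at h2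
        exact hpp.not_dvd_one h2
      · refine (Subgroup.card_dvd_of_le (inf_le_right (a := Subgroup.centralizer ({z} : Set PG)))).trans ?_
        rw [pslRange, ← Nat.card_congr
          (MonoidHom.ofInjective ProjectiveSpecialLinearGroup.toPGL_injective).toEquiv,
          ← card_PSL_two_mul]
        exact dvd_mul_left _ _
    have hHC : H ≤ C := le_inf (fun w hw =>
      Subgroup.mem_centralizer_singleton_iff.2 (hcomm w hw).eq) hH
    obtain ⟨i, hi⟩ := (hC.to_le hHC).exists_card_eq
    have h2 : Nat.card H ∣ p ^ 2 := (Subgroup.card_dvd_of_le hHC).trans hdvd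
    have hi2 : i = 2 := by
      rw [hi] at h2
      have h3 := (Nat.pow_dvd_pow_iff_le_right (Fact.out : p.Prime).one_lt).1 h2
      rcases i with _ | _ | i
      · exact absurd (by
          rw [Subgroup.eq_bot_of_card_eq H (by rw [hi, pow_zero])]
          infer_instance) hnc
      · exact absurd (isCyclic_of_prime_card (p := p) (by rw [hi, pow_one])) hnc
      · omega
    have heq : H = C := Subgroup.eq_of_le_of_card_ge hHC
      (by rw [hi, hi2]; exact Nat.le_of_dvd (pow_pos (Fact.out : p.Prime).pos _) hdvd)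
    rw [heq]
    exact ⟨Subgroup.mem_centralizer_singleton_iff.2 rfl, hz⟩
  -- a semisimple element
  obtain ⟨b, hba, hb⟩ := hP.exists_other hzp ha
  have hpair : ∀ {a b : PE}, a ≠ b → z • a = a → z • b = b → ∀ w ∈ H,
      (w • a = a ∧ w • b = b) ∨ (w • a = b ∧ w • b = a) := by
    intro a b hab ha hb w hw
    have hfix : ∀ c : PE, z • c = c → c = a ∨ c = b := fun c hc => by
      by_contra hcon
      rw [not_or] at hcon
      exact hz1 (hP.sharp hab (Ne.symm hcon.1) (Ne.symm hcon.2) ha hb hc)
    have hwz := hcomm w hw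
    rcases hfix (w • a) (by rw [← mul_smul, ← hwz.eq, mul_smul, ha]) with h1 | h1 <;>
      rcases hfix (w • b) (by rw [← mul_smul, ← hwz.eq, mul_smul, hb]) with h2 | h2
    · exact absurd (smul_left_cancel w (h1.trans h2.symm)) hab
    · exact Or.inl ⟨h1, h2⟩
    · exact Or.inr ⟨h1, h2⟩
    · exact absurd (smul_left_cancel w (h1.trans h2.symm)) hab
  by_cases hz2 : z * z = 1
  swap
  · -- no element swaps the two fixed points
    refine absurd ?_ hnc
    have hle : H ≤ stabilizer PG a ⊓ stabilizer PG b := fun w hw => by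
      rcases hpair hba.symm ha hb w hw with ⟨h1, h2⟩ | ⟨h1, h2⟩
      · exact ⟨h1, h2⟩
      · exfalso
        have hw2 := hP.swap_sq hba.symm h1 h2
        have hwz2 := hP.swap_sq hba.symm
          (show (w * z) • a = b by rw [mul_smul, ha, h1])
          (show (w * z) • b = a by rw [mul_smul, hb, h2])
        refine hz2 ?_
        calc z * z = (w * w) * (z * z) := by rw [hw2, one_mul]
          _ = w * (w * z) * z := by group
          _ = w * (z * w) * z := by rw [(hcomm w hw).eq]
          _ = 1 := by rw [← hwz2]; group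
    haveI := hP.two_cyclic hba.symm
    exact isCyclic_of_injective (Subgroup.inclusion hle) (Subgroup.inclusion_injective hle)
  -- an involution
  have hodd : Odd (Nat.card F) := by
    haveI := Fintype.ofFinite F
    obtain ⟨n, hpp, hn⟩ := FiniteField.card F p
    rw [Nat.card_eq_fintype_card, hn]
    refine (hpp.odd_of_ne_two fun e => hzp ?_).pow
    rw [e, pow_two, hz2]
  obtain ⟨c, d, hg, hzc, hzd, h4⟩ := invol_fix (p := p) hodd hz hz1 hz2
  have hcd := hg.1
  set A := stabilizer PG c ⊓ stabilizer PG d with hA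
  haveI : Fact (Nat.Prime 2) := ⟨Nat.prime_two⟩
  obtain ⟨j, hj⟩ := htor c hodd h4
  have hA2 : IsPGroup 2 A := IsPGroup.of_card (n := j) (by rw [hA, card_torus hg, hj])
  rcases eq_or_ne (H ⊓ A) ⊥ with hbot | hne
  · refine absurd ?_ hnc
    by_cases hex : ∃ w ∈ H, w ≠ 1
    swap
    · push Not at hex
      rw [(Subgroup.eq_bot_iff_forall H).2 hex]
      infer_instance
    obtain ⟨w, hw, hw1⟩ := hex
    have hswap : ∀ v ∈ H, v ≠ 1 → v • c = d ∧ v • d = c := fun v hv hv1 => by
      rcases hpair hcd hzc hzd v hv with h1 | h1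
      · exact absurd (Subgroup.mem_bot.1 (hbot ▸ (⟨hv, h1.1, h1.2⟩ : v ∈ H ⊓ A))) hv1
      · exact h1
    have hgen : ∀ v ∈ H, v = 1 ∨ v = w := fun v hv => by
      by_contra hcon
      rw [not_or] at hcon
      obtain ⟨h1, h2⟩ := hswap w hw hw1
      obtain ⟨h3, h4⟩ := hswap v hv hcon.1
      have h5 : w * v = 1 := Subgroup.mem_bot.1 (hbot ▸ (⟨mul_mem hw hv,
        show (w * v) • c = c by rw [mul_smul, h3, h2],
        show (w * v) • d = d by rw [mul_smul, h4, h1]⟩ : w * v ∈ H ⊓ A))
      exact hcon.2 (mul_left_cancel (h5.trans (hP.swap_sq hcd h1 h2).symm))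
    refine ⟨⟨⟨w, hw⟩, fun v => ?_⟩⟩
    rcases hgen v v.2 with h1 | h1
    · exact ⟨0, Subtype.ext (by rw [h1]; simp)⟩
    · exact ⟨1, Subtype.ext (by rw [h1]; simp)⟩
  · obtain ⟨x, hx, hxo⟩ := EPPOTwo.exists_involution (hA2.to_le inf_le_right) hne
    have hxz : x = z := invol_unique hcd (fun e => by rw [e, orderOf_one] at hxo; omega) hz1
      (sq_eq_one_of_orderOf hxo) hz2 hx.2.1 hx.2.2 hzc hzd
    exact hxz ▸ hx.1

end Backward

/-- The groups of the list have the property. -/
theorem selfCentNC_of_psl {F : Type} [Field F] [Fintype F]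
    (hc : Fintype.card F = 4 ∨ Fintype.card F = 9 ∨
      ((Fintype.card F).Prime ∧ ∃ k : ℕ, Fintype.card F = 2 ^ k + 1 ∨ Fintype.card F = 2 ^ k - 1))
    (e : G ≃* Matrix.ProjectiveSpecialLinearGroup (Fin 2) F) : SelfCentNC G := by
  classical
  obtain ⟨p, hp⟩ := CharP.exists F
  obtain ⟨n, hpp, hn⟩ := FiniteField.card F p
  haveI : Fact p.Prime := ⟨hpp⟩
  have hcard : Nat.card F = Fintype.card F := Nat.card_eq_fintype_card
  have hn2 : (n : ℕ) ≤ 2 := by
    by_contra hcon
    have h3 := Nat.pow_le_pow_right hpp.pos (show 3 ≤ (n : ℕ) by omega)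
    have h8 : 2 ^ 3 ≤ p ^ 3 := Nat.pow_le_pow_left hpp.two_le 3
    rcases hc with hc | hc | ⟨hc, -⟩
    · omega
    · rw [hc] at hn
      rcases eq_or_ne p 2 with rfl | hp2
      · exact absurd (hn ▸ dvd_pow_self 2 n.pos.ne' : 2 ∣ 9) (by decide)
      · have := Nat.pow_le_pow_left (show 3 ≤ p by have := hpp.two_le; omega) 3
        omega
    · rw [hn] at hc
      have := hc.eq_one_of_pow
      omega
  intro H hnc c hcH
  rcases eq_or_ne c 1 with rfl | hc1
  · exact one_mem H
  let φ : G →* Matrix.ProjGenLinGroup (Fin 2) F :=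
    (Matrix.ProjectiveSpecialLinearGroup.toPGL (n := Fin 2) (R := F)).comp e.toMonoidHom
  have hφ : Function.Injective φ :=
    Matrix.ProjectiveSpecialLinearGroup.toPGL_injective.comp e.injective
  have hmem : φ c ∈ H.map φ := by
    refine mem_of_centralizes (p := p) ?_ ?_ ⟨e c, rfl⟩
      (fun h1 => hc1 (hφ (h1.trans (map_one φ).symm))) ?_ ?_ ?_
    · rw [hcard, hn]
      exact pow_dvd_pow p hn2
    · intro a hodd h4
      unfold PSL2.torusCard at h4 ⊢
      rw [hcard] at hodd h4 ⊢
      obtain ⟨r, hr⟩ := hodd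
      rcases hc with hc | hc | ⟨hcp, k, hk | hk⟩
      · omega
      · split_ifs at h4 ⊢
        · exact ⟨3, by omega⟩
        · omega
      · rcases k with _ | _ | k
        · simp at hk; omega
        · split_ifs at h4 ⊢
          · exact ⟨1, by omega⟩
          · exact ⟨2, by omega⟩
        · split_ifs at h4 ⊢
          · exact ⟨k + 1 + 1, by omega⟩
          · exfalso
            rw [pow_succ, pow_succ] at hk
            omega
      · rcases k with _ | _ | k
        · simp at hk
        · simp at hk; rw [hk] at hcp; exact absurd hcp Nat.not_prime_one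
        · split_ifs at h4 ⊢
          · exfalso
            rw [pow_succ, pow_succ] at hk
            omega
          · exact ⟨k + 1 + 1, by
              have := Nat.one_le_pow (k + 1 + 1) 2 two_pos
              omega⟩
    · rintro _ ⟨w, -, rfl⟩
      exact ⟨e w, rfl⟩
    · intro hcyc
      exact hnc (isCyclic_of_injective (H.equivMapOfInjective φ hφ).toMonoidHom
        (H.equivMapOfInjective φ hφ).injective)
    · rintro _ ⟨w, hw, rfl⟩
      exact (show Commute w c from Subgroup.mem_centralizer_iff.1 hcH w hw).map φ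
  obtain ⟨w, hw, he⟩ := hmem
  exact hφ he ▸ hw

end CfsgLib.Recog.CIT

/-!
The classification of `CIT` groups turns the property into the list.
-/

namespace CfsgLib.Recog.CIT

universe v

/-- The characterisation, given the classification of `CIT` groups. -/
theorem selfCentNC_iff {G : Type v} [Group G] [Finite G] [IsSimpleGroup G]
    (hnab : ∃ a b : G, a * b ≠ b * a) (hknown : CIT G → Known G) :
    SelfCentNC G ↔ ∃ (F : Type) (_ : Field F) (_ : Fintype F),
      (Fintype.card F = 4 ∨ Fintype.card F = 9 ∨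
        ((Fintype.card F).Prime ∧ ∃ k : ℕ, Fintype.card F = 2 ^ k + 1 ∨ Fintype.card F = 2 ^ k - 1)) ∧
      Nonempty (G ≃* Matrix.ProjectiveSpecialLinearGroup (Fin 2) F) :=
  ⟨fun h => exists_psl_of_known h (hknown (h.cit hnab)), by
    rintro ⟨F, _, _, hc, ⟨e⟩⟩
    exact selfCentNC_of_psl hc e⟩

end CfsgLib.Recog.CIT
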